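import Cfsg.Agent.MinD.Rp1
import Mathlib.Analysis.Fourier.FiniteAbelian.PontryaginDuality

/-! Minimal degrees of complex representations of exceptional groups, part 1: eigenspaces `Eg x χ` of
additive families `x : A → G` and Heisenberg steps. -/

set_option autoImplicit false
set_option linter.unusedSectionVars false

namespace Cfsg.Agent.MinD

open Module
open scoped _root_.Classical

variable {G : Type*} [Group G] [Finite G] {M : Type*} [AddCommGroup M] [Module ℂ M] [FiniteDimensional ℂ M]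
  (ρ : Representation ℂ G M) {A : Type*} [AddCommGroup A] [Fintype A]

/-- Eigenspace of a family for a character. -/
def Eg (x : A → G) (χ : AddChar A ℂ) : Submodule ℂ M where
  carrier := {v | ∀ t, ρ (x t) v = χ t • v}
  zero_mem' := fun t => by simp
  add_mem' := fun {a b} ha hb t => by rw [map_add, ha t, hb t, smul_add]
  smul_mem' := fun c a ha t => by rw [map_smul, ha t, smul_comm]

/-- A submodule is stable under a family. -/
def Sta {B : Type*} (N : Submodule ℂ M) (x : B → G) : Prop := ∀ t, ∀ v ∈ N, ρ (x t) v ∈ N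

variable {ρ}

theorem mem_Eg {x : A → G} {χ : AddChar A ℂ} {v : M} : v ∈ Eg ρ x χ ↔ ∀ t, ρ (x t) v = χ t • v := Iff.rfl

theorem mem_Eg_zero {x : A → G} {v : M} : v ∈ Eg ρ x 0 ↔ ∀ t, ρ (x t) v = v := by simp [mem_Eg]

theorem Sta.inf {B : Type*} {N N' : Submodule ℂ M} {x : B → G} (h : Sta ρ N x) (h' : Sta ρ N' x) :
    Sta ρ (N ⊓ N') x := fun t v hv => ⟨h t v hv.1, h' t v hv.2⟩

theorem sta_top {B : Type*} (x : B → G) : Sta ρ ⊤ x := fun _ _ _ => trivial

theorem sta_Eg {B : Type*} {x : A → G} {y : B → G} (h : ∀ t u, x t * y u = y u * x t) (χ : AddChar A ℂ) :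
    Sta ρ (Eg ρ x χ) y := fun u v hv t => by rw [← rho_mul, h, rho_mul, hv t, map_smul]

theorem finrank_le_of_rho {N N' : Submodule ℂ M} (g : G) (h : ∀ v ∈ N, ρ g v ∈ N') :
    finrank ℂ N ≤ finrank ℂ N' :=
  LinearMap.finrank_le_finrank_of_injective (f := (ρ g).restrict h) fun _ _ e =>
    Subtype.ext (rho_inj ρ g (congrArg Subtype.val e))

theorem ne_bot_of_rho {N N' : Submodule ℂ M} (g : G) (h : ∀ v ∈ N, ρ g v ∈ N') (h0 : N ≠ ⊥) : N' ≠ ⊥ :=
  fun e => h0 (Submodule.finrank_eq_zero.1 (by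
    have := finrank_le_of_rho g h
    rw [e, finrank_bot] at this
    omega))

theorem finrank_eq_sum {x : A → G} (hx : ∀ t u, x (t + u) = x t * x u) {N : Submodule ℂ M} (hN : Sta ρ N x) :
    finrank ℂ N = ∑ χ, finrank ℂ ↥(N ⊓ Eg ρ x χ) := by
  have hc : (Fintype.card A : ℂ) ≠ 0 := Nat.cast_ne_zero.2 Fintype.card_ne_zero
  have x0 : x 0 = 1 := mul_eq_left.1 ((hx 0 0).symm.trans (by rw [add_zero]))
  let p : AddChar A ℂ → M →ₗ[ℂ] M := fun χ => (Fintype.card A : ℂ)⁻¹ • ∑ t, χ (-t) • ρ (x t)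
  have hp : ∀ χ v, p χ v = (Fintype.card A : ℂ)⁻¹ • ∑ t, χ (-t) • ρ (x t) v := fun χ v => by
    simp [p, LinearMap.sum_apply]
  have h1 : ∀ χ, ∀ v ∈ N, p χ v ∈ N ⊓ Eg ρ x χ := fun χ v hv => by
    refine ⟨by rw [hp]; exact N.smul_mem _ (N.sum_mem fun t _ => N.smul_mem _ (hN t v hv)), fun u => ?_⟩
    rw [hp, map_smul, smul_comm, map_sum, Finset.smul_sum (r := χ u)]
    congr 1
    refine Fintype.sum_equiv (Equiv.addLeft u) _ _ fun t => ?_
    rw [map_smul, ← rho_mul, ← hx, smul_smul, ← AddChar.map_add_eq_mul]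
    simp
  have h2 : ∀ χ χ', ∀ v ∈ Eg ρ x χ', p χ v = if χ' = χ then v else 0 := fun χ χ' v hv => by
    rw [hp, Finset.sum_congr rfl fun t _ => show χ (-t) • ρ (x t) v = (χ' - χ) t • v by
      rw [hv t, smul_smul, AddChar.sub_apply, mul_comm], ← Finset.sum_smul, AddChar.sum_eq_ite, smul_smul]
    simp only [sub_eq_zero]
    split_ifs <;> simp [hc]
  have h3 : ∀ v, ∑ χ, p χ v = v := fun v => by
    simp only [hp]
    rw [← Finset.smul_sum, Finset.sum_comm]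
    simp only [← Finset.sum_smul, AddChar.sum_apply_eq_ite, neg_eq_zero, ite_smul, zero_smul,
      Finset.sum_ite_eq', Finset.mem_univ, if_true, x0, map_one, smul_smul, Module.End.one_apply]
    simp [hc]
  rw [← finrank_pi_fintype]
  refine le_antisymm (LinearMap.finrank_le_finrank_of_injective
    (f := LinearMap.pi fun χ => (p χ).restrict (h1 χ)) ((injective_iff_map_eq_zero _).2 fun v hv => ?_))
    (LinearMap.finrank_le_finrank_of_injective (f := ∑ χ, Submodule.inclusion inf_le_left ∘ₗ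
      LinearMap.proj (φ := fun χ => ↥(N ⊓ Eg ρ x χ)) χ) ((injective_iff_map_eq_zero _).2 fun v hv => ?_))
  · refine Subtype.ext ((h3 v).symm.trans (Finset.sum_eq_zero fun χ _ => ?_))
    exact congrArg Subtype.val (congrFun hv χ)
  · refine funext fun χ => Subtype.ext ?_
    have := congrArg (fun w : N => p χ w) hv
    simpa [LinearMap.sum_apply, map_sum, fun χ' => h2 χ χ' _ (v χ').2.2] using this

theorem finrank_eq_add {x : A → G} (hx : ∀ t u, x (t + u) = x t * x u) {N : Submodule ℂ M} (hN : Sta ρ N x) :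
    finrank ℂ N = finrank ℂ ↥(N ⊓ Eg ρ x 0) + ∑ χ ∈ Finset.univ.erase 0, finrank ℂ ↥(N ⊓ Eg ρ x χ) := by
  rw [finrank_eq_sum hx hN, Finset.add_sum_erase _ (fun χ => finrank ℂ ↥(N ⊓ Eg ρ x χ)) (Finset.mem_univ _)]

theorem finrank_eq_add_mul {x : A → G} (hx : ∀ t u, x (t + u) = x t * x u) {N : Submodule ℂ M} (hN : Sta ρ N x)
    {d : ℕ} (h : ∀ χ ≠ 0, finrank ℂ ↥(N ⊓ Eg ρ x χ) = d) :
    finrank ℂ N = finrank ℂ ↥(N ⊓ Eg ρ x 0) + (Fintype.card A - 1) * d := by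
  rw [finrank_eq_add hx hN, Finset.sum_congr rfl fun χ hχ => h χ (Finset.ne_of_mem_erase hχ), Finset.sum_const,
    Finset.card_erase_of_mem (Finset.mem_univ _), Finset.card_univ, AddChar.card_eq, smul_eq_mul]

theorem add_mul_le_finrank {x : A → G} (hx : ∀ t u, x (t + u) = x t * x u) {N : Submodule ℂ M} (hN : Sta ρ N x)
    {d : ℕ} (h : ∀ χ ≠ 0, d ≤ finrank ℂ ↥(N ⊓ Eg ρ x χ)) :
    finrank ℂ ↥(N ⊓ Eg ρ x 0) + (Fintype.card A - 1) * d ≤ finrank ℂ N := by
  rw [finrank_eq_add hx hN, ← AddChar.card_eq (α := A), ← Finset.card_univ,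
    ← Finset.card_erase_of_mem (Finset.mem_univ 0), ← smul_eq_mul]
  exact Nat.add_le_add_left (Finset.card_nsmul_le_sum _ _ _ fun χ hχ => h χ (Finset.ne_of_mem_erase hχ)) _

theorem exists_Eg {x : A → G} (hx : ∀ t u, x (t + u) = x t * x u) {N : Submodule ℂ M} (hN : Sta ρ N x)
    (h : ¬ N ≤ Eg ρ x 0) : ∃ χ ≠ 0, N ⊓ Eg ρ x χ ≠ ⊥ := by
  by_contra! h0
  have := finrank_eq_add_mul hx hN (d := 0) fun χ hχ => by rw [h0 χ hχ, finrank_bot]
  exact h (inf_eq_left.1 (Submodule.eq_of_le_of_finrank_eq inf_le_left (by omega)))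

theorem heis_equi {B : Type*} {x : A → G} {y : B → G} {N : Submodule ℂ M} (hN : Sta ρ N y)
    {φ : B → AddChar A ℂ} (hφ : Function.Surjective φ)
    (h : ∀ t u, ∀ v ∈ N, ρ (x t) (ρ (y u) v) = φ u t • ρ (y u) (ρ (x t) v)) (χ χ' : AddChar A ℂ) :
    finrank ℂ ↥(N ⊓ Eg ρ x χ) = finrank ℂ ↥(N ⊓ Eg ρ x χ') := by
  have key : ∀ χ χ' : AddChar A ℂ, finrank ℂ ↥(N ⊓ Eg ρ x χ) ≤ finrank ℂ ↥(N ⊓ Eg ρ x χ') := fun χ χ' => by
    obtain ⟨u, hu⟩ := hφ (χ' - χ)
    refine finrank_le_of_rho (ρ := ρ) (y u) fun v hv => ⟨hN u v hv.1, fun t => ?_⟩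
    rw [h t u v hv.1, hv.2 t, map_smul, smul_smul, hu, ← AddChar.add_apply, sub_add_cancel]
  exact le_antisymm (key _ _) (key _ _)

theorem heis_eq {B : Type*} {x : A → G} (hx : ∀ t u, x (t + u) = x t * x u) {y : B → G} {N : Submodule ℂ M}
    (hN : Sta ρ N x) (hN' : Sta ρ N y) {φ : B → AddChar A ℂ} (hφ : Function.Surjective φ)
    (h : ∀ t u, ∀ v ∈ N, ρ (x t) (ρ (y u) v) = φ u t • ρ (y u) (ρ (x t) v)) (χ : AddChar A ℂ) :
    finrank ℂ N = Fintype.card A * finrank ℂ ↥(N ⊓ Eg ρ x χ) := by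
  rw [finrank_eq_sum hx hN, Finset.sum_congr rfl fun χ' _ => heis_equi hN' hφ h χ' χ, Finset.sum_const,
    Finset.card_univ, AddChar.card_eq, smul_eq_mul]

theorem mulShift_surj {F : Type*} [Field F] [Fintype F] {χ : AddChar F ℂ} (h : χ ≠ 0) :
    Function.Surjective χ.mulShift :=
  ((Fintype.bijective_iff_injective_and_card _).2
    ⟨AddChar.to_mulShift_inj_of_isPrimitive (AddChar.IsPrimitive.of_ne_one h), AddChar.card_eq.symm⟩).2

theorem exists_mulShift {F : Type*} [Field F] [Fintype F] {χ χ' : AddChar F ℂ} (h : χ ≠ 0) (h' : χ' ≠ 0) :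
    ∃ c ≠ 0, χ.mulShift c = χ' := by
  obtain ⟨c, hc⟩ := mulShift_surj h χ'
  exact ⟨c, fun e => h' (by rw [← hc, e, AddChar.mulShift_zero]; rfl), hc⟩

theorem exists_char_ne (A : Type*) [AddCommGroup A] [Fintype A] [Nontrivial A] : ∃ χ : AddChar A ℂ, χ ≠ 0 :=
  haveI : Nontrivial (AddChar A ℂ) :=
    Fintype.one_lt_card_iff_nontrivial.1 (by rw [AddChar.card_eq]; exact Fintype.one_lt_card)
  exists_ne 0

end Cfsg.Agent.MinD
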