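import Cfsg.Agent.MinD.Ch1
import Cfsg.Agent.Mult.Root2
import Cfsg.Agent.Mult.Lift

/-! Minimal degrees of complex representations of exceptional groups, part 2: simply laced Steinberg
systems, Heisenberg groups of a root and subsystems of type `A₂`. -/

set_option autoImplicit false
set_option linter.unusedSectionVars false

namespace Cfsg.Agent.MinD

open Module Cfsg.Lie Cfsg.Agent.Chev Cfsg.Agent.Mult
open scoped _root_.Classical

variable {D : ChevalleyDatum} [Good D] [Conn D] {F : Type*} [Field F] [Fintype F] {G : Type*} [Group G] [Finite G]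
  {X : Sys D F G} {M : Type*} [AddCommGroup M] [Module ℂ M] [FiniteDimensional ℂ M] {ρ : Representation ℂ G M}

variable (ρ X) in
/-- Common fixed vectors of root subgroups. -/
def Fx (S : Set (Rt D)) : Submodule ℂ M := ⨅ s ∈ S, Eg ρ (X.x s) 0

theorem mem_Fx {S : Set (Rt D)} {v : M} : v ∈ Fx X ρ S ↔ ∀ s ∈ S, v ∈ Eg ρ (X.x s) 0 := by
  simp [Fx, Submodule.mem_iInf]

theorem Fx_empty : Fx X ρ ∅ = ⊤ := by simp [Fx]

theorem Fx_insert (r : Rt D) (S : Set (Rt D)) : Fx X ρ (insert r S) = Fx X ρ S ⊓ Eg ρ (X.x r) 0 := by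
  ext v; simp [mem_Fx, and_comm]

theorem Fx_anti {S T : Set (Rt D)} (h : S ⊆ T) : Fx X ρ T ≤ Fx X ρ S := fun _ hv =>
  mem_Fx.2 fun s hs => mem_Fx.1 hv s (h hs)

theorem eg_refl (a s : Rt D) {v : M} : ρ (X.n a 1) v ∈ Eg ρ (X.x (refl a s)) 0 ↔ v ∈ Eg ρ (X.x s) 0 := by
  have e : ∀ u, ρ (X.x (refl a s) (eta a s * u)) (ρ (X.n a 1) v) = ρ (X.n a 1) (ρ (X.x s u) v) := fun u => by
    have := X.n_conj a s one_ne_zero u
    rw [one_zpow, mul_one] at this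
    rw [← this, ← rho_mul, ← rho_mul, inv_mul_cancel_right]
  have e2 : (eta a s : F) * eta a s = 1 := by exact_mod_cast congrArg (Int.cast (R := F)) (eta_mul_self a s)
  simp only [mem_Eg_zero]
  refine ⟨fun h u => rho_inj ρ _ ((e u).symm.trans (h _)), fun h u => ?_⟩
  rw [show u = eta a s * (eta a s * u) by rw [← mul_assoc, e2, one_mul], e, h]

theorem eg_h (a s : Rt D) {c : F} (hc : c ≠ 0) {χ : AddChar F ℂ} {v : M}
    (hv : v ∈ Eg ρ (X.x s) (χ.mulShift (c ^ A a s))) : ρ (X.h a c) v ∈ Eg ρ (X.x s) χ := fun t => by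
  have h0 : c ^ A a s ≠ 0 := zpow_ne_zero _ hc
  rw [← mul_inv_cancel_left₀ h0 t, ← X.h_conj a s hc, ← rho_mul, inv_mul_cancel_right, rho_mul, hv, map_smul,
    AddChar.mulShift_apply]

theorem eg_h_zero (a s : Rt D) {c : F} (hc : c ≠ 0) {v : M} (hv : v ∈ Eg ρ (X.x s) 0) :
    ρ (X.h a c) v ∈ Eg ρ (X.x s) 0 := eg_h a s hc fun t => by rw [hv t]; rfl

variable (hl : ∀ r s : Rt D, ln r = ln s)
include hl

theorem A_symm (r s : Rt D) : A r s = A s r := A_eq_of_ln (hl r s)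

theorem A_le_one {r s : Rt D} (h : s ≠ r) : A r s ≤ 1 := by
  by_cases h2 : s = ng r
  · rw [h2, A_ng_right, A_self]; omega
  · have := A_cases_of_ln h h2 (hl _ _); omega

theorem neg_one_le_A {r s : Rt D} (h : s ≠ ng r) : -1 ≤ A r s := by
  have := A_le_one hl (r := ng r) h
  rw [A_ng_left] at this; omega

theorem eq_of_two_le {r s : Rt D} (h : 2 ≤ A r s) : s = r := by_contra fun e => by
  have := A_le_one hl e; omega

theorem A_le_two' (r s : Rt D) : A r s ≤ 2 := by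
  by_cases e : s = r
  · rw [e, A_self]
  · have := A_le_one hl e; omega

theorem x_comm {r s : Rt D} (h : 0 ≤ A r s) (t u : F) : X.x r t * X.x s u = X.x s u * X.x r t :=
  (X.commute_of (ne_ng_of_A (by omega)) (not_comb_of_long (.inr fun k => (hl k r).le) h) t u).symm

theorem refl_comm {a b : Rt D} (h : A a b = -1) : refl b a = refl a b :=
  rtv_injective (by rw [rtv_refl_of_neg_one h, rtv_refl_of_neg_one (A_symm hl a b ▸ h), add_comm])

theorem x_lc {a b : Rt D} (h : A a b = -1) : ∃ ε : F, ε ≠ 0 ∧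
    ∀ t u, X.x a t * X.x b u = X.x b u * X.x a t * X.x (refl a b) (ε * u * t) := by
  have h' : A b a = -1 := A_symm hl a b ▸ h
  obtain ⟨e1, e2⟩ := N_eq_eta (N_eq_zero_of (not_comb_of_long (.inr fun k => (hl k _).le)
    (by rw [A_ng_left, h']; omega))) h'
  refine ⟨-eta b a, ?_, fun t u => ?_⟩
  · rcases eta_eq b a with e | e <;> simp [e]
  have := comm_of_single (X := X) (a := b) (b := a) (ne_of_A (by omega)) (ne_ng_of_A (by omega))
    (e1 ▸ eta_ne_zero _ _) (fun k hk => e2 ▸ hk.eq_refl (A_le_two' hl) h' h) u t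
  rw [e1, e2, refl_comm hl h, mul_neg, ← neg_mul] at this
  rw [← this]; group

theorem eg_step {s y : Rt D} {χ : AddChar F ℂ} {v : M} (hv : v ∈ Eg ρ (X.x s) χ) (h1 : y ≠ ng s)
    (h2 : A s y = -1 → v ∈ Eg ρ (X.x (refl s y)) 0) (u : F) : ρ (X.x y u) v ∈ Eg ρ (X.x s) χ := by
  by_cases h : A s y = -1
  · obtain ⟨ε, -, e⟩ := x_lc (X := X) hl h
    intro t
    rw [← rho_mul, e, rho_mul, rho_mul, mem_Eg_zero.1 (h2 h), hv t, map_smul]
  · exact sta_Eg (x_comm hl (by have := neg_one_le_A hl h1; omega)) χ u v hv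

theorem sta_Eg' {s y : Rt D} (h : 0 ≤ A s y) (χ : AddChar F ℂ) : Sta ρ (Eg ρ (X.x s) χ) (X.x y) :=
  sta_Eg (x_comm hl h) χ

theorem sta_Fx {S : Set (Rt D)} {y : Rt D} (h : ∀ s ∈ S, y ≠ ng s ∧ (A s y = -1 → refl s y ∈ S)) :
    Sta ρ (Fx X ρ S) (X.x y) := fun u _ hv => mem_Fx.2 fun s hs =>
  eg_step hl (mem_Fx.1 hv s hs) (h s hs).1 (fun e => mem_Fx.1 hv _ ((h s hs).2 e)) u

theorem heis_root {r a : Rt D} (ha : A a r = 1) {χ : AddChar F ℂ} (hχ : χ ≠ 0) : ∃ φ : F → AddChar F ℂ,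
    Function.Surjective φ ∧ ∀ t u, ∀ v ∈ Eg ρ (X.x r) χ,
      ρ (X.x a t) (ρ (X.x (refl a r) u) v) = φ u t • ρ (X.x (refl a r) u) (ρ (X.x a t) v) := by
  obtain ⟨ε, h0, e⟩ := x_lc (X := X) hl (a := a) (b := refl a r) (by rw [A_refl_self, ha])
  refine ⟨fun u => χ.mulShift (ε * u), (mulShift_surj hχ).comp (mul_left_surjective₀ h0), fun t u v hv => ?_⟩
  rw [← rho_mul, e, refl_refl, rho_mul, rho_mul, hv, map_smul, map_smul, AddChar.mulShift_apply]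

theorem heis {r : Rt D} {χ : AddChar F ℂ} (hχ : χ ≠ 0) (I : Finset (Rt D)) (h1 : ∀ a ∈ I, A a r = 1)
    (h2 : ∀ a ∈ I, refl a r ∉ I) {N : Submodule ℂ M} (hN : N ≤ Eg ρ (X.x r) χ)
    (h3 : ∀ a ∈ I, Sta ρ N (X.x a) ∧ Sta ρ N (X.x (refl a r))) :
    finrank ℂ N = Fintype.card F ^ I.card * finrank ℂ ↥(N ⊓ Fx X ρ I) := by
  induction I using Finset.induction_on generalizing N with
  | empty => rw [Finset.coe_empty, Fx_empty, inf_top_eq, Finset.card_empty, pow_zero, one_mul]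
  | insert a I ha ih =>
    have m := Finset.mem_insert_self a I
    obtain ⟨φ, hφ, e⟩ := heis_root (X := X) (ρ := ρ) hl (h1 a m) hχ
    have key : ∀ b ∈ I, 0 ≤ A a b ∧ 0 ≤ A a (refl b r) := fun b hb => by
      have m' := Finset.mem_insert_of_mem (b := a) hb
      have e1 := A_le_one hl (r := refl a r) (s := b) fun e => h2 a m (e ▸ m')
      have e2 := A_le_one hl (r := a) (s := b) fun e => ha (e ▸ hb)
      rw [A_refl_left, A_symm hl r, A_symm hl r, h1 a m, h1 b m'] at e1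
      rw [A_refl_right, h1 a m, h1 b m']
      omega
    rw [heis_eq (X.add a) (h3 a m).1 (h3 a m).2 hφ (fun t u v hv => e t u v (hN hv)) 0,
      ih (fun b hb => h1 b (Finset.mem_insert_of_mem hb))
        (fun b hb h => h2 b (Finset.mem_insert_of_mem hb) (Finset.mem_insert_of_mem h)) (inf_le_left.trans hN)
        (fun b hb => ⟨(h3 b (Finset.mem_insert_of_mem hb)).1.inf (sta_Eg' hl (key b hb).1 0),
          (h3 b (Finset.mem_insert_of_mem hb)).2.inf (sta_Eg' hl (key b hb).2 0)⟩),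
      Finset.card_insert_of_notMem ha, Finset.coe_insert, Fx_insert, inf_right_comm, inf_assoc, pow_succ]
    ring

theorem a2 {r s : Rt D} (h : A r s = 1) {N : Submodule ℂ M} (h1 : Sta ρ N (X.x r)) (h2 : Sta ρ N (X.x s))
    (h3 : Sta ρ N (X.x (refl s r))) (h4 : Sta ρ N (X.x (refl r s))) : ∃ d,
    finrank ℂ N = finrank ℂ ↥(N ⊓ Eg ρ (X.x r) 0) + (Fintype.card F - 1) * (Fintype.card F * d) ∧
    finrank ℂ ↥(N ⊓ Eg ρ (X.x r) 0) = finrank ℂ ↥(N ⊓ Eg ρ (X.x r) 0 ⊓ Eg ρ (X.x s) 0) + (Fintype.card F - 1) * d ∧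
    ∀ χ ≠ 0, finrank ℂ ↥(N ⊓ Eg ρ (X.x r) 0 ⊓ Eg ρ (X.x s) χ) = d := by
  have h' : A s r = 1 := A_symm hl r s ▸ h
  obtain ⟨χ0, h0⟩ := exists_char_ne F
  have k1 : ∀ χ ≠ 0, ∀ χ', finrank ℂ ↥(N ⊓ Eg ρ (X.x r) χ) =
      Fintype.card F * finrank ℂ ↥(N ⊓ Eg ρ (X.x r) χ ⊓ Eg ρ (X.x s) χ') := fun χ hχ χ' => by
    obtain ⟨φ, hφ, e⟩ := heis_root (X := X) (ρ := ρ) hl h' hχ
    exact heis_eq (X.add s) (h2.inf (sta_Eg' hl (by omega) _))
      (h3.inf (sta_Eg' hl (by rw [A_refl_right, A_self, h, h']; omega) _)) hφ (fun t u v hv => e t u v hv.2) χ'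
  have k2 : ∀ χ ≠ 0, ∀ χ' χ'', finrank ℂ ↥(N ⊓ Eg ρ (X.x r) χ' ⊓ Eg ρ (X.x s) χ) =
      finrank ℂ ↥(N ⊓ Eg ρ (X.x r) χ'' ⊓ Eg ρ (X.x s) χ) := fun χ hχ χ' χ'' => by
    obtain ⟨φ, hφ, e⟩ := heis_root (X := X) (ρ := ρ) hl h hχ
    rw [inf_right_comm, inf_right_comm N (Eg ρ _ χ'')]
    exact heis_equi (h4.inf (sta_Eg' hl (by rw [A_refl_right, A_self, h, h']; omega) _)) hφ
      (fun t u v hv => e t u v hv.2) _ _
  have k3 : ∀ χ ≠ 0, finrank ℂ ↥(N ⊓ Eg ρ (X.x r) 0 ⊓ Eg ρ (X.x s) χ) =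
      finrank ℂ ↥(N ⊓ Eg ρ (X.x r) χ0 ⊓ Eg ρ (X.x s) χ0) := fun χ hχ => by
    rw [k2 χ hχ 0 χ0]
    exact Nat.eq_of_mul_eq_mul_left Fintype.card_pos ((k1 χ0 h0 _).symm.trans (k1 χ0 h0 _))
  exact ⟨_, finrank_eq_add_mul (X.add r) h1 fun χ hχ => by rw [k1 χ hχ χ0, k2 χ0 h0 χ χ0],
    finrank_eq_add_mul (X.add s) (h2.inf (sta_Eg' hl (by omega) _)) k3, k3⟩

theorem conn_ind {P : Sm D → Prop} {i0 : Sm D} (h0 : P i0)
    (h : ∀ i j, A (sm i) (sm j) = -1 → P i → P j) (j : Sm D) : P j := by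
  by_contra hj
  obtain ⟨i, hi, k, hk, e⟩ := exists_adj (J := {i | P i}) ⟨i0, h0⟩ ⟨j, hj⟩
  have hne : k ≠ i := fun e => hk (e ▸ hi)
  have h1 := car_nonpos hne
  have h2 := neg_one_le_A hl (r := sm i) (s := sm k) fun e => not_pos_ng_sm i (e ▸ pos_sm k)
  rw [← A_sm] at e h1
  exact hk (h i k (by omega) hi)

theorem exists_A_one (r : Rt D) : ∃ a, A a r = 1 := by
  obtain ⟨a, b, -, h2, -, h4, rfl⟩ := exists_gen r
  have := neg_one_le_A hl h2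
  exact ⟨a, by rw [A_refl_self]; omega⟩

theorem not_fix (hX : X.U Set.univ = ⊤) {g : G} (hg : ρ g ≠ 1) (r : Rt D) : ¬ ⊤ ≤ Eg ρ (X.x r) 0 := fun h => by
  have k1 : ∀ a s, ⊤ ≤ Eg ρ (X.x s) 0 → ⊤ ≤ Eg ρ (X.x (refl a s)) 0 := fun a s hs v _ => by
    rw [← rho_apply_inv ρ (X.n a 1) v]
    exact (eg_refl a s).2 (hs trivial)
  obtain ⟨i, hi⟩ : ∃ i, ⊤ ≤ Eg ρ (X.x (sm i)) 0 :=
    root_induction' (P := fun r => ⊤ ≤ Eg ρ (X.x r) 0 → ∃ i, ⊤ ≤ Eg ρ (X.x (sm i)) 0) (fun i h => ⟨i, h⟩)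
      (fun i s ih h => ih (refl_refl (sm i) s ▸ k1 (sm i) _ h)) r h
  have k2 := root_induction' (P := fun r => ⊤ ≤ Eg ρ (X.x r) 0) (conn_ind hl hi fun i j e h => by
    have := k1 (sm i) _ (k1 (sm j) _ h)
    rwa [refl_comm hl e, refl_refl] at this) fun i s => k1 _ s
  have k3 : X.U Set.univ ≤ trivOn ρ ⊤ := Sys.U_le.2 fun s _ t v _ => mem_Eg_zero.1 (k2 s trivial) t
  exact hg (LinearMap.ext fun v => k3 (hX ▸ Subgroup.mem_top g) v trivial)

end Cfsg.Agent.MinD
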