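import Cfsg.Agent.MinD.Ch2

/-! Minimal degrees of complex representations of exceptional groups, part 3: small representations of
simply laced groups and the filtration bound. -/

set_option autoImplicit false
set_option linter.unusedSectionVars false

namespace Cfsg.Agent.MinD

open Module Cfsg.Lie Cfsg.Agent.Chev Cfsg.Agent.Mult
open scoped _root_.Classical

variable {D : ChevalleyDatum} [Good D] [Conn D] {F : Type*} [Field F] [Fintype F] {G : Type*} [Group G] [Finite G]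
  {X : Sys D F G} {M : Type*} [AddCommGroup M] [Module ℂ M] [FiniteDimensional ℂ M] {ρ : Representation ℂ G M}
  (hl : ∀ r s : Rt D, ln r = ln s)
include hl

theorem fix_of_comm {N : Submodule ℂ M} (h1 : finrank ℂ N ≤ 1) {y z : Rt D} (h : A y z = 1)
    (hy : Sta ρ N (X.x y)) (hz : Sta ρ N (X.x (refl y z))) : N ≤ Eg ρ (X.x z) 0 := fun v hv => by
  obtain ⟨ε, h0, e⟩ := x_lc (X := X) hl (a := y) (b := refl y z) (by rw [A_refl_self, h])
  refine mem_Eg_zero.2 fun t => ?_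
  have := comm_fix ρ h1 (hy (-ε⁻¹ * t)) (hz (-1)) hv
  have c1 := x_comm (X := X) hl (r := z) (s := y) (by rw [A_symm hl, h]; omega)
  have c2 := x_comm (X := X) hl (r := z) (s := refl y z) (by rw [A_refl_right, A_self, A_symm hl z y, h]; omega)
  rwa [e, refl_refl, show ε * -1 * (-ε⁻¹ * t) = t by field_simp, mul_assoc _ _ (X.x z t), ← c1, ← mul_assoc, ← c2,
    mul_assoc _ (X.x y _), mul_inv_cancel, mul_one, mul_inv_cancel_right] at this

theorem top_vec (hX : X.U Set.univ = ⊤) {g : G} (hg : ρ g ≠ 1) {θ α : Rt D} (h : A θ α = 1)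
    (F1 : ∀ y, A θ y = 0 ∧ A α y = 0 ∨ A θ y = 1 ∧ A α y = 0 ∨ A θ y = 0 ∧ A α y = -1 →
      ∃ γ, A θ γ = 0 ∧ A α γ = 0 ∧ A γ y = 1) {y0 : Rt D} (F2 : A θ y0 = 1 ∧ A α y0 = 0) {n : ℕ}
    (hn : (Finset.univ.filter fun s => A θ s = 1 ∧ A α s = 1).card = n)
    (hM : finrank ℂ M < (Fintype.card F - 1) * (Fintype.card F + 1) * (2 * Fintype.card F ^ n)) :
    ¬ Fx X ρ {s | s ≠ α ∧ s ≠ ng α ∧ A α s ≤ 2 * A θ s} ≤ Eg ρ (X.x α) 0 := by
  have h' : A α θ = 1 := A_symm hl θ α ▸ h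
  obtain ⟨d, d1, d2, d3⟩ := a2 (X := X) (ρ := ρ) hl h (sta_top _) (sta_top _) (sta_top _) (sta_top _)
  obtain ⟨χ, hχ⟩ := exists_char_ne F
  set I := Finset.univ.filter fun s => A θ s = 1 ∧ A α s = 1 with hI
  have mI : ∀ s, s ∈ I ↔ A θ s = 1 ∧ A α s = 1 := fun s => by simp [hI]
  have d4 := heis (X := X) (ρ := ρ) hl hχ I (fun a ha => A_symm hl α a ▸ ((mI a).1 ha).2)
    (fun a ha h2 => by
      have := (mI _).1 h2
      rw [A_refl_right a θ, A_symm hl a, h, ((mI a).1 ha).1, ((mI a).1 ha).2] at this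
      omega) (N := ⊤ ⊓ Eg ρ (X.x θ) 0 ⊓ Eg ρ (X.x α) χ) inf_le_right fun a ha => by
      have := (mI a).1 ha
      refine ⟨((sta_top _).inf (sta_Eg' hl (by omega) _)).inf (sta_Eg' hl (by omega) _),
        ((sta_top _).inf (sta_Eg' hl ?_ _)).inf (sta_Eg' hl ?_ _)⟩ <;>
      rw [A_refl_right, A_symm hl a] <;> simp [A_self, h, this]
  set N := ⊤ ⊓ Eg ρ (X.x θ) 0 ⊓ Eg ρ (X.x α) χ ⊓ Fx X ρ I with hN
  rw [d3 χ hχ, hn] at d4
  have q1 : 1 < Fintype.card F := Fintype.one_lt_card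
  have n1 : finrank ℂ N ≤ 1 := by
    by_contra! h2
    rw [finrank_top, d2] at d1
    have : (Fintype.card F - 1) * (Fintype.card F + 1) * (2 * Fintype.card F ^ n) ≤
        (Fintype.card F - 1) * (Fintype.card F + 1) * d :=
      Nat.mul_le_mul_left _ (by rw [d4, mul_comm]; exact Nat.mul_le_mul_left _ h2)
    nlinarith
  have n0 : N ≠ ⊥ := fun e => not_fix hl hX hg θ (inf_eq_left.1 (Submodule.eq_of_le_of_finrank_eq inf_le_left (by
    rw [e, finrank_bot, mul_zero] at d4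
    rw [d1, d4]; simp)))
  have f0 : N ≤ Eg ρ (X.x θ) 0 := fun v hv => hv.1.1.2
  have f1 : ∀ s, A θ s = 1 → A α s = 1 → N ≤ Eg ρ (X.x s) 0 := fun s h1 h2 v hv =>
    mem_Fx.1 hv.2 s ((mI s).2 ⟨h1, h2⟩)
  have st : ∀ y, 0 ≤ A θ y → -1 ≤ A α y → (A α y = -1 → N ≤ Eg ρ (X.x (refl α y)) 0) →
      (∀ s, A θ s = 1 → A α s = 1 → A s y = -1 → N ≤ Eg ρ (X.x (refl s y)) 0) → Sta ρ N (X.x y) :=
    fun y h1 h2 h3 h4 u v hv => ⟨⟨⟨trivial, sta_Eg' hl h1 _ u v hv.1.1.2⟩,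
      eg_step hl hv.1.2 (ne_ng_of_A (by omega)) (fun e => h3 e hv) u⟩, mem_Fx.2 fun s hs =>
      eg_step hl (mem_Fx.1 hv.2 s hs) (fun e => by rw [e, A_ng_right, ((mI s).1 hs).1] at h1; omega)
        (fun e => h4 s ((mI s).1 hs).1 ((mI s).1 hs).2 e hv) u⟩
  have s0 : ∀ y, A θ y = 0 → A α y = 0 → Sta ρ N (X.x y) := fun y h1 h2 =>
    st y h1.ge (by omega) (by omega) fun s e1 e2 e => f1 _ (by rw [A_refl_right]; simp [*]) (by rw [A_refl_right]; simp [*])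
  have s1 : ∀ y, A θ y = 1 → A α y = 0 → Sta ρ N (X.x y) := fun y h1 h2 =>
    st y (by omega) (by omega) (by omega) fun s e1 e2 e => by
      rwa [eq_of_two_le hl (r := θ) (s := refl s y) (by rw [A_refl_right]; simp [*])]
  have g0 : ∀ a b, (∀ y, A θ y = a → A α y = b → Sta ρ N (X.x y)) →
      a = 0 ∧ b = 0 ∨ a = 1 ∧ b = 0 ∨ a = 0 ∧ b = -1 → ∀ y, A θ y = a → A α y = b → N ≤ Eg ρ (X.x y) 0 :=
    fun a b hs hab y h1 h2 => by
      obtain ⟨γ, e1, e2, e3⟩ := F1 y (by rwa [h1, h2])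
      exact fix_of_comm hl n1 e3 (s0 γ e1 e2) (hs _ (by rw [A_refl_right]; simp [*]) (by rw [A_refl_right]; simp [*]))
  have f2 := g0 0 0 s0 (by omega)
  have f3 := g0 1 0 s1 (by omega)
  have s2 : ∀ y, A θ y = 0 → A α y = -1 → Sta ρ N (X.x y) := fun y h1 h2 =>
    st y (by omega) (by omega) (fun _ => f1 _ (by rw [A_refl_right]; simp [*]) (by rw [A_refl_right, A_self]; simp [*]))
      fun s e1 e2 e => f3 _ (by rw [A_refl_right]; simp [*]) (by rw [A_refl_right]; simp [*])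
  have f4 := g0 0 (-1) s2 (by omega)
  have e5 : A y0 (refl α θ) = 1 := by rw [A_refl_right, A_symm hl y0, A_symm hl y0]; simp [*]
  have f5 : N ≤ Eg ρ (X.x (refl α θ)) 0 := fix_of_comm hl n1 e5 (s1 _ F2.1 F2.2)
    (s2 _ (by rw [A_refl_right, e5, A_refl_right, A_self]; simp [*])
      (by rw [A_refl_right, e5, A_refl_self]; simp [*]))
  intro hle
  obtain ⟨v, hv, hv0⟩ := Submodule.exists_mem_ne_zero_of_ne_bot n0
  have h3 := hle (mem_Fx.2 fun s ⟨h1, h2, h3⟩ => (?_ : N ≤ _) hv)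
  · exact hχ (DFunLike.ext _ _ fun t => smul_left_injective ℂ hv0 ((hv.1.2 t).symm.trans (h3 t)))
  by_cases e : s = θ
  · exact e ▸ f0
  have k1 := A_le_one hl e
  have k2 := A_le_one hl h1
  have k3 := neg_one_le_A hl h2
  by_cases e' : s = refl α θ
  · exact e' ▸ f5
  have k4 := A_le_one hl e'
  rw [A_refl_left, h] at k4
  rcases (by omega : A θ s = 1 ∧ A α s = 1 ∨ A θ s = 1 ∧ A α s = 0 ∨ A θ s = 0 ∧ A α s = 0 ∨
    A θ s = 0 ∧ A α s = -1) with k | k | k | k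
  exacts [f1 s k.1 k.2, f3 s k.1 k.2, f2 s k.1 k.2, f4 s k.1 k.2]

theorem transfer_sm {i j : Sm D} (h : A (sm i) (sm j) = -1)
    (hi : ¬ Fx X ρ {s | Pos s ∧ s ≠ sm i} ≤ Eg ρ (X.x (sm i)) 0) :
    ¬ Fx X ρ {s | Pos s ∧ s ≠ sm j} ≤ Eg ρ (X.x (sm j)) 0 := fun hj => hi fun v hv => by
  have h' : A (sm j) (sm i) = -1 := A_symm hl (sm i) (sm j) ▸ h
  have hij : j ≠ i := fun e => by rw [e, A_self] at h; omega
  set N := Fx X ρ {s | ∃ k, k ≠ i ∧ k ≠ j ∧ 0 < rtv s k} with hN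
  have st : ∀ y, (∀ k, k ≠ i → k ≠ j → rtv y k = 0) → Sta ρ N (X.x y) := fun y hy =>
    sta_Fx hl fun s ⟨k, h1, h2, h3⟩ => ⟨fun e => by
      have := hy k h1 h2
      rw [e, rtv_ng, Pi.neg_apply] at this
      omega, fun e => ⟨k, h1, h2, by rw [rtv_refl_of_neg_one e, Pi.add_apply, hy k h1 h2]; omega⟩⟩
  set r := refl (sm i) (sm j) with hr
  have er : rtv r = rtv (sm i) + rtv (sm j) := rtv_refl_of_neg_one h
  have r1 : refl (sm i) r = sm j := refl_refl _ _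
  have r2 : refl (sm j) r = sm i := by rw [hr, ← refl_comm hl h, refl_refl]
  have a1 : A r (sm i) = 1 := by rw [A_symm hl, hr, A_refl_self, h]; rfl
  have a2' : A r (sm j) = 1 := by rw [A_symm hl, hr, ← refl_comm hl h, A_refl_self, h']; rfl
  have s1 := st (sm i) fun k h1 _ => by simp [rtv_sm, h1]
  have s2 := st (sm j) fun k _ h1 => by simp [rtv_sm, h1]
  have s3 := st r fun k h1 h2 => by simp [er, rtv_sm, h1, h2]
  obtain ⟨d, d1, d2, -⟩ := a2 hl a1 s3 s1 (r1 ▸ s2) (st _ fun k h1 h2 => by simp [rtv_refl, er, rtv_sm, h1, h2])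
  obtain ⟨d', d3, d4, -⟩ := a2 hl a2' s3 s2 (r2 ▸ s1) (st _ fun k h1 h2 => by simp [rtv_refl, er, rtv_sm, h1, h2])
  have q1 : 1 < Fintype.card F := Fintype.one_lt_card
  obtain rfl : d = d' := Nat.eq_of_mul_eq_mul_left Fintype.card_pos
    (Nat.eq_of_mul_eq_mul_left (by omega) (Nat.add_left_cancel (d1.symm.trans d3)))
  have k1 : N ⊓ Eg ρ (X.x r) 0 ⊓ Eg ρ (X.x (sm i)) 0 ≤ N ⊓ Eg ρ (X.x r) 0 ⊓ Eg ρ (X.x (sm j)) 0 := fun w hw =>
    ⟨hw.1, hj (mem_Fx.2 fun s ⟨hs, hs'⟩ => by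
      by_cases e : ∃ k, k ≠ i ∧ k ≠ j ∧ 0 < rtv s k
      · exact mem_Fx.1 hw.1.1 s e
      by_cases e' : s = sm i
      · exact e' ▸ hw.2
      have e1 : rtv s = rtv s i • rtv (sm i) + rtv s j • rtv (sm j) := rtv_of_inJ_pair hij fun k hk =>
        le_antisymm (not_lt.1 fun h0 => e ⟨k, fun e => hk (.inl e), fun e => hk (.inr e), h0⟩) (hs k)
      have e2 := A_le_one hl e'
      have e3 := A_le_one hl hs'
      rw [A_of_rtv e1, A_self] at e2 e3
      rw [h] at e2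
      rw [h'] at e3
      have e4 := hs i
      have e5 := hs j
      rcases (by omega : rtv s i = 0 ∧ rtv s j = 0 ∨ rtv s i = 1 ∧ rtv s j = 1) with k | k
      · exact absurd (by simpa [k] using e1) (rtv_ne_zero s)
      · rw [rtv_injective (e1.trans (by simp [k, er]) : rtv s = rtv r)]
        exact hw.1.2)⟩
  have k2 := Submodule.eq_of_le_of_finrank_eq k1 (by omega)
  have pr : Pos r := fun k => by rw [er]; exact add_nonneg (pos_sm i k) (pos_sm j k)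
  exact (k2.ge ⟨⟨Fx_anti (fun s hs => by
    obtain ⟨k, h1, -, h3⟩ := hs
    exact ⟨pos_of_exists h3, fun e => by simp [e, rtv_sm, h1] at h3⟩) hv,
    mem_Fx.1 hv r ⟨pr, fun e => by rw [e, A_self] at a1; omega⟩⟩,
    mem_Fx.1 hv _ ⟨pos_sm j, fun e => hij (sm_injective e)⟩⟩).2

omit hl in
theorem ht_refl (a s : Rt D) : ht (refl a s) = ht s - A a s * ht a := by
  rw [← htF_rtv, rtv_refl, map_sub, map_smul, htF_rtv, htF_rtv, smul_eq_mul]

theorem all_pos (h : ∀ i, ¬ Fx X ρ {s | Pos s ∧ s ≠ sm i} ≤ Eg ρ (X.x (sm i)) 0) {r : Rt D} (hr : Pos r) :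
    ¬ Fx X ρ {s | s ≠ r ∧ ht r ≤ ht s} ≤ Eg ρ (X.x r) 0 := by
  obtain ⟨n, hn⟩ : ∃ n : ℕ, ht r = n := ⟨_, (Int.toNat_of_nonneg hr.ht_pos.le).symm⟩
  induction n generalizing r with
  | zero => have := hr.ht_pos; omega
  | succ n ih =>
    obtain ⟨i, -, hi⟩ := hr.exists_car_pos
    by_cases e : r = sm i
    · subst e
      exact fun hle => h i ((Fx_anti fun s hs => by
        exact ⟨pos_iff_ht.2 (hr.ht_pos.trans_le hs.2), hs.1⟩).trans hle)
    have h1 := A_le_one hl e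
    rw [← A_sm] at hi
    have h2 := ht_refl (sm i) r
    rw [ht_sm, show A (sm i) r = 1 by omega] at h2
    have h3 : Pos (refl (sm i) r) := pos_sr hr e
    refine fun hle => ih h3 (by push_cast at hn; omega) fun v hv => ?_
    rw [← eg_refl (sm i), refl_refl]
    refine hle (mem_Fx.2 fun s hs => ?_)
    rw [← refl_refl (sm i) s, eg_refl]
    refine mem_Fx.1 hv _ ⟨fun e => hs.1 ((Chev.refl _).injective e), ?_⟩
    have h4 := h3.ht_pos
    have h5 := A_le_one hl (r := sm i) (s := s) fun e => by have := hs.2; rw [e, ht_sm] at this; omega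
    have := hs.2
    rw [ht_refl (sm i) s, ht_sm]
    omega

theorem filt (h : ∀ r, Pos r → ¬ Fx X ρ {s | s ≠ r ∧ ht r ≤ ht s} ≤ Eg ρ (X.x r) 0) (φ : Fn D) (T : Finset (Rt D))
    (h1 : ∀ s ∈ T, Pos s ∧ ∀ a, Pos a → A s a = -1 → refl s a ∈ T) :
    finrank ℂ (Fx X ρ T) + ∑ r ∈ T, (Fintype.card F - 1) * Fintype.card F ^ (Finset.univ.filter fun a =>
      A a r = 1 ∧ 0 < ht a ∧ ht a < ht r ∧ 2 * φ (rtv a) < φ (rtv r)).card ≤ finrank ℂ M := by
  induction T using Finset.induction_on_min_value (ht (D := D)) with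
  | empty => rw [Finset.coe_empty, Fx_empty]; simp
  | insert r T hr hm ih =>
    have h2 : ∀ s ∈ T, Pos s ∧ ∀ a, Pos a → A s a = -1 → refl s a ∈ T := fun s hs => by
      have := h1 s (Finset.mem_insert_of_mem hs)
      refine ⟨this.1, fun a ha e => (Finset.mem_insert.1 (this.2 a ha e)).resolve_left fun e' => ?_⟩
      have h3 := ht_refl s a
      have := hm s hs
      have := ha.ht_pos
      rw [e, e'] at h3
      omega
    have pr := (h1 r (Finset.mem_insert_self _ _)).1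
    have st : ∀ a, Pos a → Sta ρ (Fx X ρ T) (X.x a) := fun a ha => sta_Fx hl fun s hs =>
      ⟨fun e => (h2 s hs).1.not_ng (e ▸ ha), (h2 s hs).2 a ha⟩
    obtain ⟨χ0, h0, hb⟩ := exists_Eg (X.add r) (st r pr) fun hle => h r pr
      ((Fx_anti fun s hs => by exact ⟨fun e => hr (e ▸ hs), hm s hs⟩).trans hle)
    rw [Finset.sum_insert hr, Finset.coe_insert, Fx_insert, ← add_assoc]
    refine le_trans (Nat.add_le_add_right (add_mul_le_finrank (X.add r) (st r pr) fun χ hχ => ?_) _) (ih h2)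
    obtain ⟨c, hc, e⟩ := exists_mulShift hχ h0
    obtain ⟨γ, hγ⟩ := exists_A_one hl r
    have h3 : Fx X ρ T ⊓ Eg ρ (X.x r) χ ≠ ⊥ := ne_bot_of_rho (X.h γ c) (fun v hv => by exact
      ⟨mem_Fx.2 fun s hs => eg_h_zero γ s hc (mem_Fx.1 hv.1 s hs), eg_h γ r hc (by rw [hγ, zpow_one, e]; exact hv.2)⟩) hb
    have h4 := heis (X := X) (ρ := ρ) hl hχ (Finset.univ.filter fun a =>
      A a r = 1 ∧ 0 < ht a ∧ ht a < ht r ∧ 2 * φ (rtv a) < φ (rtv r)) (fun a ha => (Finset.mem_filter.1 ha).2.1)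
      (fun a ha ha' => by
        have k1 := (Finset.mem_filter.1 ha).2
        have k2 := (Finset.mem_filter.1 ha').2.2.2.2
        rw [rtv_refl, k1.1, map_sub, one_smul] at k2
        omega) (N := Fx X ρ T ⊓ Eg ρ (X.x r) χ) inf_le_right fun a ha => by
        have k1 := (Finset.mem_filter.1 ha).2
        exact ⟨(st a (pos_iff_ht.2 k1.2.1)).inf (sta_Eg' hl (by rw [A_symm hl]; omega) _),
          (st _ (pos_iff_ht.2 (by rw [ht_refl, k1.1]; omega))).inf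
            (sta_Eg' hl (by rw [A_refl_right, A_self, A_symm hl r a, k1.1]; omega) _)⟩
    rw [h4]
    refine Nat.le_mul_of_pos_right _ (Nat.pos_of_ne_zero fun e0 => h3 (Submodule.finrank_eq_zero.1 ?_))
    rw [h4, e0, mul_zero]

end Cfsg.Agent.MinD
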