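import Cfsg.Agent.MinD.Ch3
import Cfsg.Agent.Chev.CheckSound

/-! Minimal degrees of complex representations of exceptional groups, part 4: the filtration bound from
a table certificate. -/

set_option autoImplicit false
set_option linter.unusedSectionVars false

namespace Cfsg.Agent.MinD

open Module Cfsg.Lie Cfsg.Agent.Chev Cfsg.Agent.Mult

theorem sum_filter_fin (n : ℕ) (p : ℕ → Bool) (g : ℕ → ℕ) :
    ∑ r ∈ Finset.univ.filter (fun r : Fin n => p r), g r = (((List.range n).filter p).map g).sum := by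
  rw [Finset.sum_filter, Fin.sum_univ_eq_sum_range (fun i => if p i then g i else 0)]
  induction n with
  | zero => simp
  | succ n ih =>
    rw [Finset.sum_range_succ, ih, List.range_succ, List.filter_append, List.map_append, List.sum_append]
    cases h : p n <;> simp [h]

theorem card_filter_fin {n : ℕ} {P : Fin n → Prop} [DecidablePred P] (p : ℕ → Bool) (h : ∀ r, P r ↔ p r) :
    (Finset.univ.filter P).card = ((List.range n).filter p).length := by
  rw [Finset.filter_congr fun r _ => h r, Finset.card_eq_sum_ones, sum_filter_fin n p fun _ => 1]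
  simp

/-- Height from a certificate. -/
def htC (C : Cert) (D : ChevalleyDatum) (r : ℕ) : ℤ := sumLt D.rank fun i => C.rt r i

/-- Number of Heisenberg pairs. -/
def cntC (C : Cert) (D : ChevalleyDatum) (r : ℕ) : ℕ := ((List.range D.nroots).filter fun a =>
  decide (C.pair D a r = 1 ∧ 0 < htC C D a ∧ htC C D a < htC C D r ∧ 2 * C.posZ D a < C.posZ D r + C.F)).length

/-- The table facts for the bound. -/
def ChkB (C : Cert) (D : ChevalleyDatum) (θ α y n : ℕ) (p : ℕ → Bool) (L : List ℕ) : Prop :=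
  C.pair D θ α = 1 ∧ (∀ y < D.nroots, C.pair D θ y = 0 ∧ C.pair D α y = 0 ∨ C.pair D θ y = 1 ∧ C.pair D α y = 0 ∨
    C.pair D θ y = 0 ∧ C.pair D α y = -1 → ∃ γ < D.nroots, C.pair D θ γ = 0 ∧ C.pair D α γ = 0 ∧ C.pair D γ y = 1) ∧
  (C.pair D θ y = 1 ∧ C.pair D α y = 0) ∧
  ((List.range D.nroots).filter fun s => decide (C.pair D θ s = 1 ∧ C.pair D α s = 1)).length = n ∧
  (∀ s < D.nroots, 0 < htC C D s → s ≠ α → C.pair D α s ≤ 2 * C.pair D θ s) ∧
  ((List.range D.nroots).filter p).map (cntC C D) = L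

instance instDecidableChkB (C : Cert) (D : ChevalleyDatum) (θ α y n : ℕ) (p : ℕ → Bool) (L : List ℕ) :
    Decidable (ChkB C D θ α y n p L) := by unfold ChkB; infer_instance

open scoped _root_.Classical

variable {D : ChevalleyDatum} [Good D] [Conn D] {F : Type*} [Field F] [Fintype F] {G : Type*} [Group G] [Finite G]
  {X : Sys D F G} {M : Type*} [AddCommGroup M] [Module ℂ M] [FiniteDimensional ℂ M] {ρ : Representation ℂ G M}

theorem cert_bound (hl : ∀ r s : Rt D, ln r = ln s) {C : Cert} (hC : C.Ok D) (hr : ∀ (r : Rt D) i, rtv r i = C.rt r i)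
    (hX : X.U Set.univ = ⊤) {g : G} (hg : ρ g ≠ 1) (θ y : Rt D) (i : Sm D) {n : ℕ} {p : ℕ → Bool} {L : List ℕ}
    (h : ChkB C D θ (sm i : Rt D) y n p L)
    (hp : ∀ s : Rt D, p s → Pos s ∧ ∀ a, Pos a → A s a = -1 → p (refl s a : Rt D))
    (hM : finrank ℂ M < (Fintype.card F - 1) * (Fintype.card F + 1) * (2 * Fintype.card F ^ n)) :
    (∀ j, ¬ Fx X ρ {s | Pos s ∧ s ≠ sm j} ≤ Eg ρ (X.x (sm j)) 0) ∧ finrank ℂ (Fx X ρ {s | p s}) +
      (Fintype.card F - 1) * (L.map (Fintype.card F ^ ·)).sum ≤ finrank ℂ M := by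
  have hA : ∀ r s : Rt D, A r s = C.pair D r s := fun r s => (pairing_eq r s).symm.trans (hC.pair_eq r.2 s.2)
  have hh : ∀ r : Rt D, ht r = htC C D r := fun r => by
    rw [htC, sumLt_eq, Finset.sum_range]; exact Finset.sum_congr rfl fun i _ => hr r i
  let φ : Fn D := ∑ i : Sm D, nth 0 C.w i • LinearMap.proj i
  have hφ : ∀ r : Rt D, C.posZ D r = φ (rtv r) + C.F := fun r => by
    rw [Cert.posZ, sumLt_eq, Finset.sum_range]
    simp [φ, hr]
  obtain ⟨h1, h2, h3, h4, h5, h6⟩ := h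
  have k1 := top_vec (X := X) hl hX hg (θ := θ) (α := sm i) (by rwa [hA]) (fun y hy => by
    obtain ⟨γ, h0, hγ⟩ := h2 y y.2 (by simpa only [hA] using hy)
    exact ⟨⟨γ, h0⟩, by simpa only [hA] using hγ⟩) (y0 := y) (by simpa only [hA] using h3)
    ((card_filter_fin _ fun r => by simp only [hA, decide_eq_true_eq]).trans h4) hM
  have k2 := conn_ind hl (P := fun j => ¬ Fx X ρ {s | Pos s ∧ s ≠ sm j} ≤ Eg ρ (X.x (sm j)) 0) (i0 := i)
    (fun hle => k1 ((Fx_anti fun s hs => by
      refine ⟨hs.2, fun e => not_pos_ng_sm i (e ▸ hs.1), ?_⟩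
      rw [hA, hA]
      exact h5 s s.2 (hh s ▸ hs.1.ht_pos) fun e => hs.2 (Fin.ext e)).trans hle)) fun _ _ => transfer_sm hl
  have k3 := filt hl (fun r => all_pos hl k2) φ (Finset.univ.filter fun s : Rt D => p s) (by simpa using hp)
  refine ⟨k2, ?_⟩
  have k4 : ∀ r : Rt D, (Finset.univ.filter fun a =>
      A a r = 1 ∧ 0 < ht a ∧ ht a < ht r ∧ 2 * φ (rtv a) < φ (rtv r)).card = cntC C D r := fun r =>
    card_filter_fin _ fun a => by
      simp only [hA, hh, hφ, decide_eq_true_eq]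
      exact and_congr_right fun _ => and_congr_right fun _ => and_congr_right fun _ => by omega
  simp only [k4] at k3
  rw [← Finset.mul_sum, sum_filter_fin D.nroots p fun r => Fintype.card F ^ cntC C D r, Finset.coe_filter_univ] at k3
  rwa [← h6, List.map_map]

theorem dvd_of_pp {q k j E N P : ℕ} (hq : IsPrimePow q) (h : k + j = q * E) (h0 : 0 < j) (hj : j < q)
    (hk : k ∣ q ^ N * P) : k ∣ j * P := by
  refine (dvd_gcd_mul_of_dvd_mul hk).trans (mul_dvd_mul_right ?_ _)
  obtain ⟨p, f, hp, -, rfl⟩ := (isPrimePow_nat_iff _).1 hq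
  obtain ⟨b, -, e⟩ := (Nat.dvd_prime_pow hp).1 (pow_mul p f N ▸ gcd_dvd_right k ((p ^ f) ^ N))
  have h1 : p ^ b ∣ k := by rw [← e, pow_mul]; exact gcd_dvd_left _ _
  rw [← pow_mul, e]
  rcases le_total b f with hb | hb
  · exact (Nat.dvd_add_right h1).1 (h ▸ (pow_dvd_pow p hb).mul_right _)
  · exact absurd (Nat.le_of_dvd h0 ((Nat.dvd_add_right ((pow_dvd_pow p hb).trans h1)).1
      (h ▸ dvd_mul_right _ _))) hj.not_ge

theorem dvd_repl {k a f r : ℤ} (h : k ∣ a * (f * r)) (c u v : ℤ) (e : c = u * k + v * f) : k ∣ a * c * r := by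
  rw [show a * c * r = k * (a * u * r) + v * (a * (f * r)) by rw [e]; ring]
  exact dvd_add (dvd_mul_right _ _) (h.mul_left _)

theorem not_dvd_of {k a b c : ℤ} (h : k ∣ a * 1) (h1 : a = b) (h2 : k = a + c) (hb : 0 < b) (hc : 0 < c) : False := by
  have := Int.le_of_dvd (by rw [mul_one, h1]; exact hb) h
  omega

end Cfsg.Agent.MinD
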