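import Cfsg.Agent.MinD.Ch4
import Cfsg.Agent.Chev.GoodE6
import Cfsg.Agent.S2401

/-! Table facts, arithmetic and the subgroup of type `A₅` for the minimal degree of `E₆(q)`. -/

set_option autoImplicit false

namespace Cfsg.Agent.MinD

open Cfsg.Lie Cfsg.Agent.Chev Cfsg.Agent.Mult

theorem exists_sl {D : ChevalleyDatum} [Good D] [Conn D] {F : Type*} [Field F] [Fintype F] {G : Type*} [Group G]
    [Finite G] (X : Sys D F G) (hl : ∀ r s : Rt D, ln r = ln s) {n : ℕ} (hn : 3 ≤ n) (ι : Fin n → Fin n → Rt D)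
    (ε : Fin n → Fin n → ℤ) (h2 : ∀ i j k l, i ≠ j → k ≠ l → i ≠ l → j ≠ k → 0 ≤ A (ι i j) (ι k l))
    (h3 : ∀ i j k, i ≠ j → j ≠ k → i ≠ k → A (ι j k) (ι i j) = -1 ∧ add (ι j k) (ι i j) = ι i k ∧
      N (ι j k) (ι i j) * ε i j * ε j k = -ε i k) : ∃ φ : Matrix.SpecialLinearGroup (Fin n) F →* G,
      ∀ i j (h : i ≠ j) t, φ (Matrix.SpecialLinearGroup.transvection h t) = X.x (ι i j) (ε i j * t) := by
  obtain ⟨e, he⟩ := S2401.result (K := F) n hn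
  refine ⟨(PresentedGroup.toGroup (f := fun p => X.x (ι p.1.1.1 p.1.1.2) (ε p.1.1.1 p.1.1.2 * p.2)) ?h).comp
    e.symm.toMonoidHom, fun i j h t => ?_⟩
  · rintro _ ((⟨a, t, u, rfl⟩ | ⟨a, b, t, u, h1, h2', rfl⟩) | ⟨⟨⟨i, j⟩, hij⟩, ⟨⟨_, k⟩, hjk⟩, h1, t, u, rfl, rfl⟩) <;>
      simp only [map_mul, map_inv, FreeGroup.lift_apply_of, mul_inv_eq_one]
    · rw [mul_add, X.add]
    · rw [x_comm hl (h2 _ _ _ _ a.2 b.2 h1 h2'), mul_inv_cancel_right]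
    · obtain ⟨e1, e2, e3⟩ := h3 i j k hij hjk h1
      have e4 : N (ι j k) (ι i j) ≠ 0 := N_ne_zero_of_add (rtv_refl_of_neg_one e1)
      have := comm_of_single (X := X) (ne_of_A (by omega)) (ne_ng_of_A (by omega)) e4
        (fun k hk => (hk.eq_refl (A_le_two' hl) e1 (A_symm hl _ _ ▸ e1)).trans
          (eq_add e4 (rtv_refl_of_neg_one e1))) (-(ε j k * u)) (-(ε i j * t))
      rw [X.x_neg, X.x_neg, inv_inv, inv_inv, e2] at this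
      rw [this]
      congr 1
      have := congrArg (Int.cast (R := F)) e3
      push_cast at this
      linear_combination (-t * u) * this
  · rw [show Matrix.SpecialLinearGroup.transvection h t = e (.of (⟨(i, j), h⟩, t)) from
      Subtype.ext (he ⟨(i, j), h⟩ t).symm]
    simp

/-- Roots of the subsystem `A₅`. -/
def ι6 (i j : Fin 6) : Rt chevE6 := (![![0, 56, 57, 58, 59, 60], ![15, 0, 42, 43, 44, 45], ![14, 29, 0, 39, 40, 41], ![13, 28, 32, 0, 37, 38], ![12, 27, 31, 34, 0, 36], ![11, 26, 30, 33, 35, 0]] : Fin 6 → Fin 6 → Fin 72) i j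

/-- Signs for the subsystem `A₅`. -/
def ε6 : Fin 6 → Fin 6 → ℤ := ![![1, 1, -1, 1, -1, 1], ![1, 1, 1, -1, 1, -1], ![-1, 1, 1, 1, -1, 1], ![1, -1, 1, 1, 1, -1], ![-1, 1, -1, 1, 1, 1], ![1, -1, 1, -1, 1, 1]]

theorem e6_h2 : ∀ i j k l, i ≠ j → k ≠ l → i ≠ l → j ≠ k → 0 ≤ A (D := chevE6) (ι6 i j) (ι6 k l) := by
  decide +kernel

theorem e6_h3 : ∀ i j k, i ≠ j → j ≠ k → i ≠ k → A (D := chevE6) (ι6 j k) (ι6 i j) = -1 ∧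
    add (D := chevE6) (ι6 j k) (ι6 i j) = ι6 i k ∧ N (D := chevE6) (ι6 j k) (ι6 i j) * ε6 i j * ε6 j k = -ε6 i k := by
  decide +kernel

theorem e6_h4 : ∀ i j, i ≠ j → rtv (D := chevE6) (ι6 i j) ⟨1, by decide⟩ = 0 := by decide +kernel

theorem e6_chk : ChkB certE6 chevE6 71 46 53 9 (fun r => decide (0 < certE6.rt r 1)) [0, 1, 2, 3, 2, 3, 4, 4, 5, 6, 3, 4, 5, 5, 6, 7, 6, 7, 8, 9, 10] := by decide +kernel

theorem e6_small : ∀ q < 11, 2 ≤ q → ¬ (q * (q ^ 6 + q ^ 3 + 1) * (q ^ 4 + 1) - 1 ∣ q ^ 36 * ((q ^ 2 - 1) *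
    ((q ^ 5 - 1) * ((q ^ 6 - 1) * ((q ^ 8 - 1) * ((q ^ 9 - 1) * ((q ^ 12 - 1) * 1))))))) := by
  decide +kernel

theorem e6_1 (q : ℤ) (hq : 11 ≤ q) (h : ((-1) + 1 * q + 1 * q ^ 4 + 1 * q ^ 5 + 1 * q ^ 7 + 1 * q ^ 8 + 1 * q ^ 11) ∣ 1 * (((-1) + 1 * q ^ 2) * (((-1) + 1 * q ^ 5) * (((-1) + 1 * q ^ 6) * (((-1) + 1 * q ^ 8) * (((-1) + 1 * q ^ 9) * (((-1) + 1 * q ^ 12) * 1))))))) : False := by
  have h0 := dvd_repl h 15 ((-1) + 4 * q) ((-14) + (-5) * q + (-10) * q ^ 2 + (-5) * q ^ 3 + (-11) * q ^ 4 + (-2) * q ^ 5 + (-7) * q ^ 6 + (-3) * q ^ 7 + (-4) * q ^ 8 + 1 * q ^ 9 + (-4) * q ^ 10) (by ring)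
  have h1 := dvd_repl h0 25 ((-9) + (-4) * q + 1 * q ^ 2 + 6 * q ^ 3 + 11 * q ^ 4) ((-16) + (-5) * q + (-5) * q ^ 2 + (-5) * q ^ 3 + (-14) * q ^ 4 + (-18) * q ^ 5 + (-8) * q ^ 6 + (-7) * q ^ 7 + (-1) * q ^ 8 + (-6) * q ^ 9 + (-11) * q ^ 10) (by ring)
  have h2 := dvd_repl h1 (10 * (1 + (-1) * q + 1 * q ^ 2)) ((-3) + 4 * q + (-1) * q ^ 2 + 2 * q ^ 3) ((-7) + 3 * q + (-5) * q ^ 2 + (-3) * q ^ 3 + (-1) * q ^ 4 + 1 * q ^ 5 + (-4) * q ^ 6 + 1 * q ^ 7 + (-2) * q ^ 8) (by ring)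
  have h3 := dvd_repl h2 15 ((-4) + 1 * q + (-4) * q ^ 2 + 1 * q ^ 3 + 11 * q ^ 4 + 1 * q ^ 5 + (-4) * q ^ 6 + 1 * q ^ 7) ((-11) + (-5) * q + 5 * q ^ 2 + (-5) * q ^ 3 + (-14) * q ^ 4 + 7 * q ^ 5 + 2 * q ^ 6 + (-12) * q ^ 7 + (-1) * q ^ 8 + 4 * q ^ 9 + (-1) * q ^ 10) (by ring)
  have h4 := dvd_repl h3 20 ((-14) + 1 * q + 1 * q ^ 2 + 6 * q ^ 3 + 1 * q ^ 4 + 1 * q ^ 5 + 6 * q ^ 6 + 1 * q ^ 7 + 1 * q ^ 8) ((-6) + (-15) * q + (-5) * q ^ 3 + (-9) * q ^ 4 + (-13) * q ^ 5 + (-3) * q ^ 6 + (-2) * q ^ 7 + (-6) * q ^ 8 + (-1) * q ^ 9 + (-1) * q ^ 10) (by ring)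
  have h5 := dvd_repl h4 (20 * (1 + (-1) * q + 1 * q ^ 2)) ((-13) + 4 * q + (-1) * q ^ 2 + 12 * q ^ 3 + (-10) * q ^ 5 + (-3) * q ^ 6 + 4 * q ^ 7 + 9 * q ^ 8 + 2 * q ^ 9) ((-7) + 3 * q + (-15) * q ^ 2 + (-13) * q ^ 3 + (-1) * q ^ 4 + 1 * q ^ 5 + (-4) * q ^ 6 + (-9) * q ^ 7 + (-2) * q ^ 8) (by ring)
  obtain ⟨x, hx, rfl⟩ : ∃ x, 0 ≤ x ∧ q = x + 11 := ⟨q - 11, by omega, by ring⟩
  exact not_dvd_of h5 (b := (277222500000 + 104895000000 * x + 14917500000 * x ^ 2 + 945000000 * x ^ 3 + 22500000 * x ^ 4)) (c := (8323192365 + 180585047436 * x + 114822622820 * x ^ 2 + 34433747910 * x ^ 3 + 6409337941 * x ^ 4 + 818538260 * x ^ 5 + 74409027 * x ^ 6 + 4831619 * x ^ 7 + 219616 * x ^ 8 + 6655 * x ^ 9 + 121 * x ^ 10 + 1 * x ^ 11)) (by ring) (by ring) (by positivity) (by positivity)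

theorem e6_arith {q k : ℕ} (hq : IsPrimePow q) (h1 : q * (q ^ 6 + q ^ 3 + 1) * (q ^ 4 + 1) ≤ k + 1)
    (h : k ∣ q ^ 36 * ((q ^ 2 - 1) * ((q ^ 5 - 1) * ((q ^ 6 - 1) * ((q ^ 8 - 1) * ((q ^ 9 - 1) *
      ((q ^ 12 - 1) * 1))))))) : q * (q ^ 6 + q ^ 3 + 1) * (q ^ 4 + 1) ≤ k := by
  by_contra! h2
  have hj : q * (q ^ 6 + q ^ 3 + 1) * (q ^ 4 + 1) = k + 1 := by omega
  have q2 := hq.two_le
  by_cases hb : q < 11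
  · exact e6_small q hb q2 (by rwa [hj, Nat.add_sub_cancel])
  have h3 := Int.natCast_dvd_natCast.2 (dvd_of_pp (E := (q ^ 6 + q ^ 3 + 1) * (q ^ 4 + 1)) hq
    (by rw [← hj]; ring) (by omega) (by omega) h)
  have h4 : (k : ℤ) = q * (q ^ 6 + q ^ 3 + 1) * (q ^ 4 + 1) - 1 := by
    have := congrArg (Nat.cast (R := ℤ)) hj
    push_cast at this
    linarith
  have p1 : ∀ n, 1 ≤ q ^ n := fun n => Nat.one_le_pow _ _ (by omega)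
  push_cast [Nat.cast_sub (p1 _)] at h3
  rw [h4] at h3
  exact e6_1 q (by omega) (by convert h3 using 1 <;> ring)

theorem e6_big (x : ℕ) : (1 + 1 + x) * ((1 + 1 + x) ^ 6 + (1 + 1 + x) ^ 3 + 1) * ((1 + 1 + x) ^ 4 + 1) ≤
    (x + 1) * (1 + 1 + x + 1) * (2 * (1 + 1 + x) ^ 9) :=
  Nat.le.intro (k := (590 + 5071 * x + 16376 * x ^ 2 + 29088 * x ^ 3 + 32765 * x ^ 4 + 25003 * x ^ 5 + 13314 * x ^ 6 + 4975 * x ^ 7 + 1283 * x ^ 8 + 218 * x ^ 9 + 22 * x ^ 10 + 1 * x ^ 11)) (by ring)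

end Cfsg.Agent.MinD
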