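import Cfsg.Agent.MinD.Fn

/-! Minimal degrees of orthogonal groups, part 9: even dimension. -/

set_option autoImplicit false
set_option linter.unusedSectionVars false

namespace Cfsg.Agent.MinD

open Cfsg.Agent.Geom Cfsg.Agent.Geom.Formed Cfsg.Agent.Root.Mx QuadraticMap Module
open scoped _root_.Classical

variable {F : Type*} [Field F] {V : Type*} [AddCommGroup V] [Module F V] {Q : QuadraticForm F V}
  [Finite F] [FiniteDimensional F V] [Finite V]

theorem arith_plus5 {u y z f P : ℕ} (hy : 0 < y) (hu : 3 ≤ u)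
    (hP : P * u + 1 = (u + 1) * (y + 1) ^ 2 + u * (y + 1))
    (h1 : (y + 1) * (y * (y + 1 + (u + 1)) * (z + 1)) ≤ y * ((u + 1) * f)) (h6 : (u + 1) ^ 2 ≤ z) :
    P ≤ f := by
  have h7 : (y + 1) * ((y + 1 + (u + 1)) * (z + 1)) ≤ (u + 1) * f :=
    Nat.le_of_mul_le_mul_left (c := y) (by nlinarith) hy
  have h8 : (y + 1) * ((y + 1 + (u + 1)) * (u + 1)) ≤ f := by
    refine Nat.le_of_mul_le_mul_left (c := u + 1) (le_trans ?_ h7) (by omega)
    have := Nat.mul_le_mul_left ((y + 1) * (y + 1 + (u + 1))) h6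
    nlinarith
  refine le_trans ?_ h8
  have : P * 1 ≤ P * u := Nat.mul_le_mul_left _ (by omega)
  nlinarith

section Even
variable (hn : (ofQuad Q).Nondeg) {k : ℕ} (hk : finrank F V = 2 * (k + 1))
include hn hk

theorem even_e : Nat.card F ^ (finrank F V - 2) = (Nat.card F ^ k) ^ 2 := by
  rw [hk, show 2 * (k + 1) - 2 = 2 * k by omega]; ring

theorem even_Tc {p : V} (hp0 : p ≠ 0) (hp : Q p = 0) {c : F} (hc : c ≠ 0) :
    Nat.card F * (Nat.card F ^ k) ^ 2 ≤
      (T1 Q p).ncard + Nat.card F + (Tc Q p c).ncard * (if (2 : F) = 0 then 1 else 2) := by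
  split_ifs with h2
  · have := Tc_even hn h2 hp0 hp hc
    rw [hk, show Nat.card F ^ (2 * (k + 1)) = Nat.card F * (Nat.card F * (Nat.card F ^ k) ^ 2) by ring] at this
    rw [mul_one]
    exact Nat.le_of_mul_le_mul_left this Nat.card_pos
  · obtain ⟨U, hU, d, e⟩ := Tc_odd hn h2 hp0 hp hc
    rw [← e, nsing_odd hU (wittIndex_odd hU (m := k) (by omega)) (by omega)]
    exact le_of_eq (by ring)

theorem even_cases {Ω : Type*} [MulAction (eichGroup Q) Ω] [Finite Ω]
    [MulAction.IsPretransitive (eichGroup Q) Ω] (h3 : 3 ≤ k) (ω₀ : Ω)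
    (hnt : ∀ ω : Ω, ∃ g : eichGroup Q, g • ω ≠ ω) (hreg : ¬ RegAll Q Ω) {u x P C τ : ℕ}
    (hu : Nat.card F = u + 1) (hx : Nat.card F ^ k = x) (hP : P * u + 1 = (ofQuad Q).nsing)
    (hτ : τ + (u + 1) + u * x ^ 2 = (ofQuad Q).nsing)
    (hC : τ + (u + 1) + C * (if (2 : F) = 0 then 1 else 2) ≤ (u + 1) * x ^ 2) :
    u * x ^ 2 + C ≤ u * Nat.card Ω ∨ P ≤ Nat.card Ω ∨ 2 * x ^ 2 ≤ Nat.card Ω ∨
    (C * ringChar F ≤ (u + 1) * Nat.card Ω ∧ (u + 1 = ringChar F → C + τ + 1 ≤ Nat.card Ω)) ∨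
    ∃ (p : V) (ω : Ω), p ≠ 0 ∧ Q p = 0 ∧ (T1 Q p).ncard = τ ∧
      MaxTS Q (k + 1) (Submodule.span F (Wd Q p ω : Set V)) := by
  have hT : ∀ p, p ≠ 0 → Q p = 0 → (T1 Q p).ncard = τ := fun p hp0 hp => by
    have := ncard_T1 hn hp0 hp
    rw [even_e hn hk, hx, hu, Nat.add_sub_cancel] at this
    omega
  have h := main_cases hn (by omega) ω₀ hnt hreg (P := P) (C := C) (τ := τ) (by rw [hu]; exact hP)
    (by rw [even_e hn hk, hx, hu]; exact hτ) (fun p c hp0 hp hc => by
      have := even_Tc hn hk hp0 hp hc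
      rw [hT p hp0 hp, hx, hu] at this
      split_ifs at this hC <;> omega)
  rw [even_e hn hk, hx, hu, Nat.add_sub_cancel] at h
  refine h.imp_right fun h => h.imp_right fun h => h.imp_right fun h => h.imp_right ?_
  rintro ⟨p, ω, h1, h2, h3, h4⟩
  obtain ⟨h5, h6⟩ := maxTS_of_large hn h3 h4
  exact ⟨p, ω, h1, h2, hT p h1 h2, by rwa [show finrank F (Submodule.span F (Wd Q p ω : Set V)) = k + 1 by
    omega] at h6⟩

theorem plus_nsing (hw : (ofQuad Q).WittIndex (k + 1)) {u y : ℕ} (hu : Nat.card F = u + 1)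
    (hy : Nat.card F ^ k = y + 1) : (ofQuad Q).nsing = (u + 1) * (y + 1) ^ 2 + u * (y + 1) := by
  have := nsing_plus hn hw hk
  rw [pow_succ, pow_succ, mul_comm 2 k, pow_mul, hy, hu] at this
  nlinarith

theorem minus_nsing (hw : (ofQuad Q).WittIndex k) {u y : ℕ} (hu : Nat.card F = u + 1)
    (hy : Nat.card F ^ k = y) : (ofQuad Q).nsing + u * y = (u + 1) * y ^ 2 := by
  have := nsing_minus hn hw (by omega)
  rw [pow_succ, pow_succ, mul_comm 2 k, pow_mul, hy, hu] at this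
  nlinarith

theorem plus_four (hw : (ofQuad Q).WittIndex (k + 1)) (h3 : 3 ≤ k) (h4 : 4 ≤ Nat.card F) {P : ℕ}
    (hP : P * (Nat.card F - 1) + 1 = (ofQuad Q).nsing) (K : Subgroup (eichGroup Q)) (hK : K ≠ ⊤) :
    P ≤ K.index := by
  refine lower_of_action (fun K hnt => ?_) K hK
  obtain ⟨u, hu⟩ : ∃ u, Nat.card F = u + 1 := ⟨Nat.card F - 1, by omega⟩
  obtain ⟨y, hy⟩ := Nat.exists_eq_add_of_lt (Nat.one_le_pow k _ (Nat.card_pos (α := F)))
  rw [zero_add] at hy
  have hq3 := Nat.pow_le_pow_right (Nat.card_pos (α := F)) h3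
  have hy1 : (u + 1) * 16 ≤ y + 1 := by
    rw [← hu, ← hy]
    refine le_trans ?_ hq3
    rw [pow_succ']
    exact Nat.mul_le_mul_left _ (Nat.pow_le_pow_left h4 2)
  have hs := plus_nsing hn hk hw hu hy
  have hP0 := hP
  rw [hu, Nat.add_sub_cancel] at hP
  have hu3 : 3 ≤ u := by omega
  obtain ⟨C, hC, hC'⟩ : ∃ C, C * (if (2 : F) = 0 then 1 else 2) = u * (y + 1) * y ∧
      ((u + 1) ^ 2 * (y + 1) + (u + 1) * u) * (y + 1) ≤ u * (C * ringChar F) ∧
      (y + 1) * (y + 1 + u) ≤ C := by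
    rcases char_cases F with ⟨h2, hc, -⟩ | ⟨h2, t, ht, hc⟩
    · refine ⟨u * (y + 1) * y, by simp [h2], ?_, ?_⟩
      · rw [hc, show u * (u * (y + 1) * y * 2) = (2 * u * u * y) * (y + 1) by ring]
        refine Nat.mul_le_mul_right _ ?_
        obtain ⟨u, rfl⟩ := Nat.exists_eq_add_of_le hu3
        nlinarith [Nat.mul_le_mul_left u hy1, Nat.mul_le_mul_left (u * u) hy1]
      · rw [show u * (y + 1) * y = (y + 1) * (u * y) by ring]
        exact Nat.mul_le_mul_left _ (by nlinarith)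
    · obtain rfl : u = 2 * t := by omega
      refine ⟨t * (y + 1) * y, by simp only [h2, if_false]; ring, ?_, ?_⟩
      · rw [show 2 * t * (t * (y + 1) * y * ringChar F) = (2 * t * t * y * ringChar F) * (y + 1) by ring]
        refine Nat.mul_le_mul_right _ ?_
        rcases hc with ⟨h, -⟩ | ⟨h, e⟩ | ⟨h, e⟩
        · omega
        · rw [e]
          obtain ⟨t, rfl⟩ := Nat.exists_eq_add_of_le h
          nlinarith [Nat.mul_le_mul_left t hy1, Nat.mul_le_mul_left (t * t) hy1]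
        · refine le_trans ?_ (Nat.mul_le_mul_left _ e)
          obtain ⟨t, rfl⟩ := Nat.exists_eq_add_of_le h
          nlinarith [Nat.mul_le_mul_left t hy1, Nat.mul_le_mul_left (t * t) hy1]
      · rw [show t * (y + 1) * y = (y + 1) * (t * y) by ring]
        have : 2 ≤ t := by omega
        exact Nat.mul_le_mul_left _ (by nlinarith)
  have h := even_cases hn hk h3 ((1 : eichGroup Q) : eichGroup Q ⧸ K) hnt
    (not_regAll_four hn (by omega) h4 ((1 : eichGroup Q) : eichGroup Q ⧸ K)) hu hy hP (C := C)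
    (τ := y * (y + 1 + (u + 1))) (by rw [hs]; ring) (by rw [hC]; exact le_of_eq (by ring))
  rw [hs] at hP
  rcases h with h | h | h | ⟨h, -⟩ | ⟨p, ω, hp0, hp, hτ, hM⟩
  · exact Nat.le_of_mul_le_mul_right (c := u) (by nlinarith [hC'.2]) (by omega)
  · exact h
  · refine Nat.le_of_mul_le_mul_right (c := u) ?_ (by omega)
    have := Nat.mul_le_mul_right u h
    have : (y + 1) * ((u + 1) * (y + 1) + u) ≤ (y + 1) * (2 * u * (y + 1)) :=
      Nat.mul_le_mul_left _ (by nlinarith)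
    nlinarith
  · refine Nat.le_of_mul_le_mul_right (c := u * (u + 1)) ?_ (by positivity)
    have := Nat.mul_le_mul_left u h
    nlinarith [hC'.1]
  · rcases h3.eq_or_lt with rfl | h5
    · have hJ : P = (Nat.card F + 1) * (Nat.card F ^ 2 + 1) * (y + 2) := by
        refine Nat.eq_of_mul_eq_mul_right (m := u) (by omega) ?_
        have e : (u + 1 + 1) * ((u + 1) ^ 2 + 1) * u + 1 = (u + 1) * (y + 1) := by
          rw [← hy, hu]; ring
        rw [hu]
        nlinarith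
      rw [hJ] at hP0 ⊢
      refine plus_eight hn hk h4 hp0 hp hM hy.symm rfl hP0 ?_
      rw [hτ, ← hy, ← hu]; ring
    · have h1 := plus_bound hn hk (by omega) hp0 hp hM
      have h2 := ncard_le_card (Fib Q (eichGroup Q ⧸ K) p (Wd Q p ω))
      have h6 : Nat.card F ^ 2 ≤ Nat.card F ^ (k + 1 - 3) := Nat.pow_le_pow_right Nat.card_pos (by omega)
      rw [Nat.add_sub_cancel, hy, hτ, Nat.add_sub_cancel] at h1
      generalize Nat.card F ^ (k + 1 - 3) = z at *
      generalize (Fib Q (eichGroup Q ⧸ K) p (Wd Q p ω)).ncard = f at *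
      rw [hu] at h1 h6
      exact (arith_plus5 (by omega) hu3 hP h1 h6).trans h2

theorem plus_two (hw : (ofQuad Q).WittIndex (k + 1)) (h3 : 3 ≤ k) (h2 : Nat.card F = 2)
    (K : Subgroup (eichGroup Q)) (hK : K ≠ ⊤) : 2 ^ k * (2 ^ (k + 1) - 1) ≤ K.index := by
  refine lower_of_action (fun K hnt => ?_) K hK
  obtain ⟨y, hy⟩ := Nat.exists_eq_add_of_lt (Nat.one_le_pow k 2 (by omega))
  rw [zero_add] at hy
  have hc : ringChar F = 2 := ringChar_eq_two (two_eq_zero_of_card_two h2)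
  have hy' : Nat.card F ^ k = y + 1 := by rw [h2, hy]
  have hs := plus_nsing hn hk hw (u := 1) h2 hy'
  have h := even_cases hn hk h3 ((1 : eichGroup Q) : eichGroup Q ⧸ K) hnt
    (not_regAll_two hn (by omega) h2 ((1 : eichGroup Q) : eichGroup Q ⧸ K)) (u := 1) h2 hy'
    (P := (2 * y + 1) * (y + 2)) (by rw [hs]; ring) (C := (y + 1) * y)
    (τ := y * (y + 3)) (by rw [hs]; ring) (by
      rw [if_pos (two_eq_zero_of_card_two h2)]; exact le_of_eq (by ring))
  rw [pow_succ, hy, show (y + 1) * 2 - 1 = 2 * y + 1 by omega]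
  rcases h with h | h | h | ⟨-, h⟩ | ⟨p, ω, hp0, hp, hτ, hM⟩
  · nlinarith
  · nlinarith
  · nlinarith
  · have := h hc.symm
    nlinarith
  · have h1 := plus_bound hn hk (by omega) hp0 hp hM
    have h4 := ncard_le_card (Fib Q (eichGroup Q ⧸ K) p (Wd Q p ω))
    obtain ⟨j, rfl⟩ := Nat.exists_eq_add_of_le h3
    rw [Nat.add_sub_cancel, hy', hτ, Nat.add_sub_cancel, h2, show 3 + j + 1 - 3 = j + 1 by omega] at h1
    have h5 : y + 1 = 8 * 2 ^ j := by rw [← hy]; ring
    have h6 : 1 ≤ 2 ^ j := Nat.one_le_pow _ _ (by omega)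
    rw [pow_succ] at h1
    generalize 2 ^ j = z at *
    generalize (Fib Q (eichGroup Q ⧸ K) p (Wd Q p ω)).ncard = f at *
    have h7 : (y + 1) * ((y + 3) * (z * 2 + 1)) ≤ 2 * f :=
      Nat.le_of_mul_le_mul_left (c := y) (by nlinarith) (by omega)
    have h8 : 2 * (2 * y + 1) ≤ (y + 3) * (z * 2 + 1) := by
      obtain ⟨z, rfl⟩ := Nat.exists_eq_add_of_le h6
      obtain rfl : y = 7 + 8 * z := by omega
      nlinarith
    have := Nat.mul_le_mul_left (y + 1) h8
    nlinarith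

theorem plus_two_attain (hw : (ofQuad Q).WittIndex (k + 1)) (h3 : 3 ≤ k) (h2 : Nat.card F = 2) :
    ∃ K : Subgroup (eichGroup Q), (∀ g : eichGroup Q, g.1 = negOne Q → g ∈ K) ∧
      K.index = 2 ^ k * (2 ^ (k + 1) - 1) := by
  obtain ⟨K, h4, h5⟩ := index_class hn (by omega) (1 : F)
  refine ⟨K, h4, ?_⟩
  obtain ⟨y, hy⟩ := Nat.exists_eq_add_of_lt (Nat.one_le_pow k 2 (by omega))
  rw [zero_add] at hy
  have hs := plus_nsing hn hk hw (u := 1) h2 (by rw [h2, hy])
  have h6 := card_subtype_add_card_not (fun v : V => (ofQuad Q).Sing v)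
  have h7 : Nat.card {v : V // ¬ (ofQuad Q).Sing v} =
      {v : V | v ≠ 0 ∧ ∃ s : F, s ≠ 0 ∧ Q v = s ^ 2 * 1}.ncard :=
    Nat.card_congr (Equiv.subtypeEquivRight fun v => by
      rw [sing_ofQuad]
      exact ⟨fun h => ⟨by rintro rfl; simp at h, 1, one_ne_zero, by rw [eq_one_of_card_two h2 h]; ring⟩,
        fun ⟨_, s, hs, e⟩ => by rw [e]; simpa using hs⟩)
  rw [h7, ← h5, Module.natCard_eq_pow_finrank (K := F) (V := V), hk, h2,
    show 2 ^ (2 * (k + 1)) = 4 * (2 ^ k) ^ 2 by ring, hy] at h6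
  have h8 : Nat.card {v : V // (ofQuad Q).Sing v} = (ofQuad Q).nsing := rfl
  rw [pow_succ, hy, show (y + 1) * 2 - 1 = 2 * y + 1 by omega]
  nlinarith

theorem minus_not_regAll (hw : (ofQuad Q).WittIndex k) (h3 : 3 ≤ k) {Ω : Type*}
    [MulAction (eichGroup Q) Ω] (ω : Ω) : ¬ RegAll Q Ω := by
  rcases char_cases F with ⟨-, -, h | h⟩ | ⟨h2, t, ht, hc⟩
  · exact not_regAll_two hn (by omega) h ω
  · exact not_regAll_four hn (by omega) h ω
  rcases h3.eq_or_lt with rfl | h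
  · by_cases h4 : 4 ≤ Nat.card F
    · exact not_regAll_four hn (by omega) h4 ω
    have := Fintype.ofFinite F
    have hq : Fintype.card F = 3 := by rw [← Nat.card_eq_fintype_card]; omega
    refine not_regAll_neg hn (by omega) ⟨4, by omega⟩ h2 ?_ ?_ ω
    · rw [negOne_mem_minus_iff hn h2 hk hw, hq]; decide
    · have := isSquare_neg_one_pow_iff h2 1
      rw [pow_one, hq] at this
      rw [this]; decide
  · exact not_regAll_odd hn (by omega) (by omega) h2 ω

theorem minus_all (hw : (ofQuad Q).WittIndex k) (h3 : 3 ≤ k) {P : ℕ}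
    (hP : P * (Nat.card F - 1) + 1 = (ofQuad Q).nsing) (K : Subgroup (eichGroup Q)) (hK : K ≠ ⊤) :
    P ≤ K.index := by
  refine lower_of_action (fun K hnt => ?_) K hK
  have h1 := one_lt_q (F := F)
  obtain ⟨u, hu⟩ : ∃ u, Nat.card F = u + 1 := ⟨Nat.card F - 1, by omega⟩
  have hq3 : Nat.card F * 2 ^ 2 ≤ Nat.card F ^ k := by
    refine le_trans ?_ (Nat.pow_le_pow_right (Nat.card_pos (α := F)) h3)
    rw [pow_succ' _ 2]
    exact Nat.mul_le_mul_left _ (Nat.pow_le_pow_left h1 2)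
  obtain ⟨y, hy⟩ := Nat.exists_eq_add_of_le (show u + 1 ≤ Nat.card F ^ k by omega)
  have hs := minus_nsing hn hk hw hu hy
  rw [hu, Nat.add_sub_cancel] at hP
  obtain ⟨C, hC, hC1, hC2⟩ : ∃ C, C * (if (2 : F) = 0 then 1 else 2) = u * (u + 1 + y) * (u + 1 + y + 1) ∧
      (u + 1 + y) * (u + 1 + y + 1) ≤ C ∧ (u + 1 = ringChar F ∧ u ≤ 2 ∨
        (u + 1) ^ 2 * (u + 1 + y) ^ 2 ≤ u * (C * ringChar F)) := by
    generalize u + 1 + y = x
    rcases char_cases F with ⟨h2, hc, h⟩ | ⟨h2, t, ht, hc⟩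
    · refine ⟨u * x * (x + 1), by simp [h2], ?_, ?_⟩
      · rw [mul_assoc]; exact Nat.le_mul_of_pos_left _ (by omega)
      · rcases h with h | h
        · omega
        · right
          have : (u + 1) ^ 2 ≤ 2 * u * u := by
            obtain ⟨u, rfl⟩ := Nat.exists_eq_add_of_le (show 3 ≤ u by omega)
            nlinarith
          rw [hc]
          nlinarith [Nat.mul_le_mul_right (x ^ 2) this, Nat.zero_le (u * u * x)]
    · obtain rfl : u = 2 * t := by omega
      refine ⟨t * x * (x + 1), by simp only [h2, if_false]; ring, ?_, ?_⟩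
      · rw [mul_assoc]; exact Nat.le_mul_of_pos_left _ (by omega)
      · by_cases h : t = 1
        · omega
        right
        have : (2 * t + 1) ^ 2 ≤ 2 * t * t * ringChar F := by
          rcases hc with ⟨h', -⟩ | ⟨h, e⟩ | ⟨h, e⟩
          · omega
          · rw [e]; nlinarith
          · refine le_trans ?_ (Nat.mul_le_mul_left _ e); nlinarith
        nlinarith [Nat.mul_le_mul_right (x ^ 2) this, Nat.zero_le (t * t * x * ringChar F)]
  have h := even_cases hn hk h3 ((1 : eichGroup Q) : eichGroup Q ⧸ K) hnt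
    (minus_not_regAll hn hk hw h3 ((1 : eichGroup Q) : eichGroup Q ⧸ K)) hu hy hP (C := C)
    (τ := (u + 1 + y + 1) * y) (by nlinarith) (by rw [hC]; exact le_of_eq (by ring))
  rw [← hP] at hs
  rw [hy, hu] at hq3
  rcases h with h | h | h | ⟨h, h'⟩ | ⟨p, ω, hp0, hp, hτ, hM⟩
  · exact Nat.le_of_mul_le_mul_right (c := u) (by nlinarith) (by omega)
  · exact h
  · refine Nat.le_of_mul_le_mul_right (c := u) ?_ (by omega)
    have := Nat.mul_le_mul_right u h
    have : (u + 1) * (u + 1 + y) ^ 2 ≤ (2 * u) * (u + 1 + y) ^ 2 := Nat.mul_le_mul_right _ (by omega)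
    nlinarith
  · rcases hC2 with ⟨e, e'⟩ | e
    · have := h' e
      refine Nat.le_of_mul_le_mul_right (c := u) ?_ (by omega)
      rcases (show u = 1 ∨ u = 2 by omega) with rfl | rfl <;> nlinarith
    · refine Nat.le_of_mul_le_mul_right (c := u * (u + 1)) ?_ (Nat.mul_pos (by omega) (by omega))
      have := Nat.mul_le_mul_left u h
      have h5 : P * u ≤ (u + 1) * (u + 1 + y) ^ 2 := by omega
      have := Nat.mul_le_mul_right (u + 1) h5
      nlinarith
  · have := hw.2 _ hM.totSing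
    rw [hM.1] at this
    omega

end Even

end Cfsg.Agent.MinD
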