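import Cfsg.Agent.MinD.Nm

/-! Minimal degrees of orthogonal groups, part 8: the numerical conclusions. -/

set_option autoImplicit false
set_option linter.unusedSectionVars false

namespace Cfsg.Agent.MinD

open Cfsg.Agent.Geom Cfsg.Agent.Geom.Formed Cfsg.Agent.Root.Mx QuadraticMap Module

variable {F : Type*} [Field F] {V : Type*} [AddCommGroup V] [Module F V] {Q : QuadraticForm F V}
  [Finite F] [FiniteDimensional F V] [Finite V]

instance finite_eichGroup : Finite (eichGroup Q) :=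
  have : Finite (V ≃ₗ[F] V) := DFunLike.finite _
  inferInstance

theorem char_cases (F : Type*) [Field F] [Finite F] :
    ((2 : F) = 0 ∧ ringChar F = 2 ∧ (Nat.card F = 2 ∨ 4 ≤ Nat.card F)) ∨
    ((2 : F) ≠ 0 ∧ ∃ t, Nat.card F = 2 * t + 1 ∧ ((t = 1 ∧ ringChar F = 3) ∨
      (4 ≤ t ∧ ringChar F = 3) ∨ (2 ≤ t ∧ 5 ≤ ringChar F))) := by
  have := Fintype.ofFinite F
  obtain ⟨⟨j, hj⟩, hp, hk⟩ := FiniteField.card F (ringChar F)
  rw [← Nat.card_eq_fintype_card] at hk
  have hk : Nat.card F = ringChar F ^ j := hk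
  have h1 : ∀ a, 1 < j → a ^ 2 ≤ ringChar F ^ 2 → a ^ 2 ≤ Nat.card F := fun a h h' =>
    hk ▸ h'.trans (Nat.pow_le_pow_right hp.pos h)
  have h0 : ringChar F ≤ Nat.card F := hk ▸ Nat.le_self_pow hj.ne' _
  have h3 : j = 1 → Nat.card F = ringChar F := fun h => by rw [hk, h, pow_one]
  by_cases h2 : (2 : F) = 0
  · have h4 := ringChar_eq_two h2
    refine Or.inl ⟨h2, h4, ?_⟩
    rcases (show j = 1 ∨ 1 < j by omega) with h | h
    · exact Or.inl ((h3 h).trans h4)
    · exact Or.inr (h1 2 h (by rw [h4]))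
  · obtain ⟨t, ht⟩ := odd_card_of_two_ne_zero h2
    rw [← Nat.card_eq_fintype_card] at ht
    refine Or.inr ⟨h2, t, ht, ?_⟩
    have h4 := ringChar_ne_two h2
    have h5 := hp.two_le
    have h6 : ringChar F ≠ 4 := fun e => by rw [e] at hp; norm_num at hp
    by_cases h7 : ringChar F = 3
    · rcases (show j = 1 ∨ 1 < j by omega) with h | h
      · have := h3 h; omega
      · have := h1 3 h (by rw [h7]); omega
    · omega

theorem exists_P (q n : ℕ) (hq : 1 < q) : ∃ P, P * (q - 1) + 1 = q ^ n := by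
  obtain ⟨P, hP⟩ := Nat.sub_one_dvd_pow_sub_one q n
  have := Nat.one_le_pow n q (by omega)
  exact ⟨P, by rw [mul_comm, ← hP]; omega⟩

theorem div_eq_of {q P a : ℕ} (hq : 1 < q) (h : P * (q - 1) = a) : a / (q - 1) = P :=
  Nat.div_eq_of_eq_mul_left (by omega) h.symm

section Odd
variable (hn : (ofQuad Q).Nondeg) {k : ℕ} (hk : finrank F V = 2 * (k + 1) + 1)
include hn hk

theorem odd_nsing : (ofQuad Q).nsing = Nat.card F ^ 2 * (Nat.card F ^ k) ^ 2 := by
  rw [nsing_odd hn (wittIndex_odd hn hk) hk]; ring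

theorem odd_e : Nat.card F ^ (finrank F V - 2) = Nat.card F * (Nat.card F ^ k) ^ 2 := by
  rw [hk, show 2 * (k + 1) + 1 - 2 = 2 * k + 1 by omega]; ring

theorem odd_T1 {p : V} (hp0 : p ≠ 0) (hp : Q p = 0) :
    (T1 Q p).ncard + Nat.card F = Nat.card F * (Nat.card F ^ k) ^ 2 := by
  have h := ncard_T1 hn hp0 hp
  rw [odd_nsing hn hk, odd_e hn hk] at h
  obtain ⟨t, ht⟩ := Nat.exists_eq_add_of_lt (one_lt_q (F := F))
  rw [ht] at h ⊢
  simp only [Nat.add_sub_cancel] at h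
  nlinarith

theorem odd_Tc {t y : ℕ} (ht : Nat.card F = 2 * t + 1) (hy : Nat.card F ^ k = y + 1) {p : V}
    (hp0 : p ≠ 0) (hp : Q p = 0) {c : F} (hc : c ≠ 0) :
    (Tc Q p c).ncard = (2 * t + 1) * (y + 1) * t * y ∨
      (Tc Q p c).ncard = (2 * t + 1) * (y + 1) * t * (y + 2) := by
  obtain ⟨U, hU, d, e⟩ := Tc_odd hn (two_ne_zero_of_odd_finrank hn ⟨_, hk⟩) hp0 hp hc
  rw [odd_T1 hn hk hp0 hp] at e
  rcases wittIndex_even hU (m := k) (by omega) with h | h
  · have := nsing_plus hU h (by omega)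
    rw [pow_succ, pow_succ, mul_comm 2 k, pow_mul, hy] at this
    rw [hy, ht] at *
    right; nlinarith
  · have := nsing_minus hU h (by omega)
    rw [pow_succ, pow_succ, mul_comm 2 k, pow_mul, hy] at this
    rw [hy, ht] at *
    left; nlinarith

theorem odd_cases {Ω : Type*} [MulAction (eichGroup Q) Ω] [Finite Ω]
    [MulAction.IsPretransitive (eichGroup Q) Ω] (h2 : 2 ≤ k) (ω₀ : Ω)
    (hnt : ∀ ω : Ω, ∃ g : eichGroup Q, g • ω ≠ ω) {t y P : ℕ} (ht : Nat.card F = 2 * t + 1)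
    (hy : Nat.card F ^ k = y + 1) (hP : P * (2 * t) + 1 = (2 * t + 1) ^ 2 * (y + 1) ^ 2) :
    2 * t * ((2 * t + 1) * (y + 1) ^ 2) + (2 * t + 1) * (y + 1) * t * y ≤ 2 * t * Nat.card Ω ∨
    P ≤ Nat.card Ω ∨ 2 * ((2 * t + 1) * (y + 1) ^ 2) ≤ Nat.card Ω ∨
    ((2 * t + 1) * (y + 1) * t * y * ringChar F ≤ (2 * t + 1) * Nat.card Ω ∧
      (2 * t + 1 = ringChar F → (2 * t + 1) * (y + 1) * t * y + (2 * t + 1) * (y + 1) ^ 2 ≤
        Nat.card Ω + 2 * t)) := by
  obtain ⟨p, -, r, -, hpr⟩ := exists_pair hn (nondeg_top hn) (by rw [finrank_top]; omega)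
  have h := main_cases hn (by omega) ω₀ hnt
    (not_regAll_odd hn (by omega) (by omega) (two_ne_zero_of_odd_finrank hn ⟨_, hk⟩) ω₀) (P := P)
    (C := (2 * t + 1) * (y + 1) * t * y) (by rw [odd_nsing hn hk, hy, ht]; exact hP)
    (ncard_T1 hn hpr.left_ne_zero hpr.Q_left) (fun p c hp0 hp hc => by
      rcases odd_Tc hn hk ht hy hp0 hp hc with h | h
      · exact h.ge
      · rw [h]; exact Nat.mul_le_mul_left _ (by omega))
  have h1 := odd_T1 hn hk hpr.left_ne_zero hpr.Q_left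
  rw [odd_e hn hk] at h
  rw [hy, ht] at h h1
  simp only [Nat.add_sub_cancel] at h
  rcases h with h | h | h | h | ⟨p, ω, -, -, h3, h4⟩
  · exact Or.inl h
  · exact Or.inr (Or.inl h)
  · exact Or.inr (Or.inr (Or.inl h))
  · exact Or.inr (Or.inr (Or.inr ⟨h.1, fun e => by have := h.2 e; omega⟩))
  · have := (maxTS_of_large hn h3 h4).1
    omega

theorem odd_five (h2 : 2 ≤ k) (h5 : 5 ≤ Nat.card F) {P : ℕ}
    (hP : P * (Nat.card F - 1) + 1 = Nat.card F ^ (2 * (k + 1))) (K : Subgroup (eichGroup Q))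
    (hK : K ≠ ⊤) : P ≤ K.index := by
  refine lower_of_action (fun K hnt => ?_) K hK
  rcases char_cases F with ⟨h, -⟩ | ⟨-, t, ht, hc⟩
  · exact absurd h (two_ne_zero_of_odd_finrank hn ⟨_, hk⟩)
  obtain ⟨y, hy⟩ := Nat.exists_eq_add_of_lt (Nat.one_le_pow k _ (Nat.card_pos (α := F)))
  rw [zero_add] at hy
  have hy' : 24 ≤ y := by
    have := (Nat.pow_le_pow_left h5 2).trans (Nat.pow_le_pow_right Nat.card_pos h2)
    omega
  have hP' : P * (2 * t) + 1 = (2 * t + 1) ^ 2 * (y + 1) ^ 2 := by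
    rw [← hy, ← ht, show 2 * t = Nat.card F - 1 by omega, hP]; ring
  have ht2 : 2 ≤ t := by omega
  have h := odd_cases hn hk h2 ((1 : eichGroup Q) : eichGroup Q ⧸ K) hnt ht hy hP'
  generalize Nat.card (eichGroup Q ⧸ K) = N at *
  rcases h with h | h | h | ⟨h, -⟩
  · refine Nat.le_of_mul_le_mul_right (c := 2 * t) ?_ (by omega)
    have : y + 1 ≤ t * y := by nlinarith
    have := Nat.mul_le_mul_left ((2 * t + 1) * (y + 1)) this
    nlinarith
  · exact h
  · refine Nat.le_of_mul_le_mul_right (c := 2 * t) ?_ (by omega)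
    have := Nat.mul_le_mul_right (2 * t) h
    have : (2 * t + 1) * (y + 1) ^ 2 * (2 * t + 1) ≤ (2 * t + 1) * (y + 1) ^ 2 * (4 * t) :=
      Nat.mul_le_mul_left _ (by omega)
    nlinarith
  · refine Nat.le_of_mul_le_mul_right (c := 2 * t) ?_ (by omega)
    have h3 : (y + 1) * t * y * ringChar F ≤ N :=
      Nat.le_of_mul_le_mul_left (c := 2 * t + 1) (by nlinarith) (by omega)
    have h4 : (2 * t + 1) ^ 2 * (y + 1) ≤ 2 * t * t * ringChar F * y := by
      rcases hc with ⟨h, -⟩ | ⟨h, e⟩ | ⟨h, e⟩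
      · omega
      · rw [e]
        obtain ⟨t, rfl⟩ := Nat.exists_eq_add_of_le h
        obtain ⟨y, rfl⟩ := Nat.exists_eq_add_of_le hy'
        nlinarith [Nat.zero_le (t * y), Nat.zero_le (t * t * y)]
      · refine le_trans ?_ (Nat.mul_le_mul_right y (Nat.mul_le_mul_left (2 * t * t) e))
        obtain ⟨t, rfl⟩ := Nat.exists_eq_add_of_le h
        obtain ⟨y, rfl⟩ := Nat.exists_eq_add_of_le hy'
        nlinarith [Nat.zero_le (t * y), Nat.zero_le (t * t * y)]
    have := Nat.mul_le_mul_right (y + 1) h4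
    have := Nat.mul_le_mul_right (2 * t) h3
    nlinarith

theorem odd_three (h2 : 2 ≤ k) (h3 : Nat.card F = 3) (K : Subgroup (eichGroup Q)) (hK : K ≠ ⊤) :
    3 ^ (k + 1) * (3 ^ (k + 1) - 1) / 2 ≤ K.index := by
  refine lower_of_action (fun K hnt => ?_) K hK
  have hc : ringChar F = 3 := by
    rcases char_cases F with ⟨-, -, h⟩ | ⟨-, t, ht, hc⟩ <;> omega
  obtain ⟨y, hy⟩ := Nat.exists_eq_add_of_lt (Nat.one_le_pow k 3 (by omega))
  rw [zero_add] at hy
  have hy' : 8 ≤ y := by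
    have := Nat.pow_le_pow_right (n := 3) (by omega) h2
    omega
  obtain ⟨P, hP⟩ := exists_P 3 (2 * (k + 1)) (by omega)
  have h := odd_cases hn hk h2 ((1 : eichGroup Q) : eichGroup Q ⧸ K) hnt (t := 1) (y := y) (P := P) h3
    (by rw [h3, hy]) (by rw [← hy, hP]; ring)
  rw [show 3 ^ (2 * (k + 1)) = 9 * (3 ^ k) ^ 2 by ring, hy] at hP
  rw [pow_succ, hy, show (y + 1) * 3 - 1 = 3 * y + 2 by omega]
  generalize Nat.card (eichGroup Q ⧸ K) = N at *
  refine Nat.div_le_of_le_mul ?_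
  rcases h with h | h | h | ⟨-, h⟩
  · nlinarith
  · nlinarith
  · nlinarith
  · have := h hc.symm
    nlinarith

end Odd

theorem ncard_level (hn : (ofQuad Q).Nondeg) {p : V} (hp0 : p ≠ 0) (hp : Q p = 0) (c : F) :
    {v | Q v = c}.ncard = {v | polar Q p v = 0 ∧ Q v = c}.ncard +
      (Nat.card F - 1) * Nat.card F ^ (finrank F V - 2) := by
  obtain ⟨r, hpr⟩ := exists_isPair hn hp0 hp
  have hpp := polar_self_of_sing hp
  have hrr := polar_self_of_sing hpr.Q_right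
  have h1 := hpr.polar_eq
  have h1' := hpr.polar_eq'
  have hQ : ∀ (w : V) (a b : F), Q (w + a • p + b • r) = Q w + a * polar Q p w + b * polar Q r w + a * b := by
    intro w a b
    rw [quad_add, quad_add, quad_smul, quad_smul, hp, hpr.Q_right]
    simp [polar_comm Q w, h1]; ring
  rw [← hpr.finrank_pairPerp hn, Nat.add_sub_cancel, ← Module.natCard_eq_pow_finrank, ← Nat.card_units,
    ← Nat.card_prod]
  refine (card_subtype_add_card_not (fun v : {v | Q v = c} => polar Q p v = 0)).symm.trans ?_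
  congr 1
  · exact Nat.card_congr ⟨fun x => ⟨x.1.1, x.2, x.1.2⟩, fun x => ⟨⟨x.1, x.2.2⟩, x.2.1⟩, fun _ => rfl,
      fun _ => rfl⟩
  · symm
    refine Nat.card_congr (Equiv.ofBijective (fun x => ⟨⟨x.2.1 + ((c - Q x.2.1) / x.1) • p + (x.1 : F) • r,
      ?_⟩, ?_⟩) ⟨?_, ?_⟩)
    · obtain ⟨e1, e2⟩ := mem_pairPerp_quad.1 x.2.2
      show Q _ = c
      rw [hQ, e1, e2]; field_simp; ring
    · simp [(mem_pairPerp_quad.1 x.2.2).1, hpp, h1]
    · rintro ⟨a, x, hx⟩ ⟨b, y, hy⟩ e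
      have e : x + ((c - Q x) / a) • p + (a : F) • r = y + ((c - Q y) / b) • p + (b : F) • r :=
        congrArg (fun z => z.1.1) e
      obtain ⟨x1, x2⟩ := mem_pairPerp_quad.1 hx
      obtain ⟨y1, y2⟩ := mem_pairPerp_quad.1 hy
      have e1 := congrArg (polar Q p) e
      have e2 := congrArg (polar Q r) e
      simp only [polar_add_right, polar_smul_right, x1, x2, y1, y2, hpp, hrr, h1, h1', smul_eq_mul,
        mul_one, mul_zero, zero_add, add_zero] at e1 e2
      rw [e2, e1, add_left_inj, add_left_inj] at e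
      exact Prod.ext (Units.ext e1) (Subtype.ext e)
    · rintro ⟨⟨v, hv⟩, hv'⟩
      have hv : Q v = c := hv
      have hv' : polar Q p v ≠ 0 := hv'
      refine ⟨(Units.mk0 _ hv', ⟨_, hpr.proj_mem v⟩), Subtype.ext (Subtype.ext ?_)⟩
      have := hQ v (-polar Q r v) (-polar Q p v)
      rw [neg_smul, neg_smul, ← sub_eq_add_neg, ← sub_eq_add_neg] at this
      simp only [Units.val_mk0, this, hv]
      match_scalars
      · rfl
      · field_simp; ring
      · ring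

theorem sq_eq_one_of_three (h3 : Nat.card F = 3) {s : F} (hs : s ≠ 0) : s ^ 2 = 1 := by
  have := Fintype.ofFinite F
  have := FiniteField.pow_card_sub_one_eq_one s hs
  rwa [← Nat.card_eq_fintype_card, h3] at this

theorem odd_three_attain (hn : (ofQuad Q).Nondeg) {k : ℕ} (hk : finrank F V = 2 * (k + 1) + 1)
    (h2 : 2 ≤ k) (h3 : Nat.card F = 3) : ∃ K : Subgroup (eichGroup Q),
      (∀ g : eichGroup Q, g.1 = negOne Q → g ∈ K) ∧ K.index = 3 ^ (k + 1) * (3 ^ (k + 1) - 1) / 2 := by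
  obtain ⟨p, -, r, -, hpr⟩ := exists_pair hn (nondeg_top hn) (by rw [finrank_top]; omega)
  have hp0 := hpr.left_ne_zero
  have hp := hpr.Q_left
  obtain ⟨y, hy⟩ := Nat.exists_eq_add_of_lt (Nat.one_le_pow k 3 (by omega))
  rw [zero_add] at hy
  have hT : ∀ c : F, Tc Q p c = {v | polar Q p v = 0 ∧ Q v = c} := fun c => by
    ext v
    exact and_congr_right fun _ => ⟨fun ⟨s, hs, e⟩ => by rw [e, sq_eq_one_of_three h3 hs, one_mul],
      fun h => ⟨1, one_ne_zero, by rw [h]; ring⟩⟩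
  have h2' := two_ne_zero_of_odd_finrank hn ⟨_, hk⟩
  obtain ⟨c, hc, e⟩ : ∃ c : F, c ≠ 0 ∧ (Tc Q p c).ncard = (2 * 1 + 1) * (y + 1) * 1 * y := by
    by_contra! H
    have e1 := (odd_Tc hn hk (t := 1) (y := y) h3 (by rw [h3, hy]) hp0 hp one_ne_zero).resolve_left
      (H _ one_ne_zero)
    have e2 := (odd_Tc hn hk (t := 1) (y := y) h3 (by rw [h3, hy]) hp0 hp
      (neg_ne_zero.2 one_ne_zero)).resolve_left (H _ (neg_ne_zero.2 one_ne_zero))
    have e3 := ncard_sing_perp (F := F) hp0 hp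
    rw [odd_T1 hn hk hp0 hp] at e3
    have e4 := card_mul_pp hn hp0
    rw [Module.natCard_eq_pow_finrank (K := F) (V := V), hk] at e4
    have e5 : ((Tc Q p 1 ∪ Tc Q p (-1)) ∪ {w | polar Q p w = 0 ∧ Q w = 0}).ncard ≤ Nat.card (pp Q p) :=
      Set.ncard_le_ncard (t := (pp Q p : Set V)) (by
        rintro x ((h | h) | h) <;> exact mem_pp.2 h.1)
    rw [Set.ncard_union_eq, Set.ncard_union_eq, e1, e2, e3] at e5
    · rw [h3, show 3 ^ (2 * (k + 1) + 1) = 27 * (3 ^ k) ^ 2 by ring] at e4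
      rw [h3] at e5
      rw [hy] at e4 e5
      nlinarith
    · rw [hT, hT, Set.disjoint_left]
      exact fun x h h' => h2' (by linear_combination h'.2 - h.2)
    · rw [hT, hT, Set.disjoint_left]
      rintro x (h | h) h'
      · exact one_ne_zero (h.2.symm.trans h'.2)
      · exact neg_ne_zero.2 one_ne_zero (h.2.symm.trans h'.2)
  obtain ⟨K, h4, h5⟩ := index_class hn (by omega) c
  refine ⟨K, h4, ?_⟩
  have e' : {v : V | v ≠ 0 ∧ ∃ s : F, s ≠ 0 ∧ Q v = s ^ 2 * c} = {v | Q v = c} := by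
    ext v
    exact ⟨fun ⟨_, s, hs, e⟩ => by rw [Set.mem_ofPred_eq, e, sq_eq_one_of_three h3 hs, one_mul],
      fun h => ⟨by rintro rfl; exact hc (h.symm.trans (map_zero Q)), 1, one_ne_zero, by
        rw [show Q v = c from h]; ring⟩⟩
  rw [e', ncard_level hn hp0 hp, ← hT, e, odd_e hn hk, h3, hy] at h5
  rw [pow_succ, hy, show (y + 1) * 3 - 1 = 3 * y + 2 by omega]
  refine (Nat.div_eq_of_eq_mul_left (by omega) ?_).symm
  rw [show 3 - 1 = 2 from rfl] at h5
  rw [h5]; ring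

end Cfsg.Agent.MinD
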