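import Cfsg.Agent.Root.Max2
import Cfsg.Agent.Geom.Family
import Mathlib.NumberTheory.LegendreSymbol.Complex

/-! Minimal degrees of orthogonal groups, part 1: counting tools, the character annihilator `ann`,
the stabilisers `Stb p ω` in the unipotent radical of a point stabiliser and their duals `Wd p ω`. -/

set_option autoImplicit false

namespace Cfsg.Agent.MinD

open Cfsg.Agent.Geom Cfsg.Agent.Geom.Formed QuadraticMap Module

theorem card_eq_mul_range {U X : Type*} [AddCommGroup U] [Finite U] (f : U → X) (Y : AddSubgroup U)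
    (h : ∀ a b, f a = f b ↔ a - b ∈ Y) : Nat.card U = Nat.card Y * (Set.range f).ncard := by
  rw [AddSubgroup.card_eq_card_quotient_mul_card_addSubgroup Y, mul_comm]
  congr 1
  let g : U ⧸ Y → Set.range f := Quotient.lift (fun a => ⟨f a, a, rfl⟩) (fun a b hab => by
    have : -a + b ∈ Y := QuotientAddGroup.leftRel_apply.1 hab
    refine Subtype.ext ((h a b).2 ?_)
    have := Y.neg_mem this
    rwa [neg_add_rev, neg_neg, neg_add_eq_sub] at this)
  refine Nat.card_congr (Equiv.ofBijective g ⟨?_, ?_⟩)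
  · intro x y
    induction x using QuotientAddGroup.induction_on
    induction y using QuotientAddGroup.induction_on
    rename_i a b
    intro e
    have := (h a b).1 (congrArg Subtype.val e)
    refine QuotientAddGroup.eq.2 ?_
    have := Y.neg_mem this
    rwa [neg_sub, sub_eq_neg_add] at this
  · rintro ⟨_, a, rfl⟩
    exact ⟨(a : U ⧸ Y), rfl⟩

variable {F : Type*} [Field F] {V : Type*} [AddCommGroup V] [Module F V]

theorem ncard_lines [Finite F] [Finite V] (S : Set V) (h0 : (0 : V) ∉ S)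
    (hS : ∀ c : F, c ≠ 0 → ∀ v ∈ S, c • v ∈ S) :
    S.ncard = ((fun v => F ∙ v) '' S).ncard * (Nat.card F - 1) := by
  classical
  have key := card_eq_mul_of_fiber (α := S) (β := (fun v => F ∙ v) '' S)
    (fun v => ⟨F ∙ v.1, v.1, v.2, rfl⟩) (Nat.card F - 1) ?_
  · exact key
  rintro ⟨_, v, hv, rfl⟩
  have hv0 : v ≠ 0 := fun e => h0 (e ▸ hv)
  rw [← Nat.card_units]
  symm
  refine Nat.card_congr (Equiv.ofBijective (fun c : Fˣ => ⟨⟨(c : F) • v, hS _ c.ne_zero _ hv⟩,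
    Subtype.ext (Submodule.span_singleton_smul_eq c.isUnit v)⟩) ⟨?_, ?_⟩)
  · intro c d e
    have : (c : F) • v = (d : F) • v := congrArg (fun x => x.1.1) e
    exact Units.ext (smul_left_injective F hv0 this)
  · rintro ⟨⟨w, hw⟩, e⟩
    have e' : (F ∙ w) = F ∙ v := congrArg Subtype.val e
    obtain ⟨c, hc⟩ := Submodule.mem_span_singleton.1 (e' ▸ Submodule.mem_span_singleton_self w)
    have hc0 : c ≠ 0 := by rintro rfl; rw [zero_smul] at hc; exact h0 (hc ▸ hw)
    exact ⟨Units.mk0 c hc0, Subtype.ext (Subtype.ext hc)⟩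

/-- Double counting of a relation. -/
theorem double_count {α β : Type*} [Finite α] [Finite β] (r : α → β → Prop) (S : Set α) (T : Set β)
    (k l : ℕ) (hk : ∀ a ∈ S, k ≤ {b ∈ T | r a b}.ncard) (hl : ∀ b ∈ T, {a ∈ S | r a b}.ncard ≤ l) :
    S.ncard * k ≤ T.ncard * l := by
  classical
  have := Fintype.ofFinite α
  have := Fintype.ofFinite β
  rw [Set.ncard_eq_toFinset_card', Set.ncard_eq_toFinset_card']
  refine Finset.card_mul_le_card_mul r (fun a ha => ?_) (fun b hb => ?_)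
  · refine (hk a (by simpa using ha)).trans (le_of_eq ?_)
    rw [Set.ncard_eq_toFinset_card']
    congr 1; ext; simp [Finset.bipartiteAbove]
  · refine le_trans (le_of_eq ?_) (hl b (by simpa using hb))
    rw [Set.ncard_eq_toFinset_card']
    congr 1; ext; simp [Finset.bipartiteBelow]

section Ann
variable [Finite F]

/-- A fixed primitive additive character. -/
noncomputable def psi (F : Type*) [Field F] [Finite F] : AddChar F ℂ :=
  AddChar.FiniteField.primitiveChar_to_Complex F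

theorem eq_zero_of_psi {x : F} (h : ∀ c : F, psi F (c * x) = 1) : x = 0 := by
  by_contra hx
  refine AddChar.FiniteField.primitiveChar_to_Complex_isPrimitive F hx ?_
  ext c
  rw [AddChar.mulShift_apply, mul_comm]
  exact h c

variable (Q : QuadraticForm F V)

/-- The annihilator of an additive subgroup for the character pairing. -/
def ann (S : AddSubgroup V) : AddSubgroup V where
  carrier := {w | ∀ a ∈ S, psi F (polar Q a w) = 1}
  zero_mem' := fun a _ => by simp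
  add_mem' := fun {x y} hx hy a ha => by
    rw [polar_add_right, AddChar.map_add_eq_mul, hx a ha, hy a ha, one_mul]
  neg_mem' := fun {x} hx a ha => by
    rw [polar_neg_right, AddChar.map_neg_eq_inv, hx a ha, inv_one]

variable {Q}

theorem mem_ann {S : AddSubgroup V} {w : V} : w ∈ ann Q S ↔ ∀ a ∈ S, psi F (polar Q a w) = 1 :=
  Iff.rfl

theorem ann_anti {S T : AddSubgroup V} (h : S ≤ T) : ann Q T ≤ ann Q S :=
  fun _ hw a ha => hw a (h ha)

theorem le_ann_ann (S : AddSubgroup V) : S ≤ ann Q (ann Q S) :=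
  fun a ha w hw => by rw [polar_comm]; exact hw a ha

theorem mem_ann_of_perp {S : AddSubgroup V} {w : V} (h : ∀ a ∈ S, polar Q a w = 0) : w ∈ ann Q S :=
  fun a ha => by rw [h a ha]; simp

theorem perp_of_mem_ann {S : AddSubgroup V} {w a : V} (h : w ∈ ann Q S) (ha : ∀ c : F, c • a ∈ S) :
    polar Q a w = 0 :=
  eq_zero_of_psi fun c => by simpa [polar_smul_left] using h _ (ha c)

theorem ann_submodule (U : Submodule F V) :
    ann Q U.toAddSubgroup = ((ofQuad Q).perp U).toAddSubgroup := by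
  ext w
  exact ⟨fun h => mem_perp_quad.2 fun u hu => perp_of_mem_ann h fun c => U.smul_mem c hu,
    fun h => mem_ann_of_perp fun a ha => mem_perp_quad.1 h a ha⟩

theorem card_ann [Finite V] (hn : (ofQuad Q).Nondeg) (S : AddSubgroup V) :
    Nat.card S * Nat.card (ann Q S) = Nat.card V := by
  classical
  have := Fintype.ofFinite V
  let χ : V → AddChar S ℂ := fun w => (psi F).compAddMonoidHom
    ((AddMonoidHom.mk' (fun a => polar Q a w) (fun a b => polar_add_left Q a b w)).comp S.subtype)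
  let χ' : V → AddChar V ℂ := fun a => (psi F).compAddMonoidHom
    (AddMonoidHom.mk' (fun w => polar Q a w) (fun x y => polar_add_right Q a x y))
  have h1 : ∀ w, ∑ a : S, psi F (polar Q a w) = if w ∈ ann Q S then (Fintype.card S : ℂ) else 0 := by
    intro w
    have := (χ w).sum_eq_ite
    refine this.trans (if_congr ?_ rfl rfl)
    exact ⟨fun h a ha => by simpa [χ] using DFunLike.congr_fun h ⟨a, ha⟩,
      fun h => by ext a; simpa [χ] using h a a.2⟩
  have h2 : ∀ a : S, ∑ w, psi F (polar Q a w) = if a = 0 then (Fintype.card V : ℂ) else 0 := by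
    intro a
    have := (χ' a).sum_eq_ite
    refine this.trans (if_congr ?_ rfl rfl)
    refine ⟨fun h => Subtype.ext (hn _ fun y => eq_zero_of_psi fun c => ?_), fun h => ?_⟩
    · simpa [χ', polar_smul_right] using DFunLike.congr_fun h (c • y)
    · ext w; simp [χ', h]
  have h3 : ∑ w, ∑ a : S, psi F (polar Q a w) = ∑ a : S, ∑ w, psi F (polar Q a w) :=
    Finset.sum_comm
  simp only [h1, h2, Finset.sum_ite_eq', Finset.mem_univ, if_true] at h3
  rw [← Finset.sum_filter, Finset.sum_const, nsmul_eq_mul] at h3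
  rw [Nat.card_eq_fintype_card, Nat.card_eq_fintype_card, Nat.card_eq_fintype_card,
    mul_comm, Fintype.card_subtype (· ∈ ann Q S)]
  exact_mod_cast h3

theorem ann_ann [Finite V] (hn : (ofQuad Q).Nondeg) (S : AddSubgroup V) : ann Q (ann Q S) = S := by
  have h1 := card_ann hn S
  have h2 := card_ann hn (ann Q S)
  have h3 : 0 < Nat.card (ann Q S) := Nat.card_pos
  refine (AddSubgroup.eq_of_le_of_card_ge (le_ann_ann S) (le_of_eq ?_)).symm
  rw [← h1, mul_comm] at h2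
  exact Nat.eq_of_mul_eq_mul_right h3 h2

end Ann

section Act
open scoped Pointwise

variable (Q : QuadraticForm F V)

/-- Eichler transformations as elements of the Eichler group. -/
noncomputable def E (p a : V) : eichGroup Q := ⟨eich Q p a, eich_mem_eichGroup p a⟩

/-- The hyperplane `p^⊥`. -/
abbrev pp (p : V) : Submodule F V := (ofQuad Q).perp (F ∙ p)

variable {Q}

theorem mem_pp {p a : V} : a ∈ pp Q p ↔ polar Q p a = 0 := (ofQuad Q).mem_perp_span_singleton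

theorem E_add {p a b : V} (ha : polar Q p a = 0) (hb : polar Q p b = 0) :
    E Q p (a + b) = E Q p a * E Q p b := by
  by_cases hp : Q p = 0
  · exact Subtype.ext (eich_add hp ha hb)
  · refine Subtype.ext ?_
    simp [E, eich_of_not (Q := Q) (p := p) (fun h => hp h.1)]

theorem E_zero (p : V) : E Q p 0 = 1 := Subtype.ext (eich_zero_right p)

theorem E_neg {p a : V} (ha : polar Q p a = 0) : E Q p (-a) = (E Q p a)⁻¹ := by
  rw [eq_inv_iff_mul_eq_one, ← E_add (by simp [ha]) ha, neg_add_cancel, E_zero]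

theorem E_sub {p a b : V} (ha : polar Q p a = 0) (hb : polar Q p b = 0) :
    E Q p (a - b) = (E Q p b)⁻¹ * E Q p a := by
  rw [sub_eq_neg_add, E_add (by simp [hb]) ha, E_neg hb]

theorem E_smul_self {p : V} (hp : Q p = 0) (t : F) : E Q p (t • p) = 1 :=
  Subtype.ext (eich_smul_self hp t)

theorem E_smul_left {p a : V} (hp : Q p = 0) (ha : polar Q p a = 0) (c : F) :
    E Q (c • p) a = E Q p (c • a) := Subtype.ext (eich_smul_left hp ha c)

theorem E_swap {p a : V} (hp : Q p = 0) (hQa : Q a = 0) (ha : polar Q p a = 0) :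
    E Q a p = E Q p (-a) := Subtype.ext (eich_swap hp hQa ha)

theorem conj_E (g : eichGroup Q) (p a : V) : g * E Q p a * g⁻¹ = E Q (g.1.1 p) (g.1.1 a) :=
  Subtype.ext (conj_eich g.1 p a)

theorem E_apply {p a : V} (hp : Q p = 0) (ha : polar Q p a = 0) (x : V) :
    (E Q p a).1.1 x = x + (polar Q a x - Q a * polar Q p x) • p - polar Q p x • a :=
  eich_apply hp ha x

theorem E_apply_perp {p a x : V} (hp : Q p = 0) (ha : polar Q p a = 0) (hx : polar Q p x = 0) :
    (E Q p a).1.1 x = x + polar Q a x • p := eich_apply_of_perp hp ha hx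

theorem E_apply_fix {p a x : V} (hp : Q p = 0) (ha : polar Q p a = 0) (hx : polar Q p x = 0)
    (hx' : polar Q a x = 0) : (E Q p a).1.1 x = x := by
  rw [E_apply_perp hp ha hx, hx', zero_smul, add_zero]

theorem G_mul_apply (g h : eichGroup Q) (x : V) : (g * h).1.1 x = g.1.1 (h.1.1 x) := rfl

theorem polar_self_of_sing {p : V} (hp : Q p = 0) : polar Q p p = 0 := by
  rw [polar_self', hp, mul_zero]

variable {Ω : Type*} [MulAction (eichGroup Q) Ω]

theorem smul_E (g : eichGroup Q) (p a : V) (ω : Ω) :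
    g • E Q p a • ω = E Q (g.1.1 p) (g.1.1 a) • g • ω := by
  rw [← conj_E, smul_smul, smul_smul, inv_mul_cancel_right]

variable (Q) in
/-- The stabiliser of `ω` in the unipotent radical of the stabiliser of `p`. -/
def Stb (p : V) (ω : Ω) : AddSubgroup V where
  carrier := {a | polar Q p a = 0 ∧ E Q p a • ω = ω}
  zero_mem' := ⟨by simp, by rw [E_zero, one_smul]⟩
  add_mem' := fun {a b} ha hb => ⟨by simp [ha.1, hb.1], by
    rw [E_add ha.1 hb.1, mul_smul, hb.2, ha.2]⟩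
  neg_mem' := fun {a} ha => ⟨by simp [ha.1], by rw [E_neg ha.1, inv_smul_eq_iff, ha.2]⟩

theorem mem_Stb {p a : V} {ω : Ω} : a ∈ Stb Q p ω ↔ polar Q p a = 0 ∧ E Q p a • ω = ω := Iff.rfl

theorem smul_mem_Stb {p : V} (hp : Q p = 0) (ω : Ω) (t : F) : t • p ∈ Stb Q p ω :=
  ⟨by simp [polar_self_of_sing hp], by rw [E_smul_self hp, one_smul]⟩

theorem E_smul_eq_iff {p a b : V} (ha : polar Q p a = 0) (hb : polar Q p b = 0) (ω : Ω) :
    E Q p a • ω = E Q p b • ω ↔ a - b ∈ Stb Q p ω := by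
  rw [mem_Stb, E_sub ha hb, mul_smul, inv_smul_eq_iff]
  simp [ha, hb]

theorem Stb_E {p b : V} (hb : polar Q p b = 0) (ω : Ω) : Stb Q p (E Q p b • ω) = Stb Q p ω := by
  ext a
  rw [mem_Stb, mem_Stb]
  refine and_congr_right fun ha => ?_
  rw [smul_smul, ← E_add ha hb, add_comm, E_add hb ha, mul_smul, smul_left_cancel_iff]

theorem map_mem_Stb (g : eichGroup Q) {p a : V} {ω : Ω} :
    g.1.1 a ∈ Stb Q (g.1.1 p) (g • ω) ↔ a ∈ Stb Q p ω := by
  rw [mem_Stb, mem_Stb, OG.map_polar, ← smul_E, smul_left_cancel_iff]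

theorem mem_Stb_smul {p a : V} (hp : Q p = 0) {c : F} (hc : c ≠ 0) {ω : Ω} :
    a ∈ Stb Q (c • p) ω ↔ c • a ∈ Stb Q p ω := by
  rw [mem_Stb, mem_Stb, polar_smul_left, polar_smul_right, smul_eq_mul]
  refine and_congr_right fun ha => ?_
  rw [E_smul_left hp ((mul_eq_zero.1 ha).resolve_left hc)]

variable (Q) in
/-- The orbit of `ω` under the unipotent radical. -/
def orb (p : V) (ω : Ω) : Set Ω := Set.range fun a : pp Q p => E Q p a • ω

theorem mem_orb {p : V} {ω ω' : Ω} : ω' ∈ orb Q p ω ↔ ∃ a, polar Q p a = 0 ∧ E Q p a • ω = ω' :=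
  ⟨fun ⟨a, h⟩ => ⟨a, mem_pp.1 a.2, h⟩, fun ⟨a, ha, h⟩ => ⟨⟨a, mem_pp.2 ha⟩, h⟩⟩

theorem self_mem_orb (p : V) (ω : Ω) : ω ∈ orb Q p ω :=
  mem_orb.2 ⟨0, by simp, by rw [E_zero, one_smul]⟩

theorem orb_trans {p : V} {ω ω' ω'' : Ω} (h : ω' ∈ orb Q p ω) (h' : ω'' ∈ orb Q p ω') :
    ω'' ∈ orb Q p ω := by
  obtain ⟨a, ha, rfl⟩ := mem_orb.1 h
  obtain ⟨b, hb, rfl⟩ := mem_orb.1 h'
  exact mem_orb.2 ⟨b + a, by simp [ha, hb], by rw [E_add hb ha, mul_smul]⟩

theorem orb_symm {p : V} {ω ω' : Ω} (h : ω' ∈ orb Q p ω) : ω ∈ orb Q p ω' := by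
  obtain ⟨a, ha, rfl⟩ := mem_orb.1 h
  exact mem_orb.2 ⟨-a, by simp [ha], by rw [E_neg ha, inv_smul_smul]⟩

theorem Stb_of_mem_orb {p : V} {ω ω' : Ω} (h : ω' ∈ orb Q p ω) : Stb Q p ω' = Stb Q p ω := by
  obtain ⟨a, ha, rfl⟩ := mem_orb.1 h
  exact Stb_E ha ω

variable [Finite F]

variable (Q) in
/-- The characters of the unipotent radical occurring in the orbit of `ω`. -/
noncomputable def Wd (p : V) (ω : Ω) : AddSubgroup V := ann Q (Stb Q p ω)

theorem Wd_of_mem_orb {p : V} {ω ω' : Ω} (h : ω' ∈ orb Q p ω) : Wd Q p ω' = Wd Q p ω := by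
  rw [Wd, Stb_of_mem_orb h, Wd]

theorem smul_mem_Wd (p : V) (ω : Ω) (t : F) : t • p ∈ Wd Q p ω :=
  mem_ann_of_perp fun a ha => by rw [polar_smul_right, polar_comm, ha.1, smul_zero]

theorem perp_of_mem_Wd {p w : V} (hp : Q p = 0) {ω : Ω} (h : w ∈ Wd Q p ω) : polar Q p w = 0 :=
  perp_of_mem_ann h (smul_mem_Stb hp ω)

theorem map_mem_Wd (g : eichGroup Q) {p w : V} {ω : Ω} :
    g.1.1 w ∈ Wd Q (g.1.1 p) (g • ω) ↔ w ∈ Wd Q p ω := by
  refine ⟨fun h a ha => ?_, fun h a ha => ?_⟩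
  · simpa [OG.map_polar] using h _ ((map_mem_Stb g).2 ha)
  · obtain ⟨b, rfl⟩ := g.1.1.surjective a
    rw [OG.map_polar]
    exact h _ ((map_mem_Stb g).1 ha)

theorem mem_Wd_smul {p w : V} (hp : Q p = 0) {c : F} (hc : c ≠ 0) {ω : Ω} :
    c • w ∈ Wd Q (c • p) ω ↔ w ∈ Wd Q p ω := by
  refine ⟨fun h a ha => ?_, fun h a ha => ?_⟩
  · have := h (c⁻¹ • a) ((mem_Stb_smul hp hc).2 (by rwa [smul_inv_smul₀ hc]))
    rwa [polar_smul_left, polar_smul_right, smul_eq_mul, smul_eq_mul, inv_mul_cancel_left₀ hc] at this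
  · have := h _ ((mem_Stb_smul hp hc).1 ha)
    rwa [polar_smul_left, ← polar_smul_right] at this

omit [Finite F] in
variable (Q) in
/-- The stabiliser of the point `⟨p⟩` acting on characters. -/
def Gam (p : V) : Subgroup (V ≃ₗ[F] V) where
  carrier := {φ | ∃ g : eichGroup Q, ∃ c : F, c ≠ 0 ∧ g.1.1 p = c • p ∧ ∀ w, g.1.1 w = c • φ w}
  one_mem' := ⟨1, 1, one_ne_zero, by simp, by simp⟩
  mul_mem' := by
    rintro φ χ ⟨g, c, hc, h1, h2⟩ ⟨k, d, hd, h3, h4⟩
    refine ⟨g * k, c * d, mul_ne_zero hc hd, ?_, fun w => ?_⟩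
    · rw [G_mul_apply, h3, map_smul, h1, smul_smul, mul_comm]
    · rw [G_mul_apply, h4, map_smul, h2, smul_smul, mul_comm]; rfl
  inv_mem' := by
    rintro φ ⟨g, c, hc, h1, h2⟩
    refine ⟨g⁻¹, c⁻¹, inv_ne_zero hc, ?_, fun w => ?_⟩
    · apply g.1.1.injective
      rw [map_smul, h1, inv_smul_smul₀ hc]; exact OG.apply_inv_apply g.1 p
    · apply g.1.1.injective
      rw [map_smul, h2 (φ⁻¹ w), inv_smul_smul₀ hc]
      exact (OG.apply_inv_apply g.1 w).trans (φ.apply_symm_apply w).symm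

omit [Finite F] in
theorem mem_Gam_of_fix {p : V} (g : eichGroup Q) (h : g.1.1 p = p) : g.1.1 ∈ Gam Q p :=
  ⟨g, 1, one_ne_zero, by simp [h], by simp⟩

omit [Finite F] in
theorem Gam_apply_p {p : V} {φ : V ≃ₗ[F] V} (h : φ ∈ Gam Q p) : φ p = p := by
  obtain ⟨g, c, hc, h1, h2⟩ := h
  exact (smul_right_injective V hc (h1.symm.trans (h2 p))).symm

omit [Finite F] in
theorem mem_smul_iff {φ : V ≃ₗ[F] V} {A : AddSubgroup V} {w : V} : φ w ∈ φ • A ↔ w ∈ A :=
  AddSubgroup.smul_mem_pointwise_smul_iff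

theorem Wd_smul {p : V} (hp : Q p = 0) {φ : V ≃ₗ[F] V} {g : eichGroup Q} {c : F} (hc : c ≠ 0)
    (h1 : g.1.1 p = c • p) (h2 : ∀ w, g.1.1 w = c • φ w) (ω : Ω) :
    Wd Q p (g • ω) = φ • Wd Q p ω := by
  ext w
  obtain ⟨w, rfl⟩ := φ.surjective w
  rw [mem_smul_iff, ← map_mem_Wd g (ω := ω), h1, h2, mem_Wd_smul hp hc]

omit [Finite F] in
theorem card_smul (φ : V ≃ₗ[F] V) (A : AddSubgroup V) : Nat.card ↥(φ • A) = Nat.card A :=
  (Nat.card_congr (Equiv.ofBijective (fun a : A => (⟨φ a, mem_smul_iff.2 a.2⟩ : ↥(φ • A)))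
    ⟨fun a b e => Subtype.ext (φ.injective (congrArg Subtype.val e)), fun b => by
      obtain ⟨w, hw⟩ := φ.surjective b
      exact ⟨⟨w, mem_smul_iff.1 (hw ▸ b.2)⟩, Subtype.ext hw⟩⟩)).symm

omit [Finite F] in
variable (Q) in
/-- The orbit of a subgroup under `Gam`. -/
def Orb (p : V) (A : AddSubgroup V) : Set (AddSubgroup V) := {A' | ∃ φ ∈ Gam Q p, A' = φ • A}

omit [Finite F] in
theorem self_mem_Orb (p : V) (A : AddSubgroup V) : A ∈ Orb Q p A := ⟨1, one_mem _, by simp⟩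

omit [Finite F] in
theorem smul_mem_Orb {p : V} {A A' : AddSubgroup V} {φ : V ≃ₗ[F] V} (hφ : φ ∈ Gam Q p)
    (h : A' ∈ Orb Q p A) : φ • A' ∈ Orb Q p A := by
  obtain ⟨χ, hχ, rfl⟩ := h
  exact ⟨φ * χ, mul_mem hφ hχ, (mul_smul _ _ _).symm⟩

omit [Finite F] in
theorem Orb_eq_of_mem {p : V} {A A' : AddSubgroup V} (h : A' ∈ Orb Q p A) : Orb Q p A' = Orb Q p A := by
  obtain ⟨χ, hχ, rfl⟩ := h
  ext B
  refine ⟨fun ⟨φ, hφ, e⟩ => e ▸ smul_mem_Orb hφ (smul_mem_Orb hχ (self_mem_Orb p A)), ?_⟩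
  rintro ⟨φ, hφ, rfl⟩
  exact ⟨φ * χ⁻¹, mul_mem hφ (inv_mem hχ), by rw [mul_smul, inv_smul_smul]⟩

omit [Finite F] in
theorem card_of_mem_Orb {p : V} {A A' : AddSubgroup V} (h : A' ∈ Orb Q p A) :
    Nat.card A' = Nat.card A := by
  obtain ⟨χ, -, rfl⟩ := h
  exact card_smul χ A

omit [Finite F] in
variable (Q) in
/-- The number of members of the orbit of `A` containing `w`. -/
noncomputable def cnt (p : V) (A : AddSubgroup V) (w : V) : ℕ := {A' ∈ Orb Q p A | w ∈ A'}.ncard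

omit [Finite F] in
theorem cnt_map {p : V} (A : AddSubgroup V) {φ : V ≃ₗ[F] V} (hφ : φ ∈ Gam Q p) (w : V) :
    cnt Q p A (φ w) = cnt Q p A w := by
  symm
  refine Set.ncard_congr (fun A' _ => φ • A') ?_ ?_ ?_
  · rintro A' ⟨h1, h2⟩
    exact ⟨smul_mem_Orb hφ h1, mem_smul_iff.2 h2⟩
  · intro a b _ _ e
    exact smul_left_cancel φ e
  · rintro A' ⟨h1, h2⟩
    refine ⟨φ⁻¹ • A', ⟨smul_mem_Orb (inv_mem hφ) h1, ?_⟩, smul_inv_smul _ _⟩
    rwa [← mem_smul_iff (φ := φ), smul_inv_smul]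

variable (Q Ω) in
/-- The number of points with a given character group. -/
noncomputable def mult (p : V) (A : AddSubgroup V) : ℕ := {ω : Ω | Wd Q p ω = A}.ncard

theorem mult_of_mem_Orb {p : V} (hp : Q p = 0) {A A' : AddSubgroup V} (h : A' ∈ Orb Q p A) :
    mult Q Ω p A' = mult Q Ω p A := by
  obtain ⟨φ, ⟨g, c, hc, h1, h2⟩, rfl⟩ := h
  symm
  refine Set.ncard_congr (fun ω _ => g • ω) ?_ ?_ ?_
  · intro ω h
    rw [Set.mem_ofPred_eq, Wd_smul hp hc h1 h2, show Wd Q p ω = A from h]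
  · intro a b _ _ e
    exact smul_left_cancel g e
  · intro ω h
    refine ⟨g⁻¹ • ω, ?_, smul_inv_smul _ _⟩
    refine smul_left_cancel φ ?_
    rw [← Wd_smul hp hc h1 h2, smul_inv_smul]; exact h

theorem exists_of_mem_Orb {p : V} (hp : Q p = 0) {ω : Ω} {A' : AddSubgroup V}
    (h : A' ∈ Orb Q p (Wd Q p ω)) : ∃ ω' : Ω, Wd Q p ω' = A' := by
  obtain ⟨φ, ⟨g, c, hc, h1, h2⟩, rfl⟩ := h
  exact ⟨g • ω, Wd_smul hp hc h1 h2 ω⟩

variable (Q Ω) in
/-- The points whose character group is conjugate to `A`. -/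
def Fib (p : V) (A : AddSubgroup V) : Set Ω := {ω : Ω | Wd Q p ω ∈ Orb Q p A}

variable [Finite V] [Finite Ω]

theorem ncard_Fib {p : V} (hp : Q p = 0) (A : AddSubgroup V) :
    (Fib Q Ω p A).ncard = (Orb Q p A).ncard * mult Q Ω p A := by
  refine card_eq_mul_of_fiber (α := Fib Q Ω p A) (β := Orb Q p A) (fun ω => ⟨_, ω.2⟩) _ ?_
  rintro ⟨A', hA'⟩
  rw [← mult_of_mem_Orb hp hA']
  have key : ∀ x : Ω, Wd Q p x = A' → x ∈ Fib Q Ω p A := fun x hx => by
    rw [Fib, Set.mem_ofPred_eq, hx]; exact hA'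
  exact Nat.card_congr ⟨fun x => ⟨x.1.1, congrArg Subtype.val x.2⟩,
    fun x => ⟨⟨x.1, key _ x.2⟩, Subtype.ext x.2⟩, fun _ => rfl, fun _ => rfl⟩

omit [Finite Ω] in
theorem card_mul_pp (hn : (ofQuad Q).Nondeg) {p : V} (hp0 : p ≠ 0) :
    Nat.card F * Nat.card (pp Q p) = Nat.card V := by
  have := card_ann hn (F ∙ p).toAddSubgroup
  rw [ann_submodule] at this
  rw [← this]
  congr 1
  exact Nat.card_congr (LinearEquiv.toSpanNonzeroSingleton F V p hp0).toEquiv

omit [Finite Ω] in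
theorem card_orb (hn : (ofQuad Q).Nondeg) {p : V} (hp0 : p ≠ 0) (ω : Ω) :
    Nat.card F * (orb Q p ω).ncard = Nat.card (Wd Q p ω) := by
  have h1 := card_eq_mul_range (fun a : pp Q p => E Q p a • ω)
    ((Stb Q p ω).comap (pp Q p).subtype.toAddMonoidHom)
    (fun a b => E_smul_eq_iff (mem_pp.1 a.2) (mem_pp.1 b.2) ω)
  have h2 : Nat.card ((Stb Q p ω).comap (pp Q p).subtype.toAddMonoidHom) = Nat.card (Stb Q p ω) :=
    Nat.card_congr ⟨fun x => ⟨x.1.1, x.2⟩, fun x => ⟨⟨x.1, mem_pp.2 x.2.1⟩, x.2⟩,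
      fun _ => rfl, fun _ => rfl⟩
  have h3 := card_ann hn (Stb Q p ω)
  have h4 := card_mul_pp hn hp0
  have h5 : 0 < Nat.card (Stb Q p ω) := Nat.card_pos
  rw [h2] at h1
  rw [h1, ← h3, mul_left_comm] at h4
  exact Nat.eq_of_mul_eq_mul_left h5 h4

theorem card_le_mult (hn : (ofQuad Q).Nondeg) {p : V} (hp0 : p ≠ 0) (ω : Ω) :
    Nat.card (Wd Q p ω) ≤ Nat.card F * mult Q Ω p (Wd Q p ω) := by
  rw [← card_orb hn hp0]
  exact Nat.mul_le_mul_left _ (Set.ncard_le_ncard fun ω' h => Wd_of_mem_orb h)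

theorem two_card_le_mult (hn : (ofQuad Q).Nondeg) {p : V} (hp0 : p ≠ 0) {ω ω' : Ω}
    (h : Wd Q p ω' = Wd Q p ω) (h' : ω' ∉ orb Q p ω) :
    2 * Nat.card (Wd Q p ω) ≤ Nat.card F * mult Q Ω p (Wd Q p ω) := by
  have h1 := card_orb hn hp0 ω
  have h2 := card_orb hn hp0 ω'
  have hd : Disjoint (orb Q p ω) (orb Q p ω') :=
    Set.disjoint_left.2 fun x a b => h' (orb_trans a (orb_symm b))
  have h3 : (orb Q p ω ∪ orb Q p ω').ncard ≤ mult Q Ω p (Wd Q p ω) :=
    Set.ncard_le_ncard (by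
      rintro x (a | a)
      · exact Wd_of_mem_orb a
      · exact (Wd_of_mem_orb a).trans h)
  rw [Set.ncard_union_eq hd] at h3
  rw [h] at h2
  calc _ = Nat.card F * ((orb Q p ω).ncard + (orb Q p ω').ncard) := by rw [mul_add, h1, h2, two_mul]
    _ ≤ _ := Nat.mul_le_mul_left _ h3

omit [Finite Ω] in
/-- Double counting in an orbit of character groups. -/
theorem cnt_mul_le {p : V} (hp0 : p ≠ 0) (hp : Q p = 0) (ω : Ω) (T : Set V) (k : ℕ)
    (hT : ∀ w ∈ T, w ∉ F ∙ p) (hk : ∀ w ∈ T, k ≤ cnt Q p (Wd Q p ω) w) :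
    T.ncard * k ≤ (Orb Q p (Wd Q p ω)).ncard * (Nat.card (Wd Q p ω) - Nat.card F) := by
  refine double_count (fun (w : V) (A : AddSubgroup V) => w ∈ A) T _ k _ hk fun A hA => ?_
  rw [← card_of_mem_Orb hA]
  obtain ⟨ω', rfl⟩ := exists_of_mem_Orb hp hA
  have h1 : ((F ∙ p : Submodule F V) : Set V) ⊆ Wd Q p ω' := fun x hx => by
    obtain ⟨c, rfl⟩ := Submodule.mem_span_singleton.1 hx
    exact smul_mem_Wd p ω' c
  have h2 : ((F ∙ p : Submodule F V) : Set V).ncard = Nat.card F :=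
    (Nat.card_congr (LinearEquiv.toSpanNonzeroSingleton F V p hp0).toEquiv).symm
  rw [← h2]
  refine le_trans (Set.ncard_le_ncard (t := (Wd Q p ω' : Set V) \ (F ∙ p : Submodule F V))
    fun w hw => ⟨hw.2, hT w hw.1⟩) (le_of_eq ?_)
  exact Set.ncard_sdiff h1

end Act

end Cfsg.Agent.MinD
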