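import Cfsg.Agent.MinD.Tw6
import Cfsg.Agent.Chev.SymG2

/-! Minimal degree of `G₂(q)`, part 1: joint eigenspaces `Sp Z L` of root subgroups. -/

set_option autoImplicit false
set_option linter.unusedSectionVars false

namespace Cfsg.Agent.MinD

open Module Cfsg.Lie Cfsg.Agent.Chev Cfsg.Agent.Mult

/-- Roots of `G₂` by number. -/
abbrev rG (n : Fin 12) : Rt chevG2 := n

/-- The commutator of two root groups lies in a list of root groups. -/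
def OkG (p : ℕ) (Z : List (Fin 12)) (r s : Fin 12) : Prop := s = r ∨ s ≠ r ∧ s.1 ≠ chevG2.neg r ∧
  ∀ c ∈ nrm p (chevG2.commTerms r s), ∃ k ∈ Z, c.1 = k.1

instance instDecOkG (p : ℕ) (Z : List (Fin 12)) (r s : Fin 12) : Decidable (OkG p Z r s) := by
  unfold OkG; infer_instance

/-- A Heisenberg pair. -/
def HsG (p : ℕ) (Z Y : List (Fin 12)) (r s k : Fin 12) (ε : ℤ) : Prop :=
  CommIs chevG2 p r s ((k, ε, 1, 1) :: (nrm p (chevG2.commTerms r s)).tail) ∧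
  (∀ c ∈ (nrm p (chevG2.commTerms r s)).tail, ∃ k ∈ Z, c.1 = k.1) ∧ (∀ a ∈ Z ++ Y, OkG p Z r a) ∧ ∀ a ∈ Z ++ Y, OkG p Z s a

instance instDecHsG (p : ℕ) (Z Y : List (Fin 12)) (r s k : Fin 12) (ε : ℤ) : Decidable (HsG p Z Y r s k ε) := by
  unfold HsG; infer_instance

/-- A reflection. -/
def RfG (a s k : Fin 12) : Prop := ∀ i, rtv (rG s) i - A (rG a) (rG s) * rtv (rG a) i = rtv (rG k) i

instance instDecRfG (a s k : Fin 12) : Decidable (RfG a s k) := by unfold RfG; infer_instance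

/-- The data: a Steinberg system, a representation and an additive character. -/
structure Dat (F G M : Type*) [Field F] [Group G] [AddCommGroup M] [Module ℂ M] where
  /-- the system -/
  X : Sys chevG2 F G
  /-- the representation -/
  ρ : Representation ℂ G M
  /-- the character -/
  ψ : AddChar F ℂ
  hψ : ψ ≠ 0

theorem exists_Eg' {G : Type*} [Group G] [Finite G] {M : Type*} [AddCommGroup M] [Module ℂ M] [FiniteDimensional ℂ M]
    {ρ : Representation ℂ G M} {A : Type*} [AddCommGroup A] [Fintype A] {x : A → G}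
    (hx : ∀ t u, x (t + u) = x t * x u) {N : Submodule ℂ M} (hN : Sta ρ N x) (h : N ≠ ⊥) : ∃ χ, N ⊓ Eg ρ x χ ≠ ⊥ := by
  by_cases e : N ≤ Eg ρ x 0
  · exact ⟨0, by rwa [inf_eq_left.2 e]⟩
  · exact (exists_Eg hx hN e).imp fun _ h => h.2

namespace Dat

variable {F G M : Type*} [Field F] [Fintype F] [Group G] [Finite G] [AddCommGroup M] [Module ℂ M]
  [FiniteDimensional ℂ M] (T : Dat F G M)

/-- Root elements. -/
abbrev x (r : Fin 12) : F → G := T.X.x (rG r)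

/-- Eigenspaces. -/
def E (r : Fin 12) (t : F) : Submodule ℂ M := Eg T.ρ (T.x r) (T.ψ.mulShift t)

/-- Joint eigenspaces. -/
def Sp (Z : List (Fin 12)) (L : List (Fin 12 × F)) : Submodule ℂ M where
  carrier := {v | (∀ k ∈ Z, v ∈ T.E k 0) ∧ ∀ p ∈ L, v ∈ T.E p.1 p.2}
  zero_mem' := ⟨fun _ _ => zero_mem _, fun _ _ => zero_mem _⟩
  add_mem' := fun ha hb => ⟨fun k hk => add_mem (ha.1 k hk) (hb.1 k hk), fun k hk => add_mem (ha.2 k hk) (hb.2 k hk)⟩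
  smul_mem' := fun c _ ha => ⟨fun k hk => Submodule.smul_mem _ c (ha.1 k hk), fun k hk =>
    Submodule.smul_mem _ c (ha.2 k hk)⟩

/-- Their dimensions. -/
noncomputable def rk (Z : List (Fin 12)) (L : List (Fin 12 × F)) : ℕ := finrank ℂ (T.Sp Z L)

variable {T} {Z Z' Y : List (Fin 12)} {L L' : List (Fin 12 × F)} {v : M} {p : ℕ}

theorem mem_Sp : v ∈ T.Sp Z L ↔ (∀ k ∈ Z, v ∈ T.E k 0) ∧ ∀ p ∈ L, v ∈ T.E p.1 p.2 := Iff.rfl

theorem mem_E {r : Fin 12} {t : F} : v ∈ T.E r t ↔ ∀ u, T.ρ (T.x r u) v = T.ψ (t * u) • v := Iff.rfl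

theorem mem_E0 {r : Fin 12} : v ∈ T.E r 0 ↔ ∀ u, T.ρ (T.x r u) v = v := by simp [mem_E]

theorem E_zero (r : Fin 12) : T.E r 0 = Eg T.ρ (T.x r) 0 := by ext; rw [mem_E0, mem_Eg_zero]

theorem Sp_cons (k : Fin 12) (t : F) : T.Sp Z ((k, t) :: L) = T.Sp Z L ⊓ T.E k t := by
  ext; simp only [mem_Sp, List.forall_mem_cons, Submodule.mem_inf]; tauto

theorem Sp_zero (k : Fin 12) : T.Sp (k :: Z) L = T.Sp Z L ⊓ T.E k 0 := by
  ext; simp only [mem_Sp, List.forall_mem_cons, Submodule.mem_inf]; tauto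

theorem rk_nil : T.rk [] [] = finrank ℂ M := by
  rw [rk, show T.Sp [] [] = ⊤ from eq_top_iff.2 fun _ _ => by simp [mem_Sp], finrank_top]

theorem rk_zero (k : Fin 12) : T.rk Z ((k, 0) :: L) = T.rk (k :: Z) L := by rw [rk, rk, Sp_cons, Sp_zero]

theorem rk_mono (h : ∀ v ∈ T.Sp Z L, v ∈ T.Sp Z' L') : T.rk Z L ≤ T.rk Z' L' := Submodule.finrank_mono h

theorem rk_pos : 0 < T.rk Z L ↔ ∃ v ∈ T.Sp Z L, v ≠ 0 := by
  rw [rk, Nat.pos_iff_ne_zero, Ne, Submodule.finrank_eq_zero, ← Ne, Submodule.ne_bot_iff]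

theorem eq_of_E {r : Fin 12} {t t' : F} (h0 : v ≠ 0) (h : v ∈ T.E r t) (h' : v ∈ T.E r t') : t = t' :=
  AddChar.to_mulShift_inj_of_isPrimitive (AddChar.IsPrimitive.of_ne_one T.hψ)
    (DFunLike.ext _ _ fun u => smul_left_injective ℂ h0 ((h u).symm.trans (h' u)))

theorem fixw (hv : ∀ k ∈ Z, v ∈ T.E k 0) (a b : F) (W : List Tm) (h : ∀ c ∈ W, ∃ k ∈ Z, c.1 = k.1) :
    T.ρ (gword T.X.x (evT a b W)) v = v := by
  induction W with
  | nil => simp [evT, gword_nil]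
  | cons c W ih =>
    obtain ⟨k, hk, e⟩ := h c List.mem_cons_self
    rw [evT, List.map_cons, Sys.gword_cons', rho_mul, ← evT, ih fun c hc => h c (List.mem_cons_of_mem _ hc), e,
      T.X.xN_val (rG k), mem_E0.1 (hv k hk)]

theorem rel (hp : (p : F) = 0) {r s : Fin 12} {W : List Tm} (h : CommIs chevG2 p r s W) (t u : F) :
    T.x s u * T.x r t = T.x r t * T.x s u * gword T.X.x (evT (-t) u W) := by
  simpa only [← T.X.xN_val] using T.X.xN_comm hp h t u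

theorem stp (hp : (p : F) = 0) {r s : Fin 12} (h : OkG p Z r s) (hv : ∀ k ∈ Z, v ∈ T.E k 0) {t : F}
    (hs : v ∈ T.E s t) (u : F) : T.ρ (T.x r u) v ∈ T.E s t := fun w => by
  rcases h with rfl | ⟨h1, h2, h3⟩
  · rw [← rho_mul, ← T.X.add, add_comm, T.X.add, rho_mul, hs, map_smul]
  · rw [← rho_mul, rel hp ⟨r.2, s.2, fun e => h1 (Fin.ext e), h2, rfl⟩, ← gword_nrm T.X hp, rho_mul, rho_mul,
      fixw hv _ _ _ h3, hs, map_smul]

theorem sta (hp : (p : F) = 0) {r : Fin 12} (Y : List (Fin 12)) (e : L.map Prod.fst = Y)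
    (h : ∀ s ∈ Z ++ Y, OkG p Z r s) : Sta T.ρ (T.Sp Z L) (T.x r) := fun u _ hv =>
  ⟨fun k hk => stp hp (h k (List.mem_append_left _ hk)) hv.1 (hv.1 k hk) u, fun k hk =>
    stp hp (h k.1 (List.mem_append_right _ (e ▸ List.mem_map_of_mem hk))) hv.1 (hv.2 k hk) u⟩

theorem rk_sum {k : Fin 12} (hN : Sta T.ρ (T.Sp Z L) (T.x k)) : T.rk Z L = ∑ t, T.rk Z ((k, t) :: L) := by
  rw [rk, finrank_eq_sum (T.X.add _) hN]
  exact (Function.Bijective.sum_comp ⟨AddChar.to_mulShift_inj_of_isPrimitive (AddChar.IsPrimitive.of_ne_one T.hψ),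
    mulShift_surj T.hψ⟩ _).symm.trans (Finset.sum_congr rfl fun t _ => by rw [rk, Sp_cons]; rfl)

open scoped _root_.Classical in
theorem rk_add {k : Fin 12} (hN : Sta T.ρ (T.Sp Z L) (T.x k)) :
    T.rk Z L = T.rk (k :: Z) L + ∑ t ∈ Finset.univ.erase 0, T.rk Z ((k, t) :: L) := by
  rw [rk_sum hN, ← rk_zero, Finset.add_sum_erase _ (fun t => T.rk Z ((k, t) :: L)) (Finset.mem_univ _)]

theorem dec {k : Fin 12} (hN : Sta T.ρ (T.Sp Z L) (T.x k)) {d : ℕ} (h : ∀ t ≠ 0, d ≤ T.rk Z ((k, t) :: L)) :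
    T.rk (k :: Z) L + (Fintype.card F - 1) * d ≤ T.rk Z L := by
  classical
  rw [rk_add hN, ← Finset.card_univ, ← Finset.card_erase_of_mem (Finset.mem_univ 0), ← smul_eq_mul]
  exact Nat.add_le_add_left (Finset.card_nsmul_le_sum _ _ _ fun t ht => h t (Finset.ne_of_mem_erase ht)) _

theorem dec' {k : Fin 12} (hN : Sta T.ρ (T.Sp Z L) (T.x k)) {d : ℕ} (h : ∀ t ≠ 0, T.rk Z ((k, t) :: L) ≤ d) :
    T.rk Z L ≤ T.rk (k :: Z) L + (Fintype.card F - 1) * d := by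
  classical
  rw [rk_add hN, ← Finset.card_univ, ← Finset.card_erase_of_mem (Finset.mem_univ 0), ← smul_eq_mul]
  exact Nat.add_le_add_left (Finset.sum_le_card_nsmul _ _ _ fun t ht => h t (Finset.ne_of_mem_erase ht)) _

theorem exists_ev {k : Fin 12} (hN : Sta T.ρ (T.Sp Z L) (T.x k)) (h : 0 < T.rk Z L) : ∃ t, 0 < T.rk Z ((k, t) :: L) := by
  by_contra! h0
  rw [rk_sum hN, Finset.sum_eq_zero fun t _ => Nat.le_zero.1 (h0 t)] at h
  omega

theorem heis (hp : (p : F) = 0) (r s k : Fin 12) (ε : ℤ) (Y : List (Fin 12)) (e : L.map Prod.fst = Y)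
    (h : HsG p Z Y r s k ε) (hε : (ε : F) ≠ 0) {β : F} (hk : (k, β) ∈ L) (hβ : β ≠ 0) (t : F) :
    T.rk Z L = Fintype.card F * T.rk Z ((s, t) :: L) := by
  rw [rk, rk, Sp_cons]
  refine heis_eq (T.X.add _) (sta hp Y e h.2.2.2) (sta hp Y e h.2.2.1) (φ := fun u => T.ψ.mulShift (-(β * ε) * u))
    ((mulShift_surj T.hψ).comp (mul_left_surjective₀ (neg_ne_zero.2 (mul_ne_zero hβ hε)))) (fun t u v hv => ?_) _
  rw [← rho_mul, rel hp h.1, evT, List.map_cons, Sys.gword_cons', ← evT, rho_mul, rho_mul, rho_mul,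
    fixw hv.1 _ _ _ h.2.1, T.X.xN_val (rG k), mem_E.1 (hv.2 _ hk), map_smul, map_smul, AddChar.mulShift_apply]
  congr 2; ring

omit [Fintype F] in
theorem forall_zip {f g : Fin 12 × Fin 12 → F → Fin 12 × F} {P Q : Fin 12 × F → Prop} {W : List (Fin 12 × Fin 12)}
    (h : ∀ w ∈ W, ∀ t, P (f w t) → Q (g w t)) {ts : List F} (k : ∀ p ∈ List.zipWith f W ts, P p) :
    ∀ p ∈ List.zipWith g W ts, Q p := by
  induction W generalizing ts with
  | nil => simp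
  | cons w W ih =>
    cases ts with
    | nil => simp
    | cons t ts =>
      simp only [List.zipWith_cons_cons, List.forall_mem_cons] at h k ⊢
      exact ⟨h.1 t k.1, ih h.2 k.2⟩

variable (T) in
theorem wey (a : Fin 12) : ∃ ε : Fin 12 → F, (∀ s t, t ≠ 0 → ε s * t ≠ 0) ∧ ∃ g : G, ∀ (Z Z' : List (Fin 12))
    (W : List (Fin 12 × Fin 12)) (ts : List F), (∀ k ∈ Z', ∃ s ∈ Z, RfG a s k) ∧ (∀ w ∈ W, RfG a w.1 w.2) →
    (∀ v ∈ T.Sp Z (List.zipWith (fun w t => (w.1, t)) W ts),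
      T.ρ g v ∈ T.Sp Z' (List.zipWith (fun w t => (w.2, ε w.1 * t)) W ts)) ∧
    ∀ v ∈ T.Sp Z (List.zipWith (fun w t => (w.1, ε w.1 * t)) W ts),
      T.ρ g v ∈ T.Sp Z' (List.zipWith (fun w t => (w.2, t)) W ts) := by
  have e2 : ∀ s, (eta (rG a) (rG s) : F) * eta (rG a) (rG s) = 1 := fun s => by
    exact_mod_cast congrArg (Int.cast (R := F)) (eta_mul_self (rG a) (rG s))
  have k1 : ∀ s k t, RfG a s k → ∀ v ∈ T.E s t, T.ρ (T.X.n (rG a) 1) v ∈ T.E k (eta (rG a) (rG s) * t) :=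
    fun s k t h v hv u => by
      have := T.X.n_conj (rG a) (rG s) one_ne_zero (eta (rG a) (rG s) * u)
      rw [one_zpow, mul_one, ← mul_assoc _ _ u, e2, one_mul, refl_eq' h] at this
      rw [← rho_mul, x, ← this, inv_mul_cancel_right, rho_mul, hv, map_smul, AddChar.mulShift_apply, AddChar.mulShift_apply]
      congr 2; ring
  refine ⟨fun s => eta (rG a) (rG s), fun s t => mul_ne_zero (left_ne_zero_of_mul_eq_one (e2 s)), T.X.n (rG a) 1,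
    fun Z Z' W ts ⟨h, h'⟩ => ?_⟩
  have k2 : ∀ v, (∀ s ∈ Z, v ∈ T.E s 0) → ∀ k ∈ Z', T.ρ (T.X.n (rG a) 1) v ∈ T.E k 0 := fun v hv k hk => by
    obtain ⟨s, hs, e⟩ := h k hk
    simpa using k1 s k 0 e v (hv s hs)
  exact ⟨fun v hv => ⟨k2 v hv.1, forall_zip (P := fun p => v ∈ T.E p.1 p.2) (fun w hw t => k1 _ _ _ (h' w hw) v) hv.2⟩,
    fun v hv => ⟨k2 v hv.1, forall_zip (P := fun p => v ∈ T.E p.1 p.2) (fun w hw t e => by
      simpa only [← mul_assoc, e2, one_mul] using k1 _ _ _ (h' w hw) v e) hv.2⟩⟩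

theorem rk_le_of (g : G) (h : ∀ v ∈ T.Sp Z L, T.ρ g v ∈ T.Sp Z' L') : T.rk Z L ≤ T.rk Z' L' := finrank_le_of_rho g h

theorem rk_swap (a b : Fin 12 × F) : T.rk Z (a :: b :: L) = T.rk Z (b :: a :: L) := by
  obtain ⟨a, t⟩ := a
  obtain ⟨b, u⟩ := b
  rw [rk, rk, Sp_cons, Sp_cons, Sp_cons, Sp_cons, inf_right_comm]

theorem tail {a : Fin 12 × F} (hv : v ∈ T.Sp Z (a :: L)) : v ∈ T.Sp Z L :=
  ⟨hv.1, fun p hp => hv.2 p (List.mem_cons_of_mem _ hp)⟩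

theorem head {a : Fin 12} {t : F} (hv : v ∈ T.Sp Z ((a, t) :: L)) : v ∈ T.E a t := hv.2 _ List.mem_cons_self

theorem cons {a : Fin 12} {t : F} (h : v ∈ T.E a t) (hv : v ∈ T.Sp Z L) : v ∈ T.Sp Z ((a, t) :: L) :=
  ⟨hv.1, List.forall_mem_cons.2 ⟨h, hv.2⟩⟩

theorem zcons {a : Fin 12} (h : v ∈ T.E a 0) (hv : v ∈ T.Sp Z L) : v ∈ T.Sp (a :: Z) L :=
  ⟨List.forall_mem_cons.2 ⟨h, hv.1⟩, hv.2⟩

theorem sub (h : Z' ⊆ Z) (hv : v ∈ T.Sp Z L) : v ∈ T.Sp Z' L := ⟨fun k hk => hv.1 k (h hk), hv.2⟩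

theorem nz (g : G) (hv : v ≠ 0) : T.ρ g v ≠ 0 := fun e => hv (rho_inj T.ρ g (e.trans (map_zero _).symm))

theorem rk_lt {r : Fin 12} {t : F} (h : T.ρ (T.x r t) ≠ 1) : T.rk [r] [] < finrank ℂ M :=
  Submodule.finrank_lt fun e => h (LinearMap.ext fun v => mem_E0.1 ((e.ge (Submodule.mem_top (x := v))).1 r (by simp)) t)

theorem eq_of_one (h1 : T.rk Z L ≤ 1) {w : M} {a : Fin 12} {t t' : F} (hv : v ∈ T.Sp Z ((a, t) :: L))
    (hw : w ∈ T.Sp Z ((a, t') :: L)) (h0 : v ≠ 0) (h0' : w ≠ 0) : t = t' := by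
  obtain ⟨e, he⟩ := finrank_le_one_iff.1 h1
  obtain ⟨c, hc⟩ := he ⟨v, tail hv⟩
  obtain ⟨d, hd⟩ := he ⟨w, tail hw⟩
  have hc' : c • e.1 = v := congrArg Subtype.val hc
  have hd' : d • e.1 = w := congrArg Subtype.val hd
  have c0 : c ≠ 0 := fun k => h0 (by rw [← hc', k, zero_smul])
  refine eq_of_E h0' ?_ (head hw)
  rw [show w = (d * c⁻¹) • v by rw [← hc', ← hd', smul_smul, inv_mul_cancel_right₀ c0]]
  exact Submodule.smul_mem _ _ (head hv)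

theorem tor (a : Fin 12) {c : F} (hc : c ≠ 0) (e : L = L'.map fun p => (p.1, p.2 * c ^ A (rG a) (rG p.1)))
    (hv : v ∈ T.Sp Z L) : T.ρ (T.X.h (rG a) c) v ∈ T.Sp Z L' := by
  have k : ∀ s t, v ∈ T.E s (t * c ^ A (rG a) (rG s)) → T.ρ (T.X.h (rG a) c) v ∈ T.E s t := fun s t h =>
    eg_h (rG a) (rG s) hc (by rwa [AddChar.mulShift_mulShift])
  exact ⟨fun s hs => k s 0 (by simpa using hv.1 s hs), fun p hp => k _ _ (hv.2 _ (e ▸ List.mem_map_of_mem hp))⟩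

theorem rk_tor (a : Fin 12) {c : F} (hc : c ≠ 0) (e : L = L'.map fun p => (p.1, p.2 * c ^ A (rG a) (rG p.1))) :
    T.rk Z L ≤ T.rk Z L' := finrank_le_of_rho _ fun _ => tor a hc e

theorem fix_tor (h1 : T.rk Z L ≤ 1) {r : Fin 12} (hr : Sta T.ρ (T.Sp Z L) (T.x r)) (a : Fin 12) {c : F} (hc : c ≠ 0)
    (e : L = L.map fun p => (p.1, p.2 * c ^ A (rG a) (rG p.1))) (h : c ^ A (rG a) (rG r) ≠ 1) (hv : v ∈ T.Sp Z L) :
    v ∈ T.E r 0 := mem_E0.2 fun u => by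
  have l := sub_ne_zero.2 h.symm
  refine fix_of_rel h1 (hr (c ^ A (rG a) (rG r) * ((1 - c ^ A (rG a) (rG r))⁻¹ * u))) (fun _ => tor a hc e) ?_ hv
  rw [mul_assoc, ← T.X.add, x, ← T.X.h_conj _ _ hc, inv_mul_cancel_right]
  congr 2
  rw [← sub_eq_iff_eq_add', ← one_sub_mul, mul_inv_cancel_left₀ l]

end Dat

end Cfsg.Agent.MinD
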