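import Cfsg.Agent.MinD.Wt

/-! Minimal degrees of orthogonal groups, part 3: the Heisenberg bound, regular and fixed points of
the unipotent radical, double counting. -/

set_option autoImplicit false
set_option linter.unusedSectionVars false

namespace Cfsg.Agent.MinD

open Cfsg.Agent.Geom Cfsg.Agent.Geom.Formed Cfsg.Agent.Root.Mx QuadraticMap Module
open scoped Pointwise

variable {F : Type*} [Field F] {V : Type*} [AddCommGroup V] [Module F V] {Q : QuadraticForm F V}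
  [Finite F] [FiniteDimensional F V] [Finite V] {Ω : Type*} [MulAction (eichGroup Q) Ω]

theorem triv_of_siegel (hn : (ofQuad Q).Nondeg) (h5 : 5 ≤ finrank F V) {ω : Ω}
    (h : ∀ p a, Q p = 0 → Q a = 0 → polar Q p a = 0 → p ≠ 0 → a ∉ F ∙ p → E Q p a • ω = ω)
    (g : eichGroup Q) : g • ω = ω := by
  have : eichGroup Q ≤ (MulAction.stabilizer (eichGroup Q) ω).map (eichGroup Q).subtype :=
    eichGroup_le (eich_mem_of_siegel hn h5 fun p a h1 h2 h3 h4 => by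
      have hp0 : p ≠ 0 := h4.ne_zero 0
      refine ⟨E Q p a, h p a h1 h2 h3 hp0 fun e => ?_, rfl⟩
      obtain ⟨c, hc⟩ := Submodule.mem_span_singleton.1 e
      exact (LinearIndependent.pair_iff' hp0).1 h4 c hc)
  obtain ⟨k, hk, e⟩ := this g.2
  rw [← Subtype.ext e]
  exact hk

theorem mem_Stb_of_perp (hn : (ofQuad Q).Nondeg) {p a : V} {ω : Ω}
    (h : ∀ w ∈ Wd Q p ω, polar Q w a = 0) : a ∈ Stb Q p ω := by
  rw [← ann_ann hn (Stb Q p ω)]
  exact mem_ann_of_perp h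

theorem mem_Stb_of_perp_span (hn : (ofQuad Q).Nondeg) {p a : V} {ω : Ω}
    (h : a ∈ (ofQuad Q).perp (Submodule.span F (Wd Q p ω : Set V))) : a ∈ Stb Q p ω :=
  mem_Stb_of_perp hn ((ofQuad Q).mem_perp_span.1 h)

theorem p_mem_span (p : V) (ω : Ω) : p ∈ Submodule.span F (Wd Q p ω : Set V) :=
  Submodule.subset_span (by have := smul_mem_Wd (Q := Q) p ω 1; rwa [one_smul] at this)

theorem finrank_sup_span {U : Submodule F V} {x : V} (hx : x ∉ U) :
    finrank F ↥(U ⊔ F ∙ x) = finrank F U + 1 := by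
  have h1 := Submodule.finrank_sup_add_finrank_inf_eq U (F ∙ x)
  have h0 : x ≠ 0 := by rintro rfl; exact hx U.zero_mem
  rw [disjoint_iff.1 ((Submodule.disjoint_span_singleton' h0).2 hx), finrank_bot,
    finrank_span_singleton h0] at h1
  omega

theorem finrank_inf_pp (U : Submodule F V) (x : V) : finrank F U ≤ finrank F ↥(U ⊓ pp Q x) + 1 := by
  have := finrank_pf (Φ := ofQuad Q) ![x] U
  have e : pf (ofQuad Q) ![x] = pp Q x := by
    ext v; simp [mem_pf, mem_pp, ofQuad_B_apply]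
  rwa [e] at this

/-- The Heisenberg bound. -/
theorem exists_large (hn : (ofQuad Q).Nondeg) (h5 : 5 ≤ finrank F V) {ω : Ω}
    (hnt : ∃ g : eichGroup Q, g • ω ≠ ω) : ∃ p, p ≠ 0 ∧ Q p = 0 ∧
      finrank F V ≤ 2 * finrank F (Submodule.span F (Wd Q p ω : Set V)) := by
  by_contra! hc
  obtain ⟨g, hg⟩ := hnt
  refine hg (triv_of_siegel hn h5 (fun p x hp hx hpx hp0 hx0 => ?_) g)
  have hx0' : x ≠ 0 := by rintro rfl; exact hx0 (Submodule.zero_mem _)
  have hxp : polar Q x p = 0 := by rwa [polar_comm]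
  set K := Submodule.span F (Wd Q p ω : Set V)
  set K' := Submodule.span F (Wd Q x ω : Set V)
  by_cases h1 : x ∈ (ofQuad Q).perp K
  · exact (mem_Stb_of_perp_span hn h1).2
  have hsw : -p ∈ Stb Q x ω → E Q p x • ω = ω := fun h => by rw [E_swap hx hp hxp]; exact h.2
  by_cases h2 : p ∈ (ofQuad Q).perp K'
  · exact hsw ((Stb Q x ω).neg_mem (mem_Stb_of_perp_span hn h2))
  by_cases h3 : ∃ a ∈ (ofQuad Q).perp K ⊓ pp Q x, ∃ b ∈ (ofQuad Q).perp K' ⊓ pp Q p, polar Q a b ≠ 0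
  · obtain ⟨a, ⟨ha, ha'⟩, b, ⟨hb, hb'⟩, hab⟩ := h3
    have e1 := mem_Stb_of_perp_span hn (Submodule.smul_mem _ (-(polar Q a b)⁻¹) ha)
    have e2 := mem_Stb_of_perp_span hn hb
    have e3 := (map_mem_Stb (E Q p (-(polar Q a b)⁻¹ • a))).2 e2
    rw [e1.2, E_apply_fix hp e1.1 hpx (by rw [polar_smul_left, polar_comm Q a x, mem_pp.1 ha', smul_zero]),
      E_apply_perp hp e1.1 (mem_pp.1 hb'), polar_smul_left, smul_eq_mul, neg_mul,
      inv_mul_cancel₀ hab, neg_one_smul] at e3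
    exact hsw (by simpa using (Stb Q x ω).sub_mem e3 e2)
  push Not at h3
  exfalso
  have d1 := finrank_sup_span (U := (ofQuad Q).perp K ⊓ pp Q x) (x := x) fun h => h1 h.1
  have d2 := finrank_sup_span (U := (ofQuad Q).perp K' ⊓ pp Q p) (x := p) fun h => h2 h.1
  have d3 := finrank_inf_pp (Q := Q) ((ofQuad Q).perp K) x
  have d4 := finrank_inf_pp (Q := Q) ((ofQuad Q).perp K') p
  have d5 := hn.finrank_add_finrank_perp K
  have d6 := hn.finrank_add_finrank_perp K'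
  have d7 := hn.finrank_add_finrank_perp (((ofQuad Q).perp K ⊓ pp Q x) ⊔ F ∙ x)
  have d8 : ((ofQuad Q).perp K' ⊓ pp Q p) ⊔ (F ∙ p) ≤
      (ofQuad Q).perp (((ofQuad Q).perp K ⊓ pp Q x) ⊔ F ∙ x) := by
    rw [perp_sup, le_inf_iff, sup_le_iff, sup_le_iff]
    refine ⟨⟨fun b hb => mem_perp_quad.2 fun a ha => h3 a ha b hb, ?_⟩, fun b hb => ?_, ?_⟩
    · rw [Submodule.span_singleton_le_iff_mem, mem_perp_quad]
      intro a ha
      rw [polar_comm]
      exact mem_perp_quad.1 ha.1 p (p_mem_span p ω)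
    · exact mem_pp.2 (mem_perp_quad.1 hb.1 x (p_mem_span x ω))
    · rw [Submodule.span_singleton_le_iff_mem]; exact mem_pp.2 hxp
  have d9 := Submodule.finrank_mono d8
  have : 2 * finrank F K < _ := hc p hp0 hp
  have : 2 * finrank F K' < _ := hc x hx0' hx
  omega

variable (Q) in
/-- The orbit of `ω` under the radical of `p` is regular. -/
def Reg (p : V) (ω : Ω) : Prop := ∀ v, polar Q p v = 0 → v ∈ Wd Q p ω

variable (Q) in
/-- The radical of `p` fixes `ω`. -/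
def Ful (p : V) (ω : Ω) : Prop := ∀ w ∈ Wd Q p ω, w ∈ F ∙ p

theorem Reg.map {p : V} {ω : Ω} (h : Reg Q p ω) (g : eichGroup Q) : Reg Q (g.1.1 p) (g • ω) := by
  intro v hv
  obtain ⟨v, rfl⟩ := g.1.1.surjective v
  rw [OG.map_polar] at hv
  exact (map_mem_Wd g).2 (h v hv)

theorem Reg.smul {p : V} {ω : Ω} (h : Reg Q p ω) (hp : Q p = 0) {c : F} (hc : c ≠ 0) :
    Reg Q (c • p) ω := by
  intro v hv
  rw [← smul_inv_smul₀ hc v, mem_Wd_smul hp hc]
  refine h _ ?_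
  rw [polar_smul_left, smul_eq_mul, mul_eq_zero, or_iff_right hc] at hv
  rw [polar_smul_right, hv, smul_zero]

theorem Ful.map {p : V} {ω : Ω} (h : Ful Q p ω) (g : eichGroup Q) : Ful Q (g.1.1 p) (g • ω) := by
  intro v hv
  obtain ⟨v, rfl⟩ := g.1.1.surjective v
  obtain ⟨c, rfl⟩ := Submodule.mem_span_singleton.1 (h v ((map_mem_Wd g).1 hv))
  rw [map_smul]
  exact Submodule.smul_mem _ _ (Submodule.mem_span_singleton_self _)

theorem Ful.smul {p : V} {ω : Ω} (h : Ful Q p ω) (hp : Q p = 0) {c : F} (hc : c ≠ 0) :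
    Ful Q (c • p) ω := by
  intro v hv
  rw [← smul_inv_smul₀ hc v, mem_Wd_smul hp hc] at hv
  rw [Submodule.span_singleton_smul_eq hc.isUnit, ← Submodule.smul_mem_iff _ (inv_ne_zero hc)]
  exact h _ hv

theorem Ful.mem (hn : (ofQuad Q).Nondeg) {p a : V} {ω : Ω} (h : Ful Q p ω) (ha : polar Q p a = 0) :
    a ∈ Stb Q p ω :=
  mem_Stb_of_perp hn fun w hw => by
    obtain ⟨c, rfl⟩ := Submodule.mem_span_singleton.1 (h w hw)
    rw [polar_smul_left, ha, smul_zero]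

theorem Reg.mem (hn : (ofQuad Q).Nondeg) {p a : V} {ω : Ω} (h : Reg Q p ω) (ha : a ∈ Stb Q p ω) :
    a ∈ F ∙ p := by
  rw [← hn.perp_perp (F ∙ p), mem_perp_quad]
  intro v hv
  rw [← ann_ann hn (Stb Q p ω)] at ha
  exact perp_of_mem_ann ha fun c => h _ (mem_pp.1 (Submodule.smul_mem _ c hv))

theorem transfer (hn : (ofQuad Q).Nondeg) (h5 : 5 ≤ finrank F V) {I : V → Ω → Prop}
    (hI : ∀ (g : eichGroup Q) p ω, I p ω → I (g.1.1 p) (g • ω)) {p : V} (hp0 : p ≠ 0) (hp : Q p = 0)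
    (h : ∀ ω, I p ω) {x : V} (hx0 : x ≠ 0) (hx : Q x = 0) (ω : Ω) : I x ω := by
  obtain ⟨g, rfl⟩ := witt1 hn h5 hp0 hx0 (hx.trans hp.symm)
  simpa using hI g p _ (h (g⁻¹ • ω))

theorem triv_of_ful (hn : (ofQuad Q).Nondeg) (h7 : 7 ≤ finrank F V) {p : V} (hp0 : p ≠ 0)
    (hp : Q p = 0) (h : ∀ ω : Ω, Ful Q p ω ∨ Reg Q p ω) {ω : Ω} (hω : Ful Q p ω) (g : eichGroup Q) :
    g • ω = ω := by
  have h1 : ∀ x, x ≠ 0 → Q x = 0 → Ful Q x ω ∨ Reg Q x ω := fun x hx0 hx =>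
    transfer hn (by omega) (I := fun p ω => Ful Q p ω ∨ Reg Q p ω)
      (fun g p ω h => h.imp (·.map g) (·.map g)) hp0 hp h hx0 hx ω
  have h2 : ∀ x y, x ≠ 0 → Q x = 0 → Q y = 0 → polar Q x y = 0 → y ≠ 0 → x ∉ F ∙ y →
      Ful Q x ω → Ful Q y ω := fun x y hx0 hx hy hxy hy0 hxy' hf => by
    refine (h1 y hy0 hy).resolve_right fun hr => hxy' (hr.mem hn ⟨by rwa [polar_comm], ?_⟩)
    rw [E_swap hx hy hxy]
    exact (hf.mem hn (by simp [hxy])).2
  refine triv_of_siegel hn (by omega) (fun x a hx _ hxa hx0 _ => (Ful.mem hn ?_ hxa).2) g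
  have := finrank_span_pair (F := F) p x
  obtain ⟨y, z, hyz, hy, -⟩ := exists_pair_perp hn (Submodule.span F {p, x}) (by omega)
  obtain ⟨y, -, hy0, hys, hy⟩ := exists_sing_pf (ofQuad Q) ![p, x] (U := ⊤)
    (R := Submodule.span F {p, x}) (by rw [finrank_top]; omega)
  have hy0' : y ≠ 0 := by rintro rfl; exact hy0 (Submodule.zero_mem _)
  refine h2 y x hy0' hys.1 hx (by rw [polar_comm]; exact hy 1) hx0
    (fun e => hy0 (Submodule.span_mono (by simp) e)) (h2 p y hp0 hp hys.1 (hy 0) hy0' (fun e => ?_) hω)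
  obtain ⟨c, hc⟩ := Submodule.mem_span_singleton.1 e
  have hc0 : c ≠ 0 := by rintro rfl; exact hp0 (by simpa using hc.symm)
  refine hy0 ?_
  rw [← inv_smul_smul₀ hc0 y, hc]
  exact Submodule.smul_mem _ _ (Submodule.subset_span (by simp))

theorem ncard_sing : {p : V | p ≠ 0 ∧ Q p = 0}.ncard + 1 = (ofQuad Q).nsing := by
  rw [← card_sing_ne_zero]
  congr 1
  exact Nat.card_congr (Equiv.subtypeEquivRight fun x => by simp [sing_ofQuad])

theorem one_lt_q : 1 < Nat.card F := Finite.one_lt_card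

/-- Double counting of an invariant relation between singular points and `Ω`. -/
theorem dc [Finite Ω] [MulAction.IsPretransitive (eichGroup Q) Ω] (hn : (ofQuad Q).Nondeg)
    (h5 : 5 ≤ finrank F V) (I : V → Ω → Prop)
    (hI : ∀ (g : eichGroup Q) p ω, I p ω → I (g.1.1 p) (g • ω))
    (hc : ∀ (c : F) p ω, c ≠ 0 → Q p = 0 → I p ω → I (c • p) ω) {P : ℕ}
    (hP : P * (Nat.card F - 1) + 1 = (ofQuad Q).nsing) {p : V} (hp0 : p ≠ 0) (hp : Q p = 0) (ω : Ω) :
    Nat.card Ω ∣ P * {ω | I p ω}.ncard := by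
  set S := {p : V | p ≠ 0 ∧ Q p = 0}
  have h1 : ∀ x ∈ S, {b ∈ (Set.univ : Set Ω) | I x b}.ncard = {ω | I p ω}.ncard := by
    intro x hx
    obtain ⟨g, rfl⟩ := witt1 hn h5 hp0 hx.1 (hx.2.trans hp.symm)
    symm
    refine Set.ncard_congr (fun ω _ => g • ω) (fun ω h => ⟨trivial, hI g p ω h⟩)
      (fun a b _ _ e => smul_left_cancel g e) fun ω h => ⟨g⁻¹ • ω, ?_, smul_inv_smul _ _⟩
    have := hI g⁻¹ _ _ h.2
    rwa [show (g⁻¹).1.1 (g.1.1 p) = p from OG.inv_apply_apply g.1 p] at this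
  have h2 : ∀ b ∈ (Set.univ : Set Ω), {a ∈ S | I a b}.ncard = {a ∈ S | I a ω}.ncard := by
    intro b _
    obtain ⟨g, rfl⟩ := MulAction.exists_smul_eq (eichGroup Q) ω b
    symm
    refine Set.ncard_congr (fun x _ => g.1.1 x)
      (fun x h => ⟨⟨OG.apply_ne_zero g.1 h.1.1, (OG.map_Q g.1 x).trans h.1.2⟩, hI g x ω h.2⟩)
      (fun a b _ _ e => g.1.1.injective e) fun x h => ⟨(g⁻¹).1.1 x,
        ⟨⟨OG.apply_ne_zero (g⁻¹).1 h.1.1, (OG.map_Q (g⁻¹).1 x).trans h.1.2⟩, ?_⟩,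
          OG.apply_inv_apply g.1 x⟩
    simpa using hI g⁻¹ _ _ h.2
  have h3 := double_count I S Set.univ _ _ (fun x hx => (h1 x hx).ge) fun b hb => (h2 b hb).le
  have h4 := double_count (fun b a => I a b) Set.univ S _ _ (fun b hb => (h2 b hb).ge)
    fun x hx => (h1 x hx).le
  have h5 := le_antisymm h3 h4
  have h6 := ncard_lines (F := F) {a ∈ S | I a ω} (fun h => h.1.1 rfl) fun c hc0 v hv =>
    ⟨⟨smul_ne_zero hc0 hv.1.1, by rw [quad_smul, hv.1.2, mul_zero]⟩, hc c v ω hc0 hv.1.2 hv.2⟩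
  have h7 : S.ncard = P * (Nat.card F - 1) := by
    have : S.ncard + 1 = _ := ncard_sing (Q := Q)
    omega
  rw [h6, h7, Set.ncard_univ, mul_right_comm, ← mul_assoc] at h5
  have := one_lt_q (F := F)
  exact Dvd.intro _ (Nat.eq_of_mul_eq_mul_right (by omega) h5).symm

end Cfsg.Agent.MinD
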