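import Cfsg.Agent.MinD.Rg

/-! Minimal degrees of orthogonal groups, part 5: the main case distinction. -/

set_option autoImplicit false
set_option linter.unusedSectionVars false

namespace Cfsg.Agent.MinD

open Cfsg.Agent.Geom Cfsg.Agent.Geom.Formed Cfsg.Agent.Root.Mx QuadraticMap Module
open scoped Pointwise

variable {F : Type*} [Field F] {V : Type*} [AddCommGroup V] [Module F V] {Q : QuadraticForm F V}
  [Finite F] [FiniteDimensional F V] [Finite V] {Ω : Type*} [MulAction (eichGroup Q) Ω] [Finite Ω]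

variable (Q) in
/-- Singular vectors in `p^⊥` outside `⟨p⟩`. -/
def T1 (p : V) : Set V := {w | polar Q p w = 0 ∧ Q w = 0 ∧ w ∉ F ∙ p}

variable (Q) in
/-- A class of nonsingular vectors in `p^⊥`. -/
def Tc (p : V) (c : F) : Set V := {w | polar Q p w = 0 ∧ ∃ s : F, s ≠ 0 ∧ Q w = s ^ 2 * c}

theorem notMem_of_Q {p w : V} (hp : Q p = 0) (hw : Q w ≠ 0) : w ∉ F ∙ p := fun h => by
  obtain ⟨c, rfl⟩ := Submodule.mem_span_singleton.1 h
  exact hw (by rw [quad_smul, hp, mul_zero])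

theorem Tc_notMem {p : V} (hp : Q p = 0) {c : F} (hc : c ≠ 0) : ∀ w ∈ Tc Q p c, w ∉ F ∙ p :=
  fun _ ⟨_, _, hs, e⟩ => notMem_of_Q hp (e ▸ mul_ne_zero (pow_ne_zero _ hs) hc)

theorem cnt_T1 (hn : (ofQuad Q).Nondeg) (h7 : 7 ≤ finrank F V) {p w w' : V} (hp0 : p ≠ 0) (hp : Q p = 0)
    (hw : w ∈ T1 Q p) (hw' : w' ∈ T1 Q p) (A : AddSubgroup V) : cnt Q p A w' = cnt Q p A w :=
  cnt_eq hn h7 hp0 hp hw.1 hw.2.2 hw'.1 hw'.2.2 one_ne_zero (by rw [hw.2.1, hw'.2.1, mul_zero]) A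

theorem cnt_Tc (hn : (ofQuad Q).Nondeg) (h7 : 7 ≤ finrank F V) {p w w' : V} (hp0 : p ≠ 0) (hp : Q p = 0)
    (hw : polar Q p w = 0) (hw0 : Q w ≠ 0) (hw' : w' ∈ Tc Q p (Q w)) (A : AddSubgroup V) :
    cnt Q p A w' = cnt Q p A w := by
  obtain ⟨s, hs, e⟩ := hw'.2
  exact cnt_eq hn h7 hp0 hp hw (notMem_of_Q hp hw0) hw'.1 (Tc_notMem hp hw0 _ hw') hs e A

theorem card_span_p {p : V} (hp0 : p ≠ 0) : ((F ∙ p : Submodule F V) : Set V).ncard = Nat.card F :=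
  (Nat.card_congr (LinearEquiv.toSpanNonzeroSingleton F V p hp0).toEquiv).symm

theorem ncard_T1 (hn : (ofQuad Q).Nondeg) {p : V} (hp0 : p ≠ 0) (hp : Q p = 0) :
    (T1 Q p).ncard + Nat.card F + (Nat.card F - 1) * Nat.card F ^ (finrank F V - 2) =
      (ofQuad Q).nsing := by
  obtain ⟨r, hpr⟩ := exists_isPair hn hp0 hp
  rw [hpr.nsing_eq, kappa_ofQuad, mul_one, ← hpr.card_sing_perp, Module.natCard_eq_pow_finrank (K := F) (V := (ofQuad Q).pairPerp p r),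
    ← hpr.finrank_pairPerp hn, Nat.add_sub_cancel, add_comm]
  congr 1
  rw [← card_span_p (F := F) hp0, ← Set.ncard_union_eq (Set.disjoint_left.2 fun x h => h.2.2)]
  refine Nat.card_congr (Equiv.subtypeEquivRight fun x => ?_)
  rw [sing_ofQuad, ofQuad_B_apply]
  refine ⟨?_, fun h => ?_⟩
  · rintro (h | h)
    · exact ⟨h.2.1, h.1⟩
    · obtain ⟨c, rfl⟩ := Submodule.mem_span_singleton.1 h
      simp [quad_smul, hp, polar_self_of_sing hp]
  · by_cases h' : x ∈ F ∙ p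
    · exact Or.inr h'
    · exact Or.inl ⟨h.2, h.1, h'⟩

theorem orb_mul_le (hn : (ofQuad Q).Nondeg) {p : V} (hp0 : p ≠ 0) (hp : Q p = 0) (ω : Ω) :
    (Orb Q p (Wd Q p ω)).ncard * Nat.card (Wd Q p ω) ≤ Nat.card F * (Fib Q Ω p (Wd Q p ω)).ncard := by
  rw [ncard_Fib hp, mul_left_comm]
  exact Nat.mul_le_mul_left _ (card_le_mult hn hp0 ω)

theorem q_le_card {p : V} (hp0 : p ≠ 0) (ω : Ω) : Nat.card F ≤ Nat.card (Wd Q p ω) := by
  rw [← card_span_p (F := F) hp0]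
  refine Set.ncard_le_ncard (t := (Wd Q p ω : Set V)) fun x hx => ?_
  obtain ⟨c, rfl⟩ := Submodule.mem_span_singleton.1 hx
  exact smul_mem_Wd p ω c

theorem fib_bound (hn : (ofQuad Q).Nondeg) {p : V} (hp0 : p ≠ 0) (hp : Q p = 0) (ω : Ω) (T : Set V)
    (k : ℕ) (hT : ∀ w ∈ T, w ∉ F ∙ p) (hk : ∀ w ∈ T, k ≤ cnt Q p (Wd Q p ω) w) :
    T.ncard * k + Nat.card F ≤ Nat.card F * (Fib Q Ω p (Wd Q p ω)).ncard := by
  have h1 := cnt_mul_le hp0 hp ω T k hT hk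
  have h2 := orb_mul_le hn hp0 hp ω
  have h3 : 0 < (Orb Q p (Wd Q p ω)).ncard := (Set.ncard_pos).2 ⟨_, self_mem_Orb p _⟩
  obtain ⟨b, hb⟩ := Nat.exists_eq_add_of_le (q_le_card (Q := Q) hp0 ω)
  rw [hb, Nat.add_sub_cancel_left] at h1
  rw [hb] at h2
  nlinarith

theorem fib_bound2 (hn : (ofQuad Q).Nondeg) {p : V} (hp0 : p ≠ 0) (hp : Q p = 0) (ω : Ω) (T : Set V)
    (k : ℕ) (hT : ∀ w ∈ T, w ∉ F ∙ p) (hk : ∀ w ∈ T, k ≤ cnt Q p (Wd Q p ω) w) {B : ℕ}
    (hB : Nat.card (Wd Q p ω) ≤ Nat.card F + B) :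
    (Nat.card F + B) * (T.ncard * k) ≤ B * (Nat.card F * (Fib Q Ω p (Wd Q p ω)).ncard) := by
  have h1 := cnt_mul_le hp0 hp ω T k hT hk
  have h2 := orb_mul_le hn hp0 hp ω
  obtain ⟨b, hb⟩ := Nat.exists_eq_add_of_le (q_le_card (Q := Q) hp0 ω)
  rw [hb, Nat.add_sub_cancel_left] at h1
  rw [hb] at h2 hB
  obtain ⟨d, rfl⟩ := Nat.exists_eq_add_of_le (Nat.le_of_add_le_add_left hB)
  refine le_trans (Nat.mul_le_mul_left _ h1) (le_trans ?_ (Nat.mul_le_mul_left _ h2))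
  nlinarith [Nat.zero_le ((Orb Q p (Wd Q p ω)).ncard * d * Nat.card F)]

theorem fib_bound3 (hn : (ofQuad Q).Nondeg) {p : V} (hp0 : p ≠ 0) (hp : Q p = 0) {ω ω' : Ω} (T : Set V)
    (k : ℕ) (hT : ∀ w ∈ T, w ∉ F ∙ p) (hk : ∀ w ∈ T, k ≤ cnt Q p (Wd Q p ω) w)
    (h : Wd Q p ω' = Wd Q p ω) (h' : ω' ∉ orb Q p ω) :
    2 * (T.ncard * k) ≤ Nat.card F * (Fib Q Ω p (Wd Q p ω)).ncard := by
  have h1 := cnt_mul_le hp0 hp ω T k hT hk
  have h2 := Nat.mul_le_mul_left (Orb Q p (Wd Q p ω)).ncard (two_card_le_mult hn hp0 h h')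
  have h3 := Nat.mul_le_mul_left (Orb Q p (Wd Q p ω)).ncard (Nat.sub_le (Nat.card (Wd Q p ω)) (Nat.card F))
  rw [ncard_Fib hp]
  nlinarith

theorem one_le_cnt {p w : V} {A : AddSubgroup V} (h : w ∈ A) : 1 ≤ cnt Q p A w :=
  (Set.ncard_pos).2 ⟨A, self_mem_Orb p A, h⟩

theorem two_le_char : 2 ≤ ringChar F := (CharP.char_is_prime F (ringChar F)).two_le

theorem card_le_of_le {A : AddSubgroup V} {U : Submodule F V} (h : ∀ a ∈ A, a ∈ U) {k : ℕ}
    (hk : finrank F U ≤ k) : Nat.card A ≤ Nat.card F ^ k := by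
  refine le_trans ?_ (Nat.pow_le_pow_right Nat.card_pos hk)
  rw [← Module.natCard_eq_pow_finrank]
  exact Set.ncard_le_ncard (s := (A : Set V)) (t := (U : Set V)) h

theorem char_le_cnt' (hn : (ofQuad Q).Nondeg) (h7 : 7 ≤ finrank F V) {p w a : V}
    (hp0 : p ≠ 0) (hp : Q p = 0) {ω : Ω} (hω : ¬ Reg Q p ω) (hw0 : w ∉ F ∙ p) (hw : w ∈ Wd Q p ω)
    (ha : a ∈ Wd Q p ω) (ha0 : a ∉ Submodule.span F {p, w}) : ringChar F ≤ cnt Q p (Wd Q p ω) w := by
  rw [Reg] at hω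
  push Not at hω
  obtain ⟨v, hv, hv'⟩ := hω
  exact char_le_cnt hn h7 hp0 hp hw0 (smul_mem_Wd p ω) (fun b hb => perp_of_mem_Wd hp hb) hw ha ha0 hv hv'

theorem class_le (hn : (ofQuad Q).Nondeg) (h7 : 7 ≤ finrank F V) {p w : V}
    (hp0 : p ≠ 0) (hp : Q p = 0) {ω : Ω} (hω : ¬ Reg Q p ω) (hw0 : w ∉ F ∙ p) (hw : w ∈ Wd Q p ω)
    (T : Set V) (hT : ∀ w ∈ T, w ∉ F ∙ p)
    (hk : ∀ w' ∈ T, cnt Q p (Wd Q p ω) w' = cnt Q p (Wd Q p ω) w) :
    T.ncard ≤ (Nat.card F - 1) * (Fib Q Ω p (Wd Q p ω)).ncard := by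
  obtain ⟨t, ht⟩ := Nat.exists_eq_add_of_lt (one_lt_q (F := F))
  by_cases h : ∀ a ∈ Wd Q p ω, a ∈ Submodule.span F {p, w}
  · have h1 := fib_bound2 hn hp0 hp ω T 1 hT (fun w' h' => (hk w' h').symm ▸ one_le_cnt hw)
      (B := Nat.card F * (Nat.card F - 1)) ((card_le_of_le h (finrank_span_pair p w)).trans (by
        rw [ht]; simp only [Nat.add_sub_cancel]; nlinarith))
    rw [ht] at h1 ⊢
    simp only [Nat.add_sub_cancel] at h1 ⊢
    refine Nat.le_of_mul_le_mul_left (c := (1 + t + 1) * (1 + t + 1)) ?_ (by positivity)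
    nlinarith
  · push Not at h
    obtain ⟨a, ha, ha0⟩ := h
    have h1 := fib_bound hn hp0 hp ω T 2 hT fun w' h' => (hk w' h').symm ▸
      two_le_char.trans (char_le_cnt' hn h7 hp0 hp hω hw0 hw ha ha0)
    rw [ht] at h1 ⊢
    simp only [Nat.add_sub_cancel]
    nlinarith [Nat.zero_le (t * (Fib Q Ω p (Wd Q p ω)).ncard)]

theorem Gam_perp {p v : V} {φ : V ≃ₗ[F] V} (h : φ ∈ Gam Q p) (hv : polar Q p v = 0) :
    polar Q p (φ v) = 0 := by
  obtain ⟨g, c, hc, h1, h2⟩ := h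
  rw [← OG.map_polar g.1, h1, h2, polar_smul_left, polar_smul_right] at hv
  simpa [hc] using hv

theorem not_reg_of_mem_Fib {p : V} {ω ω' : Ω} (hω : ¬ Reg Q p ω) (h : ω' ∈ Fib Q Ω p (Wd Q p ω)) :
    ¬ Reg Q p ω' := fun h' => hω fun v hv => by
  obtain ⟨φ, hφ, e⟩ := h
  have := h' _ (Gam_perp hφ hv)
  rwa [e, mem_smul_iff] at this

theorem Reg.Wd_eq {p : V} (hp : Q p = 0) {ω : Ω} (h : Reg Q p ω) : Wd Q p ω = (pp Q p).toAddSubgroup := by
  ext v
  exact ⟨fun hv => mem_pp.2 (perp_of_mem_Wd hp hv), fun hv => h v (mem_pp.1 hv)⟩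

theorem Reg.ncard_orb (hn : (ofQuad Q).Nondeg) {p : V} (hp0 : p ≠ 0) (hp : Q p = 0) {ω : Ω}
    (h : Reg Q p ω) : (orb Q p ω).ncard = Nat.card F ^ (finrank F V - 2) := by
  have h1 := card_orb hn hp0 ω
  have h2 := card_mul_pp hn hp0
  obtain ⟨r, hpr⟩ := exists_isPair hn hp0 hp
  have h3 := hpr.finrank_pairPerp hn
  rw [h.Wd_eq hp] at h1
  have h1 : Nat.card F * (orb Q p ω).ncard = Nat.card (pp Q p) := h1
  rw [← h1, Module.natCard_eq_pow_finrank (K := F) (V := V), ← h3, pow_add, _root_.sq, ← mul_assoc, mul_comm] at h2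
  rw [← h3, Nat.add_sub_cancel]
  exact Nat.eq_of_mul_eq_mul_right (Nat.mul_pos Nat.card_pos Nat.card_pos) h2

theorem ncard_add_le {S T : Set Ω} (h : Disjoint S T) : S.ncard + T.ncard ≤ Nat.card Ω := by
  rw [← Set.ncard_union_eq h, ← Set.ncard_univ]
  exact Set.ncard_le_ncard (Set.subset_univ _)

theorem smul_mem_of_prime (h : Nat.card F = ringChar F) {A : AddSubgroup V} {a : V} (ha : a ∈ A)
    (c : F) : c • a ∈ A := by
  have hp := CharP.char_is_prime F (ringChar F)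
  have : Fact (ringChar F).Prime := ⟨hp⟩
  have hs : Function.Surjective (ZMod.castHom (dvd_refl (ringChar F)) F) :=
    ((Nat.bijective_iff_injective_and_card _).2 ⟨RingHom.injective _, by simp [h]⟩).2
  obtain ⟨z, rfl⟩ := hs c
  obtain ⟨k, rfl⟩ := ZMod.natCast_zmod_surjective z
  rw [map_natCast, Nat.cast_smul_eq_nsmul]
  exact A.nsmul_mem ha k

theorem exists_notMem_pair (h7 : 7 ≤ finrank F V) {A : AddSubgroup V}
    (h : finrank F V ≤ 2 * finrank F (Submodule.span F (A : Set V))) (p w : V) :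
    ∃ a ∈ A, a ∉ Submodule.span F {p, w} := by
  by_contra! hc
  have := Submodule.finrank_mono (Submodule.span_le.2 (show (A : Set V) ⊆ Submodule.span F {p, w} from hc))
  have := finrank_span_pair (F := F) p w
  omega

/-- The main case distinction. -/
theorem main_cases [MulAction.IsPretransitive (eichGroup Q) Ω] (hn : (ofQuad Q).Nondeg)
    (h7 : 7 ≤ finrank F V) (ω₀ : Ω) (hnt : ∀ ω : Ω, ∃ g : eichGroup Q, g • ω ≠ ω) (hreg : ¬ RegAll Q Ω)
    {P C τ : ℕ} (hP : P * (Nat.card F - 1) + 1 = (ofQuad Q).nsing)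
    (hτ : τ + Nat.card F + (Nat.card F - 1) * Nat.card F ^ (finrank F V - 2) = (ofQuad Q).nsing)
    (hC : ∀ p c, p ≠ 0 → Q p = 0 → c ≠ 0 → C ≤ (Tc Q p c).ncard) :
    (Nat.card F - 1) * Nat.card F ^ (finrank F V - 2) + C ≤ (Nat.card F - 1) * Nat.card Ω ∨
    P ≤ Nat.card Ω ∨ 2 * Nat.card F ^ (finrank F V - 2) ≤ Nat.card Ω ∨
    (C * ringChar F ≤ Nat.card F * Nat.card Ω ∧
      (Nat.card F = ringChar F → C + τ + 1 ≤ Nat.card Ω)) ∨
    ∃ (p : V) (ω : Ω), p ≠ 0 ∧ Q p = 0 ∧ (∀ w ∈ Wd Q p ω, Q w = 0) ∧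
      finrank F V ≤ 2 * finrank F (Submodule.span F (Wd Q p ω : Set V)) := by
  obtain ⟨p, hp0, hp, hl⟩ := exists_large hn (by omega) (hnt ω₀)
  have hτ' : (T1 Q p).ncard = τ := by have := ncard_T1 hn hp0 hp; omega
  have hN : ∀ S : Set Ω, S.ncard ≤ Nat.card Ω := fun S => by
    simpa using ncard_add_le (S := S) (T := ∅) (by simp)
  by_cases hR : ∃ ω : Ω, Reg Q p ω
  · obtain ⟨ω, hω⟩ := hR
    have h1 := hω.ncard_orb hn hp0 hp
    have hsub : orb Q p ω ⊆ {ω' | Reg Q p ω'} := fun ω' h v hv => Wd_of_mem_orb h ▸ hω v hv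
    by_cases h2 : ∃ ω' : Ω, ¬ Reg Q p ω' ∧ ¬ Ful Q p ω'
    · obtain ⟨ω', h2, h3⟩ := h2
      rw [Ful] at h3
      push Not at h3
      obtain ⟨w, hw, hw0⟩ := h3
      have hd : Disjoint (orb Q p ω) (Fib Q Ω p (Wd Q p ω')) :=
        Set.disjoint_left.2 fun x h h' => not_reg_of_mem_Fib h2 h' (hsub h)
      have h4 := ncard_add_le hd
      rw [h1] at h4
      have hpw := perp_of_mem_Wd hp hw
      by_cases hQ : Q w = 0
      · right; left
        have h5 := class_le hn h7 hp0 hp h2 hw0 hw (T1 Q p) (fun _ h => h.2.2)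
          fun w' h' => cnt_T1 hn h7 hp0 hp ⟨hpw, hQ, hw0⟩ h' _
        by_contra! hlt
        have h6 := dc hn (by omega) (Reg Q) (fun g p ω h => h.map g) (fun c p ω hc hp h => h.smul hp hc)
          hP hp0 hp ω
        have h7 : Nat.card Ω + 1 = P := by
          obtain ⟨t, ht⟩ := Nat.exists_eq_add_of_lt (one_lt_q (F := F))
          rw [hτ'] at h5
          rw [← hτ] at hP
          generalize Nat.card F ^ (finrank F V - 2) = e at *
          rw [ht] at h5 hP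
          simp only [Nat.add_sub_cancel] at h5 hP
          refine le_antisymm hlt (Nat.le_of_mul_le_mul_left (c := 1 + t) ?_ (by omega))
          nlinarith
        rw [← h7, add_mul, one_mul, Nat.dvd_add_right (Dvd.intro _ rfl)] at h6
        have h8 := Nat.le_of_dvd ((Set.ncard_pos).2 ⟨ω, hω⟩) h6
        have h9 := ncard_add_le (S := {ω' | Reg Q p ω'}) (T := {ω'}) (by simpa using h2)
        rw [Set.ncard_singleton] at h9
        omega
      · left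
        have h5 := (hC p _ hp0 hp hQ).trans (class_le hn h7 hp0 hp h2 hw0 hw (Tc Q p (Q w))
          (Tc_notMem hp hQ) fun w' h' => cnt_Tc hn h7 hp0 hp hpw hQ h' _)
        have := Nat.mul_le_mul_left (Nat.card F - 1) h4
        rw [mul_add] at this
        omega
    · push Not at h2
      have h3 : ∀ ω' : Ω, Reg Q p ω' := fun ω' => by
        by_contra h
        obtain ⟨g, hg⟩ := hnt ω'
        exact hg (triv_of_ful hn h7 hp0 hp (fun x => (em (Reg Q p x)).symm.imp (h2 x) id) (h2 ω' h) g)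
      by_cases h4 : ∀ ω', ω' ∈ orb Q p ω
      · exact absurd (regAll_of hn (by omega) hp0 hp h3 h4) hreg
      · push Not at h4
        obtain ⟨ω', h4⟩ := h4
        have := ncard_add_le (S := orb Q p ω) (T := orb Q p ω')
          (Set.disjoint_left.2 fun x a b => h4 (orb_trans a (orb_symm b)))
        rw [h1, (h3 ω').ncard_orb hn hp0 hp] at this
        omega
  · push Not at hR
    by_cases h1 : ∀ w ∈ Wd Q p ω₀, Q w = 0
    · exact Or.inr (Or.inr (Or.inr (Or.inr ⟨p, ω₀, hp0, hp, h1, hl⟩)))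
    push Not at h1
    obtain ⟨w, hw, hQ⟩ := h1
    have key : ∀ w ∈ Wd Q p ω₀, w ∉ F ∙ p → ringChar F ≤ cnt Q p (Wd Q p ω₀) w := fun w hw hw0 => by
      obtain ⟨a, ha, ha0⟩ := exists_notMem_pair h7 hl p w
      exact char_le_cnt' hn h7 hp0 hp (hR ω₀) hw0 hw ha ha0
    have hpw := perp_of_mem_Wd hp hw
    have k1 : ∀ w' ∈ Tc Q p (Q w), ringChar F ≤ cnt Q p (Wd Q p ω₀) w' := fun w' h' =>
      (cnt_Tc hn h7 hp0 hp hpw hQ h' _).symm ▸ key w hw (notMem_of_Q hp hQ)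
    have h2 := hC p _ hp0 hp hQ
    have h3 := Nat.mul_le_mul_left (Nat.card F) (hN (Fib Q Ω p (Wd Q p ω₀)))
    refine Or.inr (Or.inr (Or.inr (Or.inl ⟨?_, fun hq => ?_⟩)))
    · have := fib_bound hn hp0 hp ω₀ _ _ (Tc_notMem hp hQ) k1
      have := Nat.mul_le_mul_right (ringChar F) h2
      omega
    · let U : Submodule F V :=
        { (Wd Q p ω₀).toAddSubmonoid with smul_mem' := fun c a ha => smul_mem_of_prime hq ha c }
      have hU : Submodule.span F (Wd Q p ω₀ : Set V) = U := Submodule.span_eq U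
      obtain ⟨x, hx, hx0, hxs⟩ := exists_sing_notMem (ofQuad Q) (U := U) (R := F ∙ p)
        (by rw [finrank_span_singleton hp0, ← hU]; omega)
      have := fib_bound hn hp0 hp ω₀ (Tc Q p (Q w) ∪ T1 Q p) (ringChar F)
        (by rintro y (h | h); exacts [Tc_notMem hp hQ _ h, h.2.2])
        (by
          rintro y (h | h)
          · exact k1 y h
          · rw [cnt_T1 hn h7 hp0 hp ⟨perp_of_mem_Wd hp hx, hxs.1, hx0⟩ h]
            exact key x hx hx0)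
      rw [Set.ncard_union_eq (Set.disjoint_left.2 fun y h h' => by
        obtain ⟨s, hs, e⟩ := h.2
        exact mul_ne_zero (pow_ne_zero 2 hs) hQ (e.symm.trans h'.2.1)), hτ', ← hq] at this
      refine Nat.le_of_mul_le_mul_left (c := Nat.card F) ?_ Nat.card_pos
      nlinarith

end Cfsg.Agent.MinD
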