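import Cfsg.Agent.MinD.Pl
import Cfsg.Agent.Geom.OBridge

/-! Minimal degrees of orthogonal groups, part 7: class sizes and the passage to `PΩ`. -/

set_option autoImplicit false
set_option linter.unusedSectionVars false

namespace Cfsg.Agent.MinD

open Cfsg.Agent.Geom Cfsg.Agent.Geom.Formed Cfsg.Agent.Root.Mx QuadraticMap Module
open scoped Pointwise

variable {F : Type*} [Field F] {V : Type*} [AddCommGroup V] [Module F V] {Q : QuadraticForm F V}
  [Finite F] [FiniteDimensional F V] [Finite V]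

theorem ncard_sing_perp {p : V} (hp0 : p ≠ 0) (hp : Q p = 0) :
    {w | polar Q p w = 0 ∧ Q w = 0}.ncard = (T1 Q p).ncard + Nat.card F := by
  rw [← card_span_p (F := F) hp0, ← Set.ncard_union_eq (Set.disjoint_left.2 fun x h => h.2.2)]
  congr 1
  ext x
  refine ⟨fun h => ?_, ?_⟩
  · by_cases h' : x ∈ F ∙ p
    · exact Or.inr h'
    · exact Or.inl ⟨h.1, h.2, h'⟩
  · rintro (h | h)
    · exact ⟨h.1, h.2.1⟩
    · obtain ⟨c, rfl⟩ := Submodule.mem_span_singleton.1 h
      simp [quad_smul, hp, polar_self_of_sing hp]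

theorem Tc_even (hn : (ofQuad Q).Nondeg) (h2 : (2 : F) = 0) {p : V} (hp0 : p ≠ 0) (hp : Q p = 0) {c : F}
    (hc : c ≠ 0) : Nat.card F ^ finrank F V ≤
      Nat.card F * ((T1 Q p).ncard + Nat.card F + (Tc Q p c).ncard) := by
  rw [← Module.natCard_eq_pow_finrank, ← card_mul_pp hn hp0, ← ncard_sing_perp hp0 hp]
  refine Nat.mul_le_mul_left _ (le_trans ?_ (Set.ncard_union_le _ _))
  refine Set.ncard_le_ncard (s := (pp Q p : Set V)) fun w hw => ?_
  by_cases h : Q w = 0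
  · exact Or.inl ⟨mem_pp.1 hw, h⟩
  · obtain ⟨t, ht, e⟩ := exists_sq_mul_of_sqSign_eq h hc
      (by rw [sqSign_of_two_eq_zero h2, sqSign_of_two_eq_zero h2])
    exact Or.inr ⟨mem_pp.1 hw, t, ht, e⟩

theorem Tc_odd (hn : (ofQuad Q).Nondeg) (h2 : (2 : F) ≠ 0) {p : V} (hp0 : p ≠ 0) (hp : Q p = 0) {c : F}
    (hc : c ≠ 0) : ∃ U : Submodule F V, (ofQuad (Q.comp U.subtype)).Nondeg ∧
      finrank F U + 1 = finrank F V ∧ Nat.card F * (ofQuad (Q.comp U.subtype)).nsing =
        (T1 Q p).ncard + Nat.card F + (Tc Q p c).ncard * 2 := by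
  obtain ⟨r, hpr⟩ := exists_isPair hn hp0 hp
  have hz := hpr.quad_add_smul c
  have hz0 : p + c • r ≠ 0 := fun e => hc (by rw [← hz, e, map_zero])
  refine ⟨pp Q (p + c • r), restrict_ofQuad Q _ ▸ hn.restrict_perp (nondeg_span_singleton _ (by
    rw [ofQuad_B_apply, polar_self', hz]; exact mul_ne_zero h2 hc)), by
    rw [← hn.finrank_add_finrank_perp (F ∙ (p + c • r)), finrank_span_singleton hz0, add_comm], ?_⟩
  rw [← restrict_ofQuad, nsing_restrict, ← Nat.card_prod, ← ncard_sing_perp hp0 hp]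
  have hpp := polar_self_of_sing hp
  have hrr := polar_self_of_sing hpr.Q_right
  have h1 := hpr.polar_eq
  have h1' := hpr.polar_eq'
  have hQ : ∀ (w : V) (a b : F), Q (w + a • p + b • r) = Q w + a * polar Q p w + b * polar Q r w + a * b := by
    intro w a b
    rw [quad_add, quad_add, quad_smul, quad_smul, hp, hpr.Q_right]
    simp [polar_comm Q w, h1]; ring
  have e1 : Nat.card (F × {x // x ∈ pp Q (p + c • r) ∧ (ofQuad Q).Sing x}) =
      Nat.card {x : V × F // polar Q p x.1 = 0 ∧ Q x.1 = x.2 ^ 2 * c} := by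
    refine Nat.card_congr ⟨fun x => ⟨(x.2.1 + (x.1 - polar Q r x.2.1) • p + (-polar Q p x.2.1) • r,
      polar Q r x.2.1), ?_⟩, fun x => (polar Q r x.1.1, ⟨x.1.1 + (x.1.2 - polar Q r x.1.1) • p +
        (-(c * x.1.2)) • r, ?_⟩), ?_, ?_⟩
    · obtain ⟨t, v, hv, hs⟩ := x
      have hv := mem_pp.1 hv
      simp only [polar_add_left, polar_smul_left, smul_eq_mul] at hv
      refine ⟨by simp [hpp, h1], ?_⟩
      simp only
      rw [hQ, sing_ofQuad.1 hs]
      linear_combination (-polar Q r v) * hv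
    · obtain ⟨⟨w, a⟩, hw, hs⟩ := x
      simp only at hw hs
      refine ⟨mem_pp.2 (by simp [hpp, hrr, h1, h1', hw]; ring), sing_ofQuad.2 ?_⟩
      simp only
      rw [hQ, hs, hw]; ring
    · rintro ⟨t, v, hv, hs⟩
      have hv := mem_pp.1 hv
      simp only [polar_add_left, polar_smul_left, smul_eq_mul] at hv
      refine Prod.ext (by simp [hrr, h1']) (Subtype.ext ?_)
      simp only [polar_add_right, polar_smul_right, hrr, h1', smul_eq_mul]
      match_scalars
      · rfl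
      · ring
      · linear_combination -hv
    · rintro ⟨⟨w, a⟩, hw, hs⟩
      simp only at hw hs
      refine Subtype.ext (Prod.ext ?_ (by simp [hrr, h1']))
      simp only [polar_add_right, polar_smul_right, hrr, h1', h1, hpp, hw, smul_eq_mul]
      module
  rw [e1, ← card_subtype_add_card_not (fun x : {x : V × F // polar Q p x.1 = 0 ∧ Q x.1 = x.2 ^ 2 * c} =>
    x.1.2 = 0)]
  congr 1
  · exact Nat.card_congr ⟨fun x => ⟨x.1.1.1, x.1.2.1, by rw [x.1.2.2, x.2]; simp⟩,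
      fun w => ⟨⟨(w.1, 0), w.2.1, by rw [w.2.2]; simp⟩, rfl⟩,
      fun x => Subtype.ext (Subtype.ext (Prod.ext rfl x.2.symm)), fun _ => rfl⟩
  · refine card_eq_mul_of_fiber (β := Tc Q p c) (fun x => ⟨x.1.1.1, x.1.2.1, x.1.1.2, x.2, x.1.2.2⟩) 2 ?_
    rintro ⟨w, hw, s, hs, e⟩
    rw [Nat.card_eq_two_iff]
    refine ⟨⟨⟨⟨(w, s), hw, e⟩, hs⟩, rfl⟩, ⟨⟨⟨(w, -s), hw, by rw [e]; ring⟩, neg_ne_zero.2 hs⟩, rfl⟩,
      fun h => ?_, ?_⟩
    · have : s = -s := congrArg (fun x => x.1.1.1.2) h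
      exact mul_ne_zero h2 hs (by linear_combination this)
    · rw [Set.eq_univ_iff_forall]
      rintro ⟨⟨⟨⟨w', t⟩, hw', e'⟩, ht⟩, h⟩
      obtain rfl : w' = w := congrArg Subtype.val h
      have : t ^ 2 = s ^ 2 := mul_right_cancel₀ hc (e'.symm.trans e)
      rcases sq_eq_sq_iff_eq_or_eq_neg.1 this with rfl | rfl
      · exact Or.inl rfl
      · exact Or.inr rfl

theorem lower_of_action {b : ℕ} (h : ∀ K : Subgroup (eichGroup Q), (∀ ω : eichGroup Q ⧸ K,
    ∃ g : eichGroup Q, g • ω ≠ ω) → b ≤ Nat.card (eichGroup Q ⧸ K)) (K : Subgroup (eichGroup Q))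
    (hK : K ≠ ⊤) : b ≤ K.index := by
  refine h K fun ω => ?_
  by_contra! hc
  refine hK (eq_top_iff.2 fun g _ => ?_)
  induction ω using QuotientGroup.induction_on
  rename_i k
  have := hc (k * g⁻¹ * k⁻¹)
  rw [MulAction.Quotient.smul_mk, smul_eq_mul, inv_mul_cancel_right, QuotientGroup.eq] at this
  simpa using this

theorem index_line (w : V) (hw : w ≠ 0) (S : Set V)
    (hS : ∀ v, v ∈ S ↔ ∃ (g : eichGroup Q) (c : F), c ≠ 0 ∧ v = c • g.1.1 w) :
    ∃ K : Subgroup (eichGroup Q), (∀ g : eichGroup Q, g.1 = negOne Q → g ∈ K) ∧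
      K.index * (Nat.card F - 1) = S.ncard := by
  have key : ∀ g : eichGroup Q, g • (F ∙ w) = F ∙ g.1.1 w := fun g => by
    show (F ∙ w).map _ = _
    rw [Submodule.map_span, Set.image_singleton]; rfl
  refine ⟨MulAction.stabilizer (eichGroup Q) (F ∙ w), fun g hg => ?_, ?_⟩
  · rw [MulAction.mem_stabilizer_iff, key, hg, negOne_apply, ← neg_one_smul F w,
      Submodule.span_singleton_smul_eq isUnit_one.neg]
  rw [MulAction.index_stabilizer, ncard_lines (F := F) S]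
  · congr 2
    ext U
    constructor
    · rintro ⟨g, rfl⟩
      exact ⟨_, (hS _).2 ⟨g, 1, one_ne_zero, (one_smul _ _).symm⟩, (key g).symm⟩
    · rintro ⟨v, hv, rfl⟩
      obtain ⟨g, c, hc, rfl⟩ := (hS v).1 hv
      exact ⟨g, (key g).trans (Submodule.span_singleton_smul_eq hc.isUnit _).symm⟩
  · intro h
    obtain ⟨g, c, hc, e⟩ := (hS _).1 h
    exact smul_ne_zero hc (OG.apply_ne_zero g.1 hw) e.symm
  · intro d hd v hv
    obtain ⟨g, c, hc, rfl⟩ := (hS v).1 hv
    exact (hS _).2 ⟨g, d * c, mul_ne_zero hd hc, smul_smul _ _ _⟩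

theorem index_class (hn : (ofQuad Q).Nondeg) (h5 : 5 ≤ finrank F V) (c : F) :
    ∃ K : Subgroup (eichGroup Q), (∀ g : eichGroup Q, g.1 = negOne Q → g ∈ K) ∧
      K.index * (Nat.card F - 1) = {v | v ≠ 0 ∧ ∃ s : F, s ≠ 0 ∧ Q v = s ^ 2 * c}.ncard := by
  obtain ⟨p, -, r, -, hpr⟩ := exists_pair hn (nondeg_top hn) (by rw [finrank_top]; omega)
  have h0 : p + c • r ≠ 0 := fun e => by
    have := congrArg (polar Q r) e
    simp [hpr.polar_eq', polar_self_of_sing hpr.Q_right] at this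
  refine index_line _ h0 _ fun v => ⟨?_, ?_⟩
  · rintro ⟨hv, s, hs, e⟩
    obtain ⟨g, hg⟩ := witt1 hn h5 h0 (smul_ne_zero (inv_ne_zero hs) hv)
      (by rw [quad_smul, e, hpr.quad_add_smul]; field_simp)
    exact ⟨g, s, hs, by rw [hg, smul_inv_smul₀ hs]⟩
  · rintro ⟨g, s, hs, rfl⟩
    exact ⟨smul_ne_zero hs (OG.apply_ne_zero g.1 h0), s, hs, by
      rw [quad_smul, OG.map_Q, hpr.quad_add_smul]⟩

theorem index_sing (hn : (ofQuad Q).Nondeg) (h5 : 5 ≤ finrank F V) {P : ℕ}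
    (hP : P * (Nat.card F - 1) + 1 = (ofQuad Q).nsing) :
    ∃ K : Subgroup (eichGroup Q), (∀ g : eichGroup Q, g.1 = negOne Q → g ∈ K) ∧ K.index = P := by
  obtain ⟨K, h1, h2⟩ := index_class hn h5 (0 : F)
  refine ⟨K, h1, ?_⟩
  have e : {v : V | v ≠ 0 ∧ ∃ s : F, s ≠ 0 ∧ Q v = s ^ 2 * 0} = {v | v ≠ 0 ∧ Q v = 0} := by
    ext v
    simp only [mul_zero, Set.mem_ofPred_eq]
    exact and_congr_right fun _ => ⟨fun ⟨_, _, h⟩ => h, fun h => ⟨1, one_ne_zero, h⟩⟩
  have h3 := ncard_sing (Q := Q)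
  have := one_lt_q (F := F)
  rw [e] at h2
  exact Nat.eq_of_mul_eq_mul_right (m := Nat.card F - 1) (by omega) (by omega)

theorem bridge {ι : Type} [Fintype ι] [DecidableEq ι] {Q : QuadraticForm F (ι → F)}
    (hn : (ofQuad Q).Nondeg) (h5 : 5 ≤ finrank F (ι → F)) {b : ℕ}
    (h1 : ∀ K : Subgroup (eichGroup Q), K ≠ ⊤ → b ≤ K.index)
    (h2 : ∃ K : Subgroup (eichGroup Q), (∀ g : eichGroup Q, g.1 = negOne Q → g ∈ K) ∧ K.index = b) :
    (∀ H : Subgroup (POmega F ⇑Q), H ≠ ⊤ → b ≤ H.index) ∧ ∃ H : Subgroup (POmega F ⇑Q), H.index = b := by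
  let π : eichGroup Q →* POmega F ⇑Q := (pOmegaEquiv Q).symm.toMonoidHom.comp
    ((QuotientGroup.mk' _).comp (MulEquiv.subgroupCongr (G_eq hn h5)).toMonoidHom)
  have hπ : Function.Surjective π := (pOmegaEquiv Q).symm.surjective.comp
    ((QuotientGroup.mk'_surjective _).comp (MulEquiv.subgroupCongr (G_eq hn h5)).surjective)
  refine ⟨fun H hH => ?_, ?_⟩
  · rw [← Subgroup.index_comap_of_surjective H hπ]
    refine h1 _ fun e => hH ?_
    rw [← Subgroup.map_comap_eq_self_of_surjective hπ H, e, Subgroup.map_top_of_surjective _ hπ]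
  · obtain ⟨K, hK, e⟩ := h2
    refine ⟨K.map π, (Subgroup.index_map_eq K hπ fun g hg => ?_).trans e⟩
    have : (MulEquiv.subgroupCongr (G_eq hn h5)) g ∈ Subgroup.center (commutator (OG Q)) := by
      rw [← QuotientGroup.eq_one_iff]
      exact (pOmegaEquiv Q).symm.injective (hg.trans (map_one _).symm)
    rcases (mem_center_iff_of_eich hn (by omega) (exists_sing_of_finite Q (by omega))
      (fun p a => G_eq hn h5 ▸ eich_mem_eichGroup p a) _).1 this with h | h
    · rw [show g = 1 from Subtype.ext h]; exact K.one_mem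
    · exact hK g h

end Cfsg.Agent.MinD
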