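import Cfsg.Agent.MinD.Mn

/-! Minimal degrees of orthogonal groups, part 6: totally singular character groups (plus type). -/

set_option autoImplicit false
set_option linter.unusedSectionVars false

namespace Cfsg.Agent.MinD

open Cfsg.Agent.Geom Cfsg.Agent.Geom.Formed Cfsg.Agent.Root.Mx QuadraticMap Module
open scoped Pointwise

variable {F : Type*} [Field F] {V : Type*} [AddCommGroup V] [Module F V] {Q : QuadraticForm F V}
  [Finite F] [FiniteDimensional F V] [Finite V] {Ω : Type*} [MulAction (eichGroup Q) Ω] [Finite Ω]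

theorem totSing_span {A : AddSubgroup V} (h : ∀ a ∈ A, Q a = 0) :
    (ofQuad Q).TotSing (Submodule.span F (A : Set V)) := by
  have h1 : ∀ a ∈ A, ∀ b ∈ A, polar Q a b = 0 := fun a ha b hb => by
    have := quad_add Q a b
    rw [h _ (A.add_mem ha hb), h a ha, h b hb] at this
    simpa using this.symm
  have h2 : Submodule.span F (A : Set V) ≤ (ofQuad Q).perp (Submodule.span F (A : Set V)) :=
    Submodule.span_le.2 fun b hb => (ofQuad Q).mem_perp_span.2 fun a ha => h1 a ha b hb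
  refine ⟨fun x hx y hy => mem_perp_quad.1 (h2 hy) x hx, fun x hx => ?_⟩
  induction hx using Submodule.span_induction with
  | mem x hx => exact h x hx
  | zero => simp
  | add x y hx hy e1 e2 =>
    rw [ofQuad_Q] at *
    rw [quad_add, e1, e2, mem_perp_quad.1 (h2 hy) x hx]; simp
  | smul c x hx e => rw [ofQuad_Q] at *; rw [quad_smul, e, mul_zero]

theorem mem_span_smul {φ : V ≃ₗ[F] V} {A : AddSubgroup V} {v : V}
    (h : φ v ∈ Submodule.span F ((φ • A : AddSubgroup V) : Set V)) : v ∈ Submodule.span F (A : Set V) := by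
  have : Submodule.span F ((φ • A : AddSubgroup V) : Set V) ≤
      (Submodule.span F (A : Set V)).map (φ : V →ₗ[F] V) := Submodule.span_le.2 fun x hx => by
    obtain ⟨y, rfl⟩ := φ.surjective x
    exact ⟨y, Submodule.subset_span (mem_smul_iff.1 hx), rfl⟩
  obtain ⟨y, hy, e⟩ := this h
  exact φ.injective e ▸ hy

section
variable (hn : (ofQuad Q).Nondeg) {m : ℕ} (hm : finrank F V = 2 * m) {A : AddSubgroup V}
  (hK : MaxTS Q m (Submodule.span F (A : Set V)))
include hn hm hK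

theorem exists_polar_ne {x : V} (hx : x ∉ Submodule.span F (A : Set V)) : ∃ a ∈ A, polar Q x a ≠ 0 := by
  by_contra! hc
  refine hx ?_
  rw [← hK.perp_eq hn hm, mem_perp_span]
  exact fun a ha => by rw [ofQuad_B_apply, polar_comm]; exact hc a ha

theorem mem_sup_of_E {x y a : V} (hx : Q x = 0) (hy : polar Q x y = 0) (ha : a ∈ A) (ha' : polar Q x a ≠ 0)
    (h : (E Q x y).1.1 a ∈ Submodule.span F (A : Set V)) :
    y ∈ (Submodule.span F (A : Set V) ⊔ F ∙ x) ⊓ pp Q x := by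
  refine ⟨?_, mem_pp.2 hy⟩
  rw [E_apply hx hy] at h
  have h1 := Submodule.sub_mem _ (Submodule.add_mem _ (Submodule.mem_sup_left (Submodule.subset_span ha))
    (Submodule.mem_sup_right (Submodule.smul_mem _ (polar Q y a - Q y * polar Q x a)
      (Submodule.mem_span_singleton_self x)))) (Submodule.mem_sup_left h)
  rw [sub_sub_cancel] at h1
  exact (Submodule.smul_mem_iff _ ha').1 h1

theorem finrank_sup_inf {x : V} (hx : x ∉ Submodule.span F (A : Set V)) :
    finrank F ↥((Submodule.span F (A : Set V) ⊔ F ∙ x) ⊓ pp Q x) = m := by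
  obtain ⟨a, ha, ha'⟩ := exists_polar_ne hn hm hK hx
  have h1 := finrank_inf_perp_singleton (Φ := ofQuad Q) (U := Submodule.span F (A : Set V) ⊔ F ∙ x)
    (v := x) fun h => ha' (by
      rw [polar_comm]; exact mem_perp_quad.1 h a (Submodule.mem_sup_left (Submodule.subset_span ha)))
  rw [finrank_sup_span hx, hK.1] at h1
  exact Nat.add_right_cancel h1

theorem pow_le_Img {p w x : V} (hx : Q x = 0) (hx' : x ∉ Submodule.span F (A : Set V)) :
    Nat.card F ^ (m - 3) ≤ (Img Q p w x A).ncard := by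
  have h1 := card_Img (Q := Q) p w x A
  obtain ⟨a, ha, ha'⟩ := exists_polar_ne hn hm hK hx'
  have h2 : Nat.card (ImgS Q p w x A) ≤ Nat.card F ^ m := by
    rw [← finrank_sup_inf hn hm hK hx', ← Module.natCard_eq_pow_finrank]
    refine Nat.card_le_card_of_injective (fun y => ⟨y.1.1, mem_sup_of_E hn hm hK hx (mem_pf3.1 y.1.2).1
      ha ha' (Submodule.subset_span ?_)⟩) fun y z e => Subtype.ext (Subtype.ext (congrArg Subtype.val e :))
    have : (E Q x y.1).1.1 • A = A := y.2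
    exact this.le (mem_smul_iff.2 ha)
  have h3 := finrank_pf_top (Q := Q) ![x, p, w]
  have h0 : 0 < (Img Q p w x A).ncard := (Set.ncard_pos).2 ⟨_, 0, rfl⟩
  rcases le_or_gt m 3 with h | h
  · rw [Nat.sub_eq_zero_of_le h, pow_zero]; exact h0
  refine Nat.le_of_mul_le_mul_left (c := Nat.card F ^ m) ?_ (pow_pos Nat.card_pos _)
  rw [← pow_add]
  refine le_trans (Nat.pow_le_pow_right Nat.card_pos (show _ ≤ finrank F (pf (ofQuad Q) ![x, p, w]) by omega)) ?_
  rw [← Module.natCard_eq_pow_finrank, h1]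
  exact Nat.mul_le_mul_right _ h2

theorem cnt_plus (h4 : 4 ≤ m) {p w : V} (hp : p ∈ A) (hw : w ∈ A) :
    Nat.card F ^ (m - 3) + 1 ≤ cnt Q p A w := by
  set K := Submodule.span F (A : Set V) with hKd
  have hKK : ∀ a ∈ K, ∀ b ∈ K, polar Q a b = 0 := hK.totSing.1
  have hpK : p ∈ K := Submodule.subset_span hp
  have hwK : w ∈ K := Submodule.subset_span hw
  have d1 := finrank_pf_top (Q := Q) ![p, w]
  obtain ⟨v, hv, hv0⟩ := exists_notMem_of_lt (U := pf (ofQuad Q) ![p, w]) (R := K) (by rw [hK.1]; omega)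
  obtain ⟨v1, v2⟩ := mem_pf2.1 hv
  obtain ⟨k, hk, hk'⟩ := exists_polar_ne hn hm hK hv0
  have hkK : k ∈ K := Submodule.subset_span hk
  obtain ⟨c, hc⟩ := exists_adjust (Φ := ofQuad Q) (hK.totSing.sing hkK) (x := v)
    (by rwa [ofQuad_B_apply, polar_comm])
  set x := v + c • k with hx
  have hx0 : x ∉ K := fun h => hv0 (by simpa [hx] using K.sub_mem h (K.smul_mem c hkK))
  have x1 : polar Q p x = 0 := by simp [hx, v1, hKK p hpK k hkK]
  have x2 : polar Q w x = 0 := by simp [hx, v2, hKK w hwK k hkK]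
  have d2 := finrank_pf_top (Q := Q) ![x, p, w]
  obtain ⟨y, hy, hy0⟩ := exists_notMem_of_lt (U := pf (ofQuad Q) ![x, p, w]) (R := (K ⊔ F ∙ x) ⊓ pp Q x)
    (by rw [finrank_sup_inf hn hm hK hx0]; omega)
  obtain ⟨a, ha, ha'⟩ := exists_polar_ne hn hm hK hx0
  have haK : a ∈ K := Submodule.subset_span ha
  obtain ⟨y1, y2, y3⟩ := mem_pf3.1 hy
  have hz0 : (E Q x y).1.1 a ∉ K := fun h => hy0 (mem_sup_of_E hn hm hK hc.1 y1 ha ha' h)
  have f1 := E_apply_fix hc.1 y1 (x := p) (by rwa [polar_comm]) (by rwa [polar_comm])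
  have f2 := E_apply_fix hc.1 y1 (x := w) (by rwa [polar_comm]) (by rwa [polar_comm])
  have hA'' := Img_sub hc.1 (by rwa [polar_comm]) (by rwa [polar_comm]) hw ⟨⟨y, hy⟩, rfl⟩
  set z := (E Q x y).1.1 a with hz
  have z0 : Q z = 0 := (OG.map_Q _ _).trans (hK.totSing.2 a haK)
  have z1 : polar Q z p = 0 := by rw [← f1, hz, OG.map_polar, hKK a haK p hpK]
  have z2 : polar Q z w = 0 := by rw [← f2, hz, OG.map_polar, hKK a haK w hwK]
  have h1 := pow_le_Img hn hm hK (p := p) (w := w) z0 hz0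
  have h2 : (E Q x y).1.1 • A ∉ Img Q p w z A := by
    rintro ⟨⟨u, hu⟩, e⟩
    have e : (E Q z u).1.1 • A = (E Q x y).1.1 • A := e
    refine hz0 (mem_span_smul (φ := (E Q z u).1.1) ?_)
    rw [e, show (E Q z u).1.1 z = z from eich_apply_self z0 (mem_pf3.1 hu).1]
    exact Submodule.subset_span (mem_smul_iff.2 ha)
  have h3 := Set.ncard_le_ncard (Set.insert_subset hA'' (Img_sub z0 z1 z2 hw))
  rw [Set.ncard_insert_of_notMem h2] at h3
  exact le_trans (Nat.add_le_add_right h1 1) h3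

end

theorem maxTS_of_large (hn : (ofQuad Q).Nondeg) {A : AddSubgroup V} (h : ∀ a ∈ A, Q a = 0)
    (hl : finrank F V ≤ 2 * finrank F (Submodule.span F (A : Set V))) :
    finrank F V = 2 * finrank F (Submodule.span F (A : Set V)) ∧
      MaxTS Q (finrank F (Submodule.span F (A : Set V))) (Submodule.span F (A : Set V)) :=
  ⟨le_antisymm hl (hn.two_mul_finrank_le fun y hy => mem_perp_quad.2 fun x hx => (totSing_span h).1 x hx y hy),
    rfl, (totSing_span h).2⟩

theorem cnt_plus' (hn : (ofQuad Q).Nondeg) {m : ℕ} (hm : finrank F V = 2 * m) (h4 : 4 ≤ m) {p : V}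
    (hp0 : p ≠ 0) (hp : Q p = 0) {ω : Ω} (hK : MaxTS Q m (Submodule.span F (Wd Q p ω : Set V))) :
    ∀ w ∈ T1 Q p, Nat.card F ^ (m - 3) + 1 ≤ cnt Q p (Wd Q p ω) w := by
  obtain ⟨u, hu, hu0⟩ : ∃ u ∈ Wd Q p ω, u ∉ F ∙ p := by
    by_contra! hc
    have := Submodule.finrank_mono (Submodule.span_le.2 (show (Wd Q p ω : Set V) ⊆ (F ∙ p) from hc))
    rw [hK.1, finrank_span_singleton hp0] at this
    omega
  intro w hw
  rw [cnt_T1 hn (by omega) hp0 hp ⟨perp_of_mem_Wd hp hu, hK.totSing.2 u (Submodule.subset_span hu), hu0⟩ hw]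
  exact cnt_plus hn hm hK h4 (by have := smul_mem_Wd (Q := Q) p ω 1; rwa [one_smul] at this) hu

theorem ncard_le_card (S : Set Ω) : S.ncard ≤ Nat.card Ω := by
  simpa using ncard_add_le (S := S) (T := ∅) (by simp)

theorem plus_bound (hn : (ofQuad Q).Nondeg) {m : ℕ} (hm : finrank F V = 2 * m) (h4 : 4 ≤ m) {p : V}
    (hp0 : p ≠ 0) (hp : Q p = 0) {ω : Ω} (hK : MaxTS Q m (Submodule.span F (Wd Q p ω : Set V))) :
    Nat.card F ^ (m - 1) * ((T1 Q p).ncard * (Nat.card F ^ (m - 3) + 1)) ≤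
      (Nat.card F ^ (m - 1) - 1) * (Nat.card F * (Fib Q Ω p (Wd Q p ω)).ncard) := by
  have h0 : Nat.card F + Nat.card F * (Nat.card F ^ (m - 1) - 1) = Nat.card F * Nat.card F ^ (m - 1) := by
    rw [← mul_one_add, Nat.add_sub_cancel' (Nat.one_le_pow _ _ Nat.card_pos)]
  have := fib_bound2 hn hp0 hp ω _ _ (fun _ h => h.2.2) (cnt_plus' hn hm h4 hp0 hp hK)
    (B := Nat.card F * (Nat.card F ^ (m - 1) - 1)) (by
      rw [h0, ← pow_succ', Nat.sub_add_cancel (by omega)]
      exact card_le_of_le (fun a ha => Submodule.subset_span ha) hK.1.le)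
  rw [h0, mul_assoc, mul_assoc] at this
  exact Nat.le_of_mul_le_mul_left this Nat.card_pos

theorem Wd_smul_eq {p : V} (hp : Q p = 0) {ω : Ω} {g : eichGroup Q} {c : F} (hc : c ≠ 0)
    (h1 : g.1.1 p = c • p) (h2 : ∀ w ∈ Wd Q p ω, c⁻¹ • g.1.1 w ∈ Wd Q p ω) : Wd Q p (g • ω) = Wd Q p ω := by
  have e := Wd_smul hp (φ := g.1.1.trans (LinearEquiv.smulOfNeZero F V c⁻¹ (inv_ne_zero hc))) hc h1
    (fun w => by simp [hc]) ω
  refine AddSubgroup.eq_of_le_of_card_ge (fun w hw => ?_) (by rw [e, card_smul])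
  rw [e] at hw
  obtain ⟨w, rfl⟩ := (g.1.1.trans (LinearEquiv.smulOfNeZero F V c⁻¹ (inv_ne_zero hc))).surjective w
  exact h2 w (mem_smul_iff.1 hw)

theorem exists_small (hn : (ofQuad Q).Nondeg) (h5 : 5 ≤ finrank F V) (h4 : 4 ≤ Nat.card F) {p u : V}
    (hp : Q p = 0) {ω : Ω} {K : Submodule F V} (hK : (ofQuad Q).TotSing K)
    (hA : Wd Q p ω = K.toAddSubgroup) (hu : u ∈ K) (hu0 : u ∉ F ∙ p) (hp0 : p ≠ 0)
    (hone : ∀ ω', Wd Q p ω' = Wd Q p ω → ω' ∈ orb Q p ω) :
    ∃ ω₁ : Ω, ∀ w ∈ Wd Q u ω₁, w ∈ Submodule.span F {p, u} := by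
  have hmem : ∀ w, w ∈ Wd Q p ω ↔ w ∈ K := fun w => by rw [hA]; rfl
  have hpK : p ∈ K := by have := smul_mem_Wd (Q := Q) p ω 1; rwa [one_smul, hmem] at this
  have hKK : ∀ a ∈ K, ∀ b ∈ K, polar Q a b = 0 := hK.1
  have hQu : Q u = 0 := hK.2 u hu
  obtain ⟨r, hr, h1, h2, h3⟩ := hn.exists_hyperbolic_partner (H := F ∙ u) (p := p) (fun h => by
    obtain ⟨c, rfl⟩ := Submodule.mem_span_singleton.1 h
    have hc : c ≠ 0 := by rintro rfl; simp at hp0
    exact hu0 (Submodule.mem_span_singleton.2 ⟨c⁻¹, inv_smul_smul₀ hc u⟩))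
    (mem_pp.2 (hKK u hu p hpK)) hp (polar_self_of_sing hp)
  have hpr : (ofQuad Q).IsPair p r := ⟨sing_ofQuad.2 hp, ⟨h1, h2⟩, h3⟩
  have hru : polar Q r u = 0 := by rw [polar_comm]; exact mem_pp.1 hr
  obtain ⟨h, c, hc1, hc0, t1, t2, t3, t4⟩ := exists_torus hn h5 h4 hpr
  have hS : ∀ a, (∀ k ∈ K, polar Q k a = 0) → a ∈ Stb Q p ω := fun a ha =>
    mem_Stb_of_perp hn fun w hw => ha w ((hmem w).1 hw)
  obtain ⟨ω₁, hω₁, hfix⟩ := torus_lemma hc1 t2 (ω := ω) (fun t a ha => hS _ fun k hk => by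
      rw [← ann_ann hn (Stb Q p ω)] at ha
      rw [polar_smul_right, polar_comm, perp_of_mem_ann (S := K.toAddSubgroup) (w := a) (a := k)
        (hA ▸ ha) (fun c => K.smul_mem c hk) |> (polar_comm Q a k).trans, smul_zero])
    (hone _ (Wd_smul_eq hp hc0 t1 fun w hw => (hmem _).2 (K.smul_mem _ (by
      have hw := (hmem w).1 hw
      have := K.add_mem (((Submodule.span_singleton_le_iff_mem _ _).2 hpK) (t3 w (hKK p hpK w hw))) hw
      rwa [sub_add_cancel] at this))))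
  refine ⟨ω₁, fun w hw => ?_⟩
  have hW := Wd_of_mem_orb hω₁
  have hSt := Stb_of_mem_orb hω₁
  have key : ∀ v, polar Q p v = 0 → polar Q u v = 0 → v ∈ Stb Q u ω₁ := fun v v1 v2 => by
    have up := hKK u hu p hpK
    have e1 : polar Q r v • p ∈ Stb Q u ω₁ := ⟨by simp [up], by
      rw [E_swap (by rw [quad_smul, hp, mul_zero]) hQu (by simp [hKK p hpK u hu]),
        E_smul_left hp (by simp [hKK p hpK u hu])]
      refine (show _ ∈ Stb Q p ω₁ from hSt ▸ hS _ fun k hk => ?_).2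
      simp [hKK k hk u hu]⟩
    have v3 : polar Q u (v - polar Q r v • p) = 0 := by simp [v2, up]
    have v4 : polar Q p (v - polar Q r v • p) = 0 := by simp [v1, polar_self_of_sing hp]
    have e2 : v - polar Q r v • p ∈ Stb Q u ω₁ := ⟨v3, hfix _
      (E_comm_of_fix (t4 u (hKK p hpK u hu) hru) (t4 _ v4 (by simp [hpr.polar_eq']))) (hone _ (by
        rw [← hW]
        refine Wd_smul_eq hp one_ne_zero (by
          rw [one_smul]; exact E_apply_fix hQu v3 up (by rwa [polar_comm])) fun w hw => ?_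
        rw [hW, hmem] at hw ⊢
        rw [inv_one, one_smul, E_apply_perp hQu v3 (hKK u hu w hw)]
        exact K.add_mem hw (K.smul_mem _ hu)))⟩
    simpa using (Stb Q u ω₁).add_mem e2 e1
  rw [← hn.perp_perp (Submodule.span F {p, u}), mem_perp_quad]
  intro v hv
  rw [mem_perp_span] at hv
  have v1 : polar Q p v = 0 := hv p (by simp)
  have v2 : polar Q u v = 0 := hv u (by simp)
  exact perp_of_mem_ann hw fun c => key _ (by simp [v1]) (by simp [v2])

theorem plus_eight [MulAction.IsPretransitive (eichGroup Q) Ω] (hn : (ofQuad Q).Nondeg)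
    (hm : finrank F V = 2 * 4) (h4 : 4 ≤ Nat.card F) {p : V} (hp0 : p ≠ 0) (hp : Q p = 0) {ω : Ω}
    (hK : MaxTS Q 4 (Submodule.span F (Wd Q p ω : Set V))) {s J : ℕ} (hs : s + 1 = Nat.card F ^ 3)
    (hJ : J = (Nat.card F + 1) * (Nat.card F ^ 2 + 1))
    (hP : J * (s + 2) * (Nat.card F - 1) + 1 = (ofQuad Q).nsing)
    (hτ : (T1 Q p).ncard = Nat.card F * (s * (Nat.card F ^ 2 + 1))) : J * (s + 2) ≤ Nat.card Ω := by
  by_contra! hlt
  have hc := cnt_plus' hn hm le_rfl hp0 hp hK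
  have hF := ncard_le_card (Fib Q Ω p (Wd Q p ω))
  have hq0 : 0 < Nat.card F := Nat.card_pos
  have hs4 : 63 ≤ s := by have := Nat.pow_le_pow_left h4 3; omega
  have hJ0 : 0 < J := by rw [hJ]; positivity
  have hτ' : (T1 Q p).ncard * (Nat.card F ^ (4 - 3) + 1) = Nat.card F * (J * s) := by
    rw [hτ, hJ]; ring
  have hcard : Nat.card (Submodule.span F (Wd Q p ω : Set V)).toAddSubgroup = Nat.card F * (s + 1) := by
    rw [hs, ← pow_succ', show 3 + 1 = 4 from rfl, ← hK.1]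
    exact Module.natCard_eq_pow_finrank (K := F) (V := Submodule.span F (Wd Q p ω : Set V))
  have hle : Wd Q p ω ≤ (Submodule.span F (Wd Q p ω : Set V)).toAddSubgroup :=
    fun a ha => Submodule.subset_span ha
  by_cases hA : Wd Q p ω = (Submodule.span F (Wd Q p ω : Set V)).toAddSubgroup
  swap
  · obtain ⟨b, hb⟩ := Nat.exists_eq_add_of_le (q_le_card (Q := Q) hp0 ω)
    have h1 := fib_bound2 hn hp0 hp ω _ _ (fun _ h => h.2.2) hc hb.le
    obtain ⟨k, hk⟩ := AddSubgroup.card_dvd_of_le hle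
    have hk2 : 2 ≤ k := by
      by_contra! h
      interval_cases k
      · rw [hcard] at hk; simp at hk; omega
      · exact hA (AddSubgroup.eq_of_le_of_card_ge hle (by omega))
    rw [hcard, hb] at hk
    have h2 : (Nat.card F + b) * 2 ≤ Nat.card F * (s + 1) := hk ▸ Nat.mul_le_mul_left _ hk2
    rw [hτ'] at h1
    have h3 : (Nat.card F + b) * (Nat.card F * (J * s)) ≤ b * (Nat.card F * (J * (s + 2))) :=
      h1.trans (Nat.mul_le_mul_left _ (Nat.mul_le_mul_left _ (by omega)))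
    have h5 : (Nat.card F * J) * ((Nat.card F + b) * s) ≤ (Nat.card F * J) * (b * (s + 2)) := by
      nlinarith
    have := Nat.le_of_mul_le_mul_left h5 (by positivity)
    nlinarith
  by_cases hone : ∀ ω', Wd Q p ω' = Wd Q p ω → ω' ∈ orb Q p ω
  swap
  · push Not at hone
    obtain ⟨ω', e, h'⟩ := hone
    have h1 := fib_bound3 hn hp0 hp _ _ (fun _ h => h.2.2) hc e h'
    rw [hτ', mul_left_comm] at h1
    have := Nat.le_of_mul_le_mul_left h1 hq0
    nlinarith
  have hb := plus_bound hn hm le_rfl hp0 hp hK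
  rw [hτ', show 4 - 1 = 3 from rfl, ← hs, Nat.add_sub_cancel] at hb
  have hb' : J * (s + 1) ≤ (Fib Q Ω p (Wd Q p ω)).ncard :=
    Nat.le_of_mul_le_mul_left (c := s * Nat.card F) (by nlinarith) (by positivity)
  have hcardA : Nat.card (Wd Q p ω) = Nat.card F * (s + 1) := by rw [hA, hcard]
  have hdis : ∀ ω' : Ω, Nat.card (Wd Q p ω') ≤ Nat.card F ^ 2 → ω' ∉ Fib Q Ω p (Wd Q p ω) :=
    fun ω' h h' => by
      rw [card_of_mem_Orb h', hcardA, hs] at h
      have : Nat.card F ^ 2 * 1 < Nat.card F ^ 2 * Nat.card F ^ 2 :=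
        Nat.mul_lt_mul_of_pos_left (by nlinarith) (by positivity)
      nlinarith
  obtain ⟨u, hu, hu0⟩ := exists_notMem_of_lt (U := Submodule.span F (Wd Q p ω : Set V)) (R := F ∙ p)
    (by rw [hK.1, finrank_span_singleton hp0]; omega)
  obtain ⟨ω₁, hω₁⟩ := exists_small hn (by omega) h4 hp hK.totSing hA hu hu0 hp0 hone
  have hQu : Q u = 0 := hK.totSing.2 u hu
  obtain ⟨g, hg⟩ := witt1 hn (by omega) (u := u) (v := p)
    (by rintro rfl; exact hu0 (Submodule.zero_mem _)) hp0 (hp.trans hQu.symm)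
  by_cases hf : Ful Q u ω₁
  · have hf' : Ful Q p (g • ω₁) := hg ▸ hf.map g
    have h1 := dc hn (by omega) (Ful Q) (fun g p ω h => h.map g) (fun c p ω hc hp h => h.smul hp hc)
      hP hp0 hp ω
    have h2 := ncard_add_le (S := {ω' | Ful Q p ω'}) (T := Fib Q Ω p (Wd Q p ω))
      (Set.disjoint_left.2 fun x h => hdis x (card_le_of_le h (by rw [finrank_span_singleton hp0]; omega)))
    have h3 : 0 < {ω' : Ω | Ful Q p ω'}.ncard := (Set.ncard_pos).2 ⟨_, hf'⟩
    obtain ⟨δ, hδ⟩ := Nat.exists_eq_add_of_lt hlt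
    rw [hδ, add_assoc, add_mul, Nat.dvd_add_right (Dvd.intro _ rfl)] at h1
    have h5 := Nat.le_of_dvd (by positivity) h1
    generalize {ω' : Ω | Ful Q p ω'}.ncard = f at *
    have h6 : δ + 1 + f ≤ J := by nlinarith
    have h7 : 4 * ((δ + 1) * f) ≤ J * J := by
      have := Nat.mul_le_mul h6 h6
      zify at this ⊢
      nlinarith [sq_nonneg ((δ : ℤ) + 1 - f)]
    have h8 : J * (4 * (s + 1)) ≤ J * J := by nlinarith
    have h9 := Nat.le_of_mul_le_mul_left h8 hJ0
    rw [hs, hJ] at h9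
    have : Nat.card F ^ 2 * 4 ≤ Nat.card F ^ 2 * Nat.card F := Nat.mul_le_mul_left _ h4
    nlinarith
  · rw [Ful] at hf
    push Not at hf
    obtain ⟨w, hw, hw0⟩ := hf
    have hmap : ∀ w, g.1.1 w ∈ Wd Q p (g • ω₁) ↔ w ∈ Wd Q u ω₁ := fun w => hg ▸ map_mem_Wd g
    have hsub : Submodule.span F {p, u} ≤ Submodule.span F (Wd Q p ω : Set V) :=
      Submodule.span_le.2 (Set.pair_subset (p_mem_span p ω) hu)
    have hw1 : g.1.1 w ∈ T1 Q p := ⟨perp_of_mem_Wd hp ((hmap w).2 hw),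
      (OG.map_Q _ _).trans (hK.totSing.2 w (hsub (hω₁ w hw))), fun h => by
        obtain ⟨c, hc⟩ := Submodule.mem_span_singleton.1 h
        rw [← hg, ← map_smul] at hc
        exact hw0 (Submodule.mem_span_singleton.2 ⟨c, g.1.1.injective hc⟩)⟩
    have h1 := fib_bound hn hp0 hp (g • ω₁) (T1 Q p) 1 (fun _ h => h.2.2) fun w' h' => by
      rw [cnt_T1 hn (by omega) hp0 hp hw1 h']; exact one_le_cnt ((hmap w).2 hw)
    have h2 : Nat.card (Wd Q p (g • ω₁)) ≤ Nat.card F ^ 2 :=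
      card_le_of_le (U := Submodule.span F {g.1.1 p, g.1.1 u}) (fun a ha => by
        obtain ⟨a, rfl⟩ := g.1.1.surjective a
        obtain ⟨c, d, rfl⟩ := Submodule.mem_span_pair.1 (hω₁ a ((hmap a).1 ha))
        exact Submodule.mem_span_pair.2 ⟨c, d, by simp⟩) (finrank_span_pair _ _)
    have h3 := ncard_add_le (S := Fib Q Ω p (Wd Q p (g • ω₁))) (T := Fib Q Ω p (Wd Q p ω))
      (Set.disjoint_left.2 fun x h => hdis x (by rwa [card_of_mem_Orb h]))
    rw [hτ, mul_one] at h1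
    have h5 := Nat.le_of_mul_le_mul_left ((Nat.le_add_right _ _).trans h1) hq0
    have h6 : Nat.card F + 1 ≤ s := by
      have : Nat.card F * 4 ^ 2 ≤ Nat.card F * Nat.card F ^ 2 :=
        Nat.mul_le_mul_left _ (Nat.pow_le_pow_left h4 2)
      rw [← pow_succ', ← hs] at this
      omega
    have h7 : J ≤ s * (Nat.card F ^ 2 + 1) := hJ ▸ Nat.mul_le_mul_right _ h6
    rw [show J * (s + 2) = J * (s + 1) + J by ring] at hlt
    omega

end Cfsg.Agent.MinD
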