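import Cfsg.Agent.MinD.Hs

/-! Minimal degrees of orthogonal groups, part 4: the unipotent radical of a point stabiliser does
not act regularly. -/

set_option autoImplicit false
set_option linter.unusedSectionVars false

namespace Cfsg.Agent.MinD

open Cfsg.Agent.Geom Cfsg.Agent.Geom.Formed Cfsg.Agent.Root.Mx QuadraticMap Module
open scoped Pointwise

variable {F : Type*} [Field F] {V : Type*} [AddCommGroup V] [Module F V] {Q : QuadraticForm F V}
  [Finite F] [FiniteDimensional F V] [Finite V] {Ω : Type*} [MulAction (eichGroup Q) Ω]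

theorem torus_lemma {p : V} {h : eichGroup Q} {c : F} (hc : c ≠ 1)
    (hh : ∀ a, polar Q p a = 0 → E Q (h.1.1 p) (h.1.1 a) = E Q p (c • a)) {ω : Ω}
    (hS : ∀ t : F, ∀ a ∈ Stb Q p ω, t • a ∈ Stb Q p ω) (hX : h • ω ∈ orb Q p ω) :
    ∃ ω₁ ∈ orb Q p ω, ∀ g : eichGroup Q, g * h = h * g → g • ω₁ ∈ orb Q p ω → g • ω₁ = ω₁ := by
  obtain ⟨γ, hγ, e⟩ := mem_orb.1 hX
  have hc' : 1 - c ≠ 0 := sub_ne_zero.2 hc.symm
  have ha : polar Q p ((1 - c)⁻¹ • γ) = 0 := by simp [hγ]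
  have hm : E Q p ((1 - c)⁻¹ • γ) • ω ∈ orb Q p ω := mem_orb.2 ⟨_, ha, rfl⟩
  have h1 : h • E Q p ((1 - c)⁻¹ • γ) • ω = E Q p ((1 - c)⁻¹ • γ) • ω := by
    rw [smul_E, hh _ ha, ← e, smul_smul, ← E_add (by simp [hγ]) hγ]
    congr 2
    match_scalars
    field_simp
    ring
  refine ⟨_, hm, fun g hg hg' => ?_⟩
  have hS' := Stb_of_mem_orb hm
  generalize E Q p ((1 - c)⁻¹ • γ) • ω = ω₁ at *
  obtain ⟨b, hb, e'⟩ := mem_orb.1 (orb_trans (orb_symm hm) hg')
  have h2 : h • g • ω₁ = g • ω₁ := by rw [smul_smul, ← hg, mul_smul, h1]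
  rw [← e', smul_E, hh _ hb, h1, eq_comm, E_smul_eq_iff hb (by simp [hb]), hS'] at h2
  have h3 := hS (1 - c)⁻¹ _ h2
  rw [← hS', show (1 - c)⁻¹ • (b - c • b) = b by match_scalars; field_simp] at h3
  rw [← e', h3.2]

theorem exists_torus (hn : (ofQuad Q).Nondeg) (h5 : 5 ≤ finrank F V) (h4 : 4 ≤ Nat.card F) {p r : V}
    (hpr : (ofQuad Q).IsPair p r) : ∃ (h : eichGroup Q) (c : F), c ≠ 1 ∧ c ≠ 0 ∧ h.1.1 p = c • p ∧
      (∀ a, polar Q p a = 0 → E Q (h.1.1 p) (h.1.1 a) = E Q p (c • a)) ∧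
      (∀ a, polar Q p a = 0 → h.1.1 a - a ∈ F ∙ p) ∧
      ∀ a, polar Q p a = 0 → polar Q r a = 0 → h.1.1 a = a := by
  obtain ⟨d, hd0, hd⟩ : ∃ d : F, d ≠ 0 ∧ d ^ 2 ≠ 1 := by
    classical
    have := Fintype.ofFinite F
    by_contra! hc
    have : (Finset.univ : Finset F) ⊆ {0, 1, -1} := fun x _ => by
      rcases eq_or_ne x 0 with h | h
      · simp [h]
      · rcases sq_eq_one_iff.1 (hc x h) with h | h <;> simp [h]
    have h1 := (Finset.card_le_card this).trans Finset.card_le_three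
    rw [Finset.card_univ, ← Nat.card_eq_fintype_card] at h1
    omega
  have key : ∀ a, polar Q p a = 0 → (hpr.torus (Units.mk0 (d ^ 2) (pow_ne_zero _ hd0))).1 a =
      a + ((d ^ 2 - 1) * polar Q r a) • p := fun a ha => by
    rw [hpr.torus_apply]; simp [ofQuad_B_apply, ha, ofQuad]
  refine ⟨⟨hpr.torus (Units.mk0 (d ^ 2) (pow_ne_zero _ hd0)), (mem_G_iff hn h5 _).2
    ⟨dick_torus hn hpr _, by rw [spin_torus hn hpr, sqSign_eq_one_iff]; exact ⟨d, sq d⟩⟩⟩, d ^ 2, hd,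
    pow_ne_zero _ hd0, hpr.torus_left _, fun a ha => ?_, fun a ha => ?_, fun a ha ha' => ?_⟩
  · show E Q ((hpr.torus _).1 p) ((hpr.torus _).1 a) = _
    rw [hpr.torus_left, key a ha, E_smul_left hpr.Q_left (by simp [ha, polar_self_of_sing hpr.Q_left]),
      smul_add, smul_smul]
    exact Subtype.ext (eich_add_smul hpr.Q_left (by simp [ha]) _)
  · show (hpr.torus _).1 a - a ∈ _
    rw [key a ha, add_sub_cancel_left]
    exact Submodule.smul_mem _ _ (Submodule.mem_span_singleton_self _)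
  · show (hpr.torus _).1 a = a
    rw [key a ha, ha', mul_zero, zero_smul, add_zero]

theorem E_comm_of_fix {h : eichGroup Q} {u v : V} (hu : h.1.1 u = u) (hv : h.1.1 v = v) :
    E Q u v * h = h * E Q u v := by
  have := conj_E h u v
  rw [hu, hv, mul_inv_eq_iff_eq_mul] at this
  exact this.symm

variable (Q Ω) in
/-- Every radical acts regularly. -/
def RegAll : Prop := ∀ p, p ≠ 0 → Q p = 0 → ∀ ω : Ω, Reg Q p ω ∧ ∀ ω', ω' ∈ orb Q p ω

theorem regAll_of (hn : (ofQuad Q).Nondeg) (h5 : 5 ≤ finrank F V) {p : V} (hp0 : p ≠ 0) (hp : Q p = 0)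
    (h : ∀ ω : Ω, Reg Q p ω) {ω : Ω} (h' : ∀ ω', ω' ∈ orb Q p ω) : RegAll Q Ω := fun x hx0 hx =>
  transfer hn h5 (I := fun p ω => Reg Q p ω ∧ ∀ ω', ω' ∈ orb Q p ω) (fun g p ω h => ⟨h.1.map g, fun ω' => by
    obtain ⟨a, ha, e⟩ := mem_orb.1 (h.2 (g⁻¹ • ω'))
    exact mem_orb.2 ⟨g.1.1 a, by rwa [OG.map_polar], by rw [← smul_E, e, smul_inv_smul]⟩⟩) hp0 hp
    (fun ω₁ => ⟨h ω₁, fun ω' => orb_trans (orb_symm (h' ω₁)) (h' ω')⟩) hx0 hx

theorem not_regAll_four (hn : (ofQuad Q).Nondeg) (h5 : 5 ≤ finrank F V) (h4 : 4 ≤ Nat.card F) (ω : Ω) :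
    ¬ RegAll Q Ω := fun H => by
  obtain ⟨p, -, r, -, hpr⟩ := exists_pair hn (nondeg_top hn) (by rw [finrank_top]; omega)
  obtain ⟨h, c, hc, -, -, h1, -, h2⟩ := exists_torus hn h5 h4 hpr
  have hd := hpr.finrank_pairPerp hn
  obtain ⟨u, hu, s, -, hus⟩ := exists_pair hn (hpr.nondeg_pairPerp hn) (by omega)
  have := finrank_pf_top (Q := Q) ![p, r, u]
  obtain ⟨v, hv, hv0⟩ := exists_notMem_of_lt (U := pf (ofQuad Q) ![p, r, u]) (R := F ∙ u)
    (by rw [finrank_span_singleton hus.left_ne_zero]; omega)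
  obtain ⟨v1, v2, v3⟩ := mem_pf3.1 hv
  obtain ⟨u1, u2⟩ := mem_pairPerp_quad.1 hu
  have H1 := H p hpr.left_ne_zero hpr.Q_left ω
  obtain ⟨ω₁, -, h3⟩ := torus_lemma hc h1 (ω := ω) (fun t a ha => by
    obtain ⟨c, rfl⟩ := Submodule.mem_span_singleton.1 (H1.1.mem hn ha)
    rw [smul_smul]; exact smul_mem_Stb hpr.Q_left _ _) (H1.2 _)
  exact hv0 ((H u hus.left_ne_zero hus.Q_left ω₁).1.mem hn
    ⟨v3, h3 _ (E_comm_of_fix (h2 u u1 u2) (h2 v v1 v2)) (H1.2 _)⟩)

variable (Q) in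
/-- Fixed points of `k` on `y^⊥ / y`. -/
def Zs (k : OG Q) (y : V) : Submodule F V :=
  pp Q y ⊓ (F ∙ y).comap ((k.1 : V →ₗ[F] V) - LinearMap.id)

theorem mem_Zs {k : OG Q} {y a : V} : a ∈ Zs Q k y ↔ polar Q y a = 0 ∧ k.1 a - a ∈ F ∙ y := by
  simp [Zs, mem_pp]

theorem card_fix (hn : (ofQuad Q).Nondeg) (H : RegAll Q Ω) {g : eichGroup Q} {ω : Ω} (hg : g • ω = ω)
    {k : OG Q} {y : V} (hy0 : y ≠ 0) (hy : Q y = 0) (hk : k.1 y = y)
    (h : ∀ a, polar Q y a = 0 → E Q (g.1.1 y) (g.1.1 a) = E Q y (k.1 a)) :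
    Nat.card F ^ finrank F (Zs Q k y) = Nat.card F * {ω' : Ω | g • ω' = ω'}.ncard := by
  obtain ⟨H1, H2⟩ := H y hy0 hy ω
  have hS : ∀ a, a ∈ Stb Q y ω ↔ a ∈ F ∙ y := fun a => ⟨H1.mem hn, fun h => by
    obtain ⟨c, rfl⟩ := Submodule.mem_span_singleton.1 h
    exact smul_mem_Stb hy _ _⟩
  have h1 := card_eq_mul_range (fun a : Zs Q k y => E Q y a • ω)
    ((F ∙ y).toAddSubgroup.comap (Zs Q k y).subtype.toAddMonoidHom)
    (fun a b => (E_smul_eq_iff (mem_Zs.1 a.2).1 (mem_Zs.1 b.2).1 ω).trans (hS _))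
  have hk' : ∀ a, polar Q y a = 0 → polar Q y (k.1 a) = 0 := fun a ha => by
    rw [← hk, OG.map_polar, ha]
  rw [← Module.natCard_eq_pow_finrank, h1]
  congr 1
  · rw [Nat.card_congr (LinearEquiv.toSpanNonzeroSingleton F V y hy0).toEquiv]
    refine Nat.card_congr ⟨fun x => ⟨x.1.1, x.2⟩, fun x => ⟨⟨x.1, ?_⟩, x.2⟩, fun _ => rfl, fun _ => rfl⟩
    obtain ⟨c, hc⟩ := Submodule.mem_span_singleton.1 x.2
    rw [← hc, mem_Zs, map_smul, hk, sub_self]
    exact ⟨by simp [polar_self_of_sing hy], Submodule.zero_mem _⟩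
  · congr 1
    ext ω'
    constructor
    · rintro ⟨⟨a, ha⟩, rfl⟩
      obtain ⟨h2, h3⟩ := mem_Zs.1 ha
      show g • E Q y a • ω = E Q y a • ω
      rw [smul_E, h a h2, hg, E_smul_eq_iff (hk' a h2) h2, hS]
      exact h3
    · intro h2
      obtain ⟨a, ha, rfl⟩ := mem_orb.1 (H2 ω')
      have h2 : g • E Q y a • ω = E Q y a • ω := h2
      rw [smul_E, h a ha, hg, E_smul_eq_iff (hk' a ha) ha, hS] at h2
      exact ⟨⟨a, mem_Zs.2 ⟨ha, h2⟩⟩, rfl⟩

theorem finrank_Zs_of_notMem (hn : (ofQuad Q).Nondeg) {k : OG Q} {y : V} (hy : y ∉ mov k.1) :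
    finrank F (Zs Q k y) + 1 = finrank F (fixS k.1) := by
  rw [← finrank_inf_perp_singleton (Φ := ofQuad Q) (U := fixS k.1) (v := y)
    (by rwa [perp_fixS hn k.2])]
  suffices h : Zs Q k y = fixS k.1 ⊓ pp Q y by rw [h]
  ext a
  rw [mem_Zs, Submodule.mem_inf, mem_fixS, mem_pp, and_comm]
  refine and_congr_left fun _ => ⟨fun h => ?_, fun h => by simp [h]⟩
  obtain ⟨c, hc⟩ := Submodule.mem_span_singleton.1 h
  by_contra hne
  have hc0 : c ≠ 0 := by rintro rfl; rw [zero_smul, eq_comm, sub_eq_zero] at hc; exact hne hc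
  refine hy ?_
  rw [← inv_smul_smul₀ hc0 y, hc, ← neg_sub]
  exact Submodule.smul_mem _ _ (Submodule.neg_mem _ (sub_mem_mov _ _))

theorem fixS_le_Zs (hn : (ofQuad Q).Nondeg) {k : OG Q} {y : V} (hy : y ∈ mov k.1) :
    fixS k.1 ≤ Zs Q k y := fun a ha => by
  rw [mem_Zs, mem_fixS.1 ha, sub_self]
  rw [← perp_mov hn k.2] at ha
  exact ⟨mem_perp_quad.1 ha y hy, Submodule.zero_mem _⟩

theorem mov_fix (hn : (ofQuad Q).Nondeg) (H : RegAll Q Ω) {g : eichGroup Q} {ω : Ω} (hg : g • ω = ω)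
    {y z : V} (hy0 : y ≠ 0) (hy : Q y = 0) (hy1 : g.1.1 y = y) (hy2 : y ∈ mov g.1.1)
    (hz : Q z = 0) (hz1 : g.1.1 z = z) (hz2 : z ∉ mov g.1.1) : False := by
  have hz0 : z ≠ 0 := by rintro rfl; exact hz2 (Submodule.zero_mem _)
  have h1 := card_fix hn H hg hy0 hy hy1 (fun a _ => by rw [hy1])
  have h2 := card_fix hn H hg hz0 hz hz1 (fun a _ => by rw [hz1])
  have h3 := Nat.pow_right_injective (one_lt_q (F := F)) (h1.trans h2.symm)
  have h4 := finrank_Zs_of_notMem hn hz2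
  have h5 := Submodule.finrank_mono (fixS_le_Zs hn hy2)
  omega

theorem invol (hn : (ofQuad Q).Nondeg) (h2 : (2 : F) ≠ 0) (H : RegAll Q Ω) (ω : Ω) {g : eichGroup Q}
    (hg : g * g = 1) {y z : V} (hy0 : y ≠ 0) (hy : Q y = 0) (hy1 : g.1.1 y = y)
    (hz0 : z ≠ 0) (hz : Q z = 0) (hz1 : g.1.1 z = -z) :
    finrank F (mov g.1.1) = finrank F (fixS g.1.1) := by
  have hgg : ∀ v, g.1.1 (g.1.1 v) = v := fun v => by rw [← G_mul_apply, hg]; rfl
  have hy' : ∀ a, polar Q y a = 0 → polar Q y (g.1.1 a) = 0 := fun a ha => by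
    rw [← hy1, OG.map_polar, ha]
  obtain ⟨ω, hω⟩ : ∃ ω : Ω, g • ω = ω := by
    obtain ⟨H1, H2⟩ := H y hy0 hy ω
    obtain ⟨γ, hγ, e⟩ := mem_orb.1 (H2 (g • ω))
    have h3 : g • g • ω = ω := by rw [smul_smul, hg, one_smul]
    rw [← e, smul_E, ← e, hy1, smul_smul, ← E_add (hy' _ hγ) hγ] at h3
    obtain ⟨c, hc⟩ := Submodule.mem_span_singleton.1 (H1.mem hn ⟨by simp [hy' _ hγ, hγ], h3⟩)
    refine ⟨E Q y ((2 : F)⁻¹ • γ) • ω, ?_⟩
    rw [smul_E, ← e, hy1, smul_smul, ← E_add (by simp [hy' _ hγ]) hγ,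
      E_smul_eq_iff (by simp [hy' _ hγ, hγ]) (by simp [hγ])]
    convert smul_mem_Stb hy ω ((2 : F)⁻¹ * c) using 1
    rw [mul_smul, hc, map_smul]
    match_scalars <;> field_simp
    ring
  have hmov : ∀ v, v ∈ mov g.1.1 ↔ g.1.1 v = -v := fun v => ⟨fun h => by
    obtain ⟨x, rfl⟩ := mem_mov.1 h
    rw [map_sub, hgg, neg_sub], fun h => mem_mov.2 ⟨(2 : F)⁻¹ • v, by
      rw [map_smul, h]; match_scalars; field_simp; ring⟩⟩
  have hne : ∀ v : V, v = -v → v = 0 := fun v h => by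
    rw [eq_neg_iff_add_eq_zero, ← two_smul F, smul_eq_zero] at h
    exact h.resolve_left h2
  have h1 := card_fix hn H hω hy0 hy hy1 (fun a _ => by rw [hy1])
  have h3 := card_fix hn H hω (k := negOne Q * g.1) hz0 hz (by simp [OG.mul_apply, hz1])
    (fun a ha => by
      rw [hz1, ← neg_one_smul F z, E_smul_left hz (by
        rw [← neg_neg z, ← hz1, polar_neg_left, OG.map_polar, ha, neg_zero]), neg_one_smul]
      rfl)
  have h4 := Nat.pow_right_injective (one_lt_q (F := F)) (h1.trans h3.symm)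
  have h5 := finrank_Zs_of_notMem hn (k := g.1) (y := y) fun h => hy0 (hne _ (hy1.symm.trans ((hmov y).1 h)))
  have h6 := finrank_Zs_of_notMem hn (k := negOne Q * g.1) (y := z) fun h => by
    obtain ⟨x, hx⟩ := mem_mov.1 h
    refine hz0 (hne _ ?_)
    rw [← hz1, ← hx, OG.mul_apply, negOne_apply, map_sub, map_neg, hgg]
    abel
  have h7 : fixS (negOne Q * g.1).1 = mov g.1.1 := by
    ext v
    rw [mem_fixS, hmov, OG.mul_apply, negOne_apply, neg_eq_iff_eq_neg]
  rw [h7] at h6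
  omega

theorem mov_torus {p r : V} (hpr : (ofQuad Q).IsPair p r) (c : Fˣ) :
    mov (hpr.torus c).1 ≤ Submodule.span F {p, r} := fun v hv => by
  obtain ⟨x, rfl⟩ := mem_mov.1 hv
  rw [hpr.torus_apply, add_assoc, sub_add_cancel_left]
  exact Submodule.neg_mem _ (Submodule.mem_span_pair.2 ⟨_, _, rfl⟩)

theorem torus_sq {p r : V} (hpr : (ofQuad Q).IsPair p r) : hpr.torus (-1) * hpr.torus (-1) = 1 := by
  rw [← hpr.torus_mul, neg_mul_neg, one_mul]
  exact OG.ext fun x => by rw [hpr.torus_apply]; simp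

theorem not_regAll_odd (hn : (ofQuad Q).Nondeg) (h7 : 7 ≤ finrank F V) (h8 : finrank F V ≠ 8)
    (h2 : (2 : F) ≠ 0) (ω : Ω) : ¬ RegAll Q Ω := fun H => by
  have hx : NotExc Q := notExc_of_two_ne_zero h2
  obtain ⟨p, -, r, -, hpr⟩ := exists_pair hn (nondeg_top hn) (by rw [finrank_top]; omega)
  have hd := hpr.finrank_pairPerp hn
  obtain ⟨u, hu, s, hs, hus⟩ := exists_pair hn (hpr.nondeg_pairPerp hn) (by omega)
  obtain ⟨u1, u2⟩ := mem_pairPerp_quad.1 hu
  obtain ⟨s1, s2⟩ := mem_pairPerp_quad.1 hs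
  have hp' : p ∈ (ofQuad Q).pairPerp u s := mem_pairPerp_quad.2 ⟨by rwa [polar_comm], by rwa [polar_comm]⟩
  have hr' : r ∈ (ofQuad Q).pairPerp u s := mem_pairPerp_quad.2 ⟨by rwa [polar_comm], by rwa [polar_comm]⟩
  have hcomm : hus.torus (-1) * hpr.torus (-1) = hpr.torus (-1) * hus.torus (-1) := OG.ext fun x => by
    rw [OG.mul_apply, OG.mul_apply]
    conv_lhs => rw [hpr.torus_apply]
    conv_rhs => rw [hus.torus_apply]
    simp only [map_add, map_smul, hus.torus_perp _ hp', hus.torus_perp _ hr', hpr.torus_perp _ hu,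
      hpr.torus_perp _ hs]
    rw [hpr.torus_apply, hus.torus_apply]
    abel
  obtain ⟨y, -, hy0, hy, hy'⟩ := exists_sing_pf (ofQuad Q) ![p, r, u, s] (U := ⊤) (R := ⊥)
    (by rw [finrank_top, finrank_bot]; omega)
  have h1 := invol hn h2 H ω (g := ⟨hpr.torus (-1) * hus.torus (-1), (mem_G_iff hn (by omega) _).2
    ⟨by rw [dick_mul hn hx, dick_torus hn, dick_torus hn, one_mul],
      by rw [spin_mul hn hx, spin_torus hn, spin_torus hn, Int.units_mul_self]⟩⟩)
    (Subtype.ext (by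
      show _ * _ * (_ * _) = (1 : OG Q)
      rw [mul_assoc, ← mul_assoc (hus.torus _), hcomm, mul_assoc, torus_sq, mul_one, torus_sq]))
    (y := y) (z := p) (by simpa using hy0) hy.1
    (by
      show (hpr.torus _).1 ((hus.torus _).1 y) = y
      rw [hus.torus_perp _ ((ofQuad Q).mem_pairPerp.2 ⟨hy' 2, hy' 3⟩),
        hpr.torus_perp _ ((ofQuad Q).mem_pairPerp.2 ⟨hy' 0, hy' 1⟩)])
    hpr.left_ne_zero hpr.Q_left (by
      show (hpr.torus _).1 ((hus.torus _).1 p) = -p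
      rw [hus.torus_perp _ hp', hpr.torus_left]; simp)
  have h3 := finrank_mov_add (hpr.torus (-1) * hus.torus (-1)).1
  have h4 := Submodule.finrank_mono ((mov_mul_le (hpr.torus (-1)).1 (hus.torus (-1)).1).trans
    (sup_le_sup (mov_torus hpr _) (mov_torus hus _)))
  have h5 := Submodule.finrank_add_le_finrank_add_finrank (Submodule.span F {p, r})
    (Submodule.span F {u, s})
  have h6 := finrank_span_pair (F := F) p r
  have h7 := finrank_span_pair (F := F) u s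
  have h1 : finrank F (mov (hpr.torus (-1) * hus.torus (-1)).1) =
    finrank F (fixS (hpr.torus (-1) * hus.torus (-1)).1) := h1
  have h4 : finrank F (mov (hpr.torus (-1) * hus.torus (-1)).1) ≤ _ := h4
  omega

theorem not_regAll_neg (hn : (ofQuad Q).Nondeg) (h5 : 5 ≤ finrank F V) (he : Even (finrank F V))
    (h2 : (2 : F) ≠ 0) (hneg : negOne Q ∉ commutator (OG Q)) (hsq : ¬ IsSquare (-1 : F)) (ω : Ω) :
    ¬ RegAll Q Ω := fun H => by
  have hx : NotExc Q := notExc_of_two_ne_zero h2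
  obtain ⟨p, -, r, -, hpr⟩ := exists_pair hn (nondeg_top hn) (by rw [finrank_top]; omega)
  have hd := hpr.finrank_pairPerp hn
  obtain ⟨u, hu, s, hs, hus⟩ := exists_pair hn (hpr.nondeg_pairPerp hn) (by omega)
  have hdick : dick (negOne Q) = 1 := by
    rw [dick_eq_one_iff_det hn h2]
    have : ((negOne Q).1 : V →ₗ[F] V) = (-1 : F) • LinearMap.id := by ext x; simp
    rw [this, LinearMap.det_smul, LinearMap.det_id, mul_one, he.neg_one_pow]
  have hspin : spin (negOne Q) = -1 := by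
    rw [mem_commutator_iff hn hx, and_iff_right hdick] at hneg
    exact (Int.units_eq_one_or _).resolve_left hneg
  have h1 := invol hn h2 H ω (g := ⟨negOne Q * hpr.torus (-1), (mem_G_iff hn h5 _).2
    ⟨by rw [dick_mul hn hx, dick_torus hn, hdick, one_mul],
      by rw [spin_mul hn hx, spin_torus hn, hspin, sqSign_eq_neg_one_iff.2 (by simpa using hsq)]; rfl⟩⟩)
    (Subtype.ext (by
      show _ * _ * (_ * _) = (1 : OG Q)
      rw [mul_assoc, ← mul_assoc (hpr.torus _), Subgroup.mem_center_iff.1 (negOne_mem_center) (hpr.torus _),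
        mul_assoc, torus_sq, mul_one, negOne_mul_self]))
    (y := p) (z := u) hpr.left_ne_zero hpr.Q_left (by
      show -((hpr.torus _).1 p) = p
      rw [hpr.torus_left]; simp) hus.left_ne_zero hus.Q_left (by
      show -((hpr.torus _).1 u) = -u
      rw [hpr.torus_perp _ hu])
  have h3 := finrank_mov_add (negOne Q * hpr.torus (-1)).1
  have h4 : fixS (negOne Q * hpr.torus (-1)).1 ≤ Submodule.span F {p, r} := fun v hv => by
    have : -((hpr.torus (-1)).1 v) = v := mem_fixS.1 hv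
    refine mov_torus hpr (-1) (mem_mov.2 ⟨(2 : F)⁻¹ • v, ?_⟩)
    rw [map_smul, neg_eq_iff_eq_neg.1 this]; match_scalars; field_simp; ring
  have h4 := Submodule.finrank_mono h4
  have h6 := finrank_span_pair (F := F) p r
  have h1 : finrank F (mov (negOne Q * hpr.torus (-1)).1) =
    finrank F (fixS (negOne Q * hpr.torus (-1)).1) := h1
  omega

theorem pair_step (hn : (ofQuad Q).Nondeg) {W : Submodule F V} (hW : ((ofQuad Q).restrict W).Nondeg)
    {a b : V} (ha : a ∈ W) (hb : b ∈ W) (hab : (ofQuad Q).IsPair a b) :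
    ((ofQuad Q).restrict (W ⊓ (ofQuad Q).pairPerp a b)).Nondeg ∧
      finrank F ↥(W ⊓ (ofQuad Q).pairPerp a b) + 2 = finrank F W := by
  refine ⟨(ofQuad Q).restrict_nondeg_iff'.2 fun u hu h => (ofQuad Q).restrict_nondeg_iff'.1 hW u hu.1
    fun v hv => ?_, ?_⟩
  · obtain ⟨h1, h2⟩ := mem_pairPerp_quad.1 hu.2
    have := h _ ⟨W.sub_mem (W.sub_mem hv (W.smul_mem _ ha)) (W.smul_mem _ hb), hab.proj_mem v⟩
    simp only [ofQuad_B_apply, polar_sub_right, polar_smul_right, polar_comm Q u a, polar_comm Q u b,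
      h1, h2, smul_zero, sub_zero] at this
    exact this
  · rw [← hab.finrank_span]
    exact finrank_inf_perp hn hW (sup_le ((Submodule.span_singleton_le_iff_mem _ _).2 ha)
      ((Submodule.span_singleton_le_iff_mem _ _).2 hb))

theorem eq_one_of_card_two (h : Nat.card F = 2) {x : F} (hx : x ≠ 0) : x = 1 := by
  by_contra h1
  obtain ⟨y, -, hy⟩ := (Nat.card_eq_two_iff' (0 : F)).1 h
  exact h1 ((hy x hx).trans (hy 1 one_ne_zero).symm)

theorem two_eq_zero_of_card_two (h : Nat.card F = 2) : (2 : F) = 0 := by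
  by_contra h1
  have := eq_one_of_card_two h h1
  exact one_ne_zero (α := F) (by linear_combination this)

theorem not_regAll_two (hn : (ofQuad Q).Nondeg) (h8 : 8 ≤ finrank F V) (hq : Nat.card F = 2) (ω : Ω) :
    ¬ RegAll Q Ω := fun H => by
  have h2 := two_eq_zero_of_card_two hq
  have hself : ∀ v, polar Q v v = 0 := fun v => by rw [polar_self', h2, zero_mul]
  have hvv : ∀ v : V, v + v = 0 := fun v => by rw [← two_smul F, h2, zero_smul]
  obtain ⟨p, -, r, -, hpr⟩ := exists_pair hn (nondeg_top hn) (by rw [finrank_top]; omega)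
  have hd := hpr.finrank_pairPerp hn
  obtain ⟨x, hx, x', hx', hxx⟩ := exists_pair hn (hpr.nondeg_pairPerp hn) (by omega)
  obtain ⟨n2, d2⟩ := pair_step hn (hpr.nondeg_pairPerp hn) hx hx' hxx
  obtain ⟨z, hz, z', hz', hzz⟩ := exists_pair hn n2 (by omega)
  obtain ⟨n3, d3⟩ := pair_step hn n2 hz hz' hzz
  obtain ⟨s, hs, hQs⟩ := exists_nonsing n3 (fun e => by rw [e, finrank_bot] at d3; omega)
  obtain ⟨d, hdm, hsd⟩ : ∃ d ∈ ((ofQuad Q).pairPerp p r ⊓ (ofQuad Q).pairPerp x x') ⊓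
      (ofQuad Q).pairPerp z z', polar Q s d ≠ 0 := by
    by_contra! hc
    exact hQs (by rw [(ofQuad Q).restrict_nondeg_iff'.1 n3 s hs hc, map_zero])
  replace hQs := eq_one_of_card_two hq hQs
  replace hsd := eq_one_of_card_two hq hsd
  simp only [Submodule.mem_inf, mem_pairPerp_quad] at hx hx' hz hz' hs hdm
  set b := z + z' with hb
  have hQb : Q b = 1 := by simpa using hzz.quad_add_smul 1
  have pb : polar Q p b = 0 := by simp [hb, hz, hz']
  have xb : polar Q x b = 0 := by simp [hb, hz, hz']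
  have x'b : polar Q x' b = 0 := by simp [hb, hz, hz']
  have bs : polar Q b s = 0 := by simp [hb, hs]
  have bz : polar Q b z = 1 := by simp [hb, hself, hzz.polar_eq']
  obtain ⟨t, hQt, st, pt, xt, bt⟩ : ∃ t, Q t = 1 ∧ polar Q s t = 1 ∧ polar Q p t = 0 ∧
      polar Q x t = 0 ∧ polar Q b t = 0 := by
    have bd : polar Q b d = 0 := by simp [hb, hdm]
    by_cases h : Q d = 0
    · refine ⟨d + b, by rw [quad_add, h, hQb, polar_comm, bd]; simp, ?_, ?_, ?_, ?_⟩
      · rw [polar_add_right, hsd, polar_comm, bs, add_zero]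
      · rw [polar_add_right, pb, hdm.1.1.1, add_zero]
      · rw [polar_add_right, xb, hdm.1.2.1, add_zero]
      · rw [polar_add_right, bd, hself, add_zero]
    · exact ⟨d, eq_one_of_card_two hq h, hsd, hdm.1.1.1, hdm.1.2.1, bd⟩
  have ts : polar Q t s = 1 := by rwa [polar_comm]
  let h : eichGroup Q := ⟨refl Q s * refl Q t, G_eq hn (by omega) ▸
    refl_mul_refl_mem_commutator hn (t := 1) (by simp [hQt]) one_ne_zero (by simp [hQs, hQt])⟩
  have hap : ∀ v, h.1.1 v = v - polar Q t v • t - (polar Q s v - polar Q t v) • s := fun v => by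
    show (refl Q s).1 ((refl Q t).1 v) = _
    rw [refl_apply, refl_apply, hQs, hQt]
    simp [st]
  have hfix : ∀ v, polar Q v s = 0 → polar Q v t = 0 → h.1.1 v = v := fun v h1 h2 => by
    rw [hap, polar_comm Q t, polar_comm Q s, h1, h2]; simp
  have h3 : h * (h * h) = 1 := Subtype.ext (OG.ext fun v => by
    show h.1.1 (h.1.1 (h.1.1 v)) = v
    simp only [hap, polar_sub_right, polar_smul_right, hself, st, ts, smul_eq_mul]
    match_scalars
    · rfl
    · linear_combination (-4 * polar Q t v + 2 * polar Q s v) * h2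
    · linear_combination (6 * polar Q t v - 4 * polar Q s v) * h2)
  have hp1 := hfix p hs.1.1.1 pt
  have hp' : ∀ a, polar Q p a = 0 → polar Q p (h.1.1 a) = 0 := fun a ha => by
    rw [← hp1, OG.map_polar, ha]
  obtain ⟨ω, hω⟩ : ∃ ω : Ω, h • ω = ω := by
    obtain ⟨H1, H2⟩ := H p hpr.left_ne_zero hpr.Q_left ω
    obtain ⟨γ, hγ, e⟩ := mem_orb.1 (H2 (h • ω))
    have e3 : h • h • h • ω = ω := by rw [smul_smul, smul_smul, mul_assoc, h3, one_smul]
    have g1 := hp' _ hγ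
    have g2 := hp' _ g1
    rw [← e, smul_E, ← e, hp1, smul_smul (E Q p _), ← E_add g1 hγ, smul_E, ← e, hp1, smul_smul,
      ← E_add (hp' _ (by simp [g1, hγ])) hγ] at e3
    refine ⟨E Q p (h.1.1 γ) • ω, ?_⟩
    rw [smul_E, ← e, hp1, smul_smul, ← E_add g2 hγ, E_smul_eq_iff (by simp [g2, hγ]) g1]
    refine ⟨by simp [g1, g2, hγ], ?_⟩
    rw [show h.1.1 (h.1.1 γ) + γ - h.1.1 γ = h.1.1 (h.1.1 γ + γ) + γ by
      rw [map_add, sub_eq_add_neg, neg_eq_of_add_eq_zero_left (hvv _)]; abel]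
    exact e3
  obtain ⟨H1, H2⟩ := H p hpr.left_ne_zero hpr.Q_left ω
  obtain ⟨a, pa, e⟩ := mem_orb.1 (H2 (E Q x b • ω))
  have e1 : h • E Q x b • ω = E Q x b • ω := by
    rw [smul_E, hω, hfix x hs.1.2.1 xt, hfix b bs bt]
  rw [← e, smul_E, hω, hp1, E_smul_eq_iff (hp' _ pa) pa] at e1
  obtain ⟨c, hc⟩ := Submodule.mem_span_singleton.1 (H1.mem hn e1)
  have ta : polar Q t a = 0 := by
    have := congrArg (polar Q s) hc
    rw [hap] at this
    simpa [polar_comm Q s p, hs.1.1.1, st, hself] using this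
  have sa : polar Q s a = 0 := by
    have := congrArg (polar Q t) hc
    rw [hap] at this
    simpa [polar_comm Q t p, pt, ts, hself, ta] using this
  have xp : polar Q x p = 0 := by rw [polar_comm, hx.1]
  have bp : polar Q b p = 0 := by rw [polar_comm, pb]
  have f1 := E_apply_fix hxx.Q_left xb xp bp
  have e2 : E Q x b • E Q x b • ω = ω := by rw [smul_smul, ← E_add xb xb, hvv, E_zero, one_smul]
  have pa' : polar Q p ((E Q x b).1.1 a) = 0 := by rw [← f1, OG.map_polar, pa]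
  rw [← e, smul_E, ← e, f1, smul_smul, ← E_add pa' pa] at e2
  obtain ⟨c', hc'⟩ := Submodule.mem_span_singleton.1 (H1.mem hn ⟨by simp [pa, pa'], e2⟩)
  rw [E_apply hxx.Q_left xb, hQb, one_mul, add_sub_assoc, add_right_comm, hvv, zero_add] at hc'
  have xa : polar Q x a = 0 := by
    have := congrArg (polar Q z) hc'
    simpa [polar_comm Q z p, polar_comm Q z x, polar_comm Q z b, hz, bz] using this
  have ba : polar Q b a = 0 := by
    have := congrArg (polar Q x') hc'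
    simpa [polar_comm Q x' p, hx', x'b, xa, hxx.polar_eq'] using this.symm
  have pa2 : polar Q p (-a) = 0 := by simp [pa]
  have gfix : ∀ v, polar Q p v = 0 → polar Q a v = 0 → polar Q x v = 0 → polar Q b v = 0 →
      (E Q p (-a) * E Q x b).1.1 v = v := fun v h1 h2 h3 h4 => by
    rw [G_mul_apply, E_apply_fix hxx.Q_left xb h3 h4, E_apply_fix hpr.Q_left pa2 h1 (by simp [h2])]
  have ax : polar Q a x = 0 := by rwa [polar_comm]
  have ap : polar Q a p = 0 := by rwa [polar_comm]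
  have bx : polar Q b x = 0 := by rwa [polar_comm]
  refine mov_fix hn H (g := E Q p (-a) * E Q x b) (ω := ω)
    (by rw [mul_smul, ← e, E_neg pa, inv_smul_smul]) (y := x - polar Q a z • p) (z := s + b) ?_ ?_ ?_ ?_
    ?_ ?_ ?_
  · intro e
    have := congrArg (polar Q x') e
    simp [polar_comm Q x' p, hx', hxx.polar_eq'] at this
  · rw [quad_sub, quad_smul, hpr.Q_left, hxx.Q_left]; simp [xp]
  · exact gfix _ (by simp [hx, hself]) (by simp [ax, ap]) (by simp [xp, hself]) (by simp [bx, bp])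
  · refine mem_mov.2 ⟨-z, ?_⟩
    rw [map_neg, G_mul_apply, E_apply_perp hxx.Q_left xb hz.2.1, bz, one_smul,
      E_apply_perp hpr.Q_left pa2 (by simp [hz, hx])]
    simp only [polar_neg_left, polar_add_right, ax]
    module
  · rw [quad_add, hQs, hQb, polar_comm, bs]; linear_combination h2
  · exact gfix _ (by simp [hs, pb]) (by simp [polar_comm Q a, sa, ba]) (by simp [hs, xb])
      (by simp [bs, hself])
  · intro hm
    obtain ⟨v, hv⟩ := mem_mov.1 hm
    have := B_sub_of_fix (E Q p (-a) * E Q x b).1.2 (gfix t pt (by rwa [polar_comm]) xt bt) v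
    rw [hv, ofQuad_B_apply, polar_add_right, ts, polar_comm, bt] at this
    simp at this

end Cfsg.Agent.MinD
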