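import Cfsg.Agent.MinD.Ev
import Cfsg.Agent.Char.Basic
import Mathlib.RepresentationTheory.Invariants

/-! Minimal degrees of complex representations of orthogonal groups, part 1: generic facts and the
weight spaces `Wt p w` of the unipotent radical of a point stabiliser with projections `prj p w`. -/

set_option autoImplicit false
set_option linter.unusedSectionVars false

namespace Cfsg.Agent.MinD

open Cfsg.Agent.Geom Cfsg.Agent.Geom.Formed Cfsg.Agent.Root.Mx QuadraticMap Module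
open scoped _root_.Classical

section Gen
variable {G : Type*} [Group G] [Finite G] {M : Type*} [AddCommGroup M] [Module ℂ M]
  (ρ : Representation ℂ G M)

theorem rho_mul (g h : G) (v : M) : ρ (g * h) v = ρ g (ρ h v) := by rw [map_mul]; rfl

theorem rho_inv_apply (g : G) (v : M) : ρ g⁻¹ (ρ g v) = v := by
  rw [← rho_mul, inv_mul_cancel, map_one]; rfl

theorem rho_apply_inv (g : G) (v : M) : ρ g (ρ g⁻¹ v) = v := by
  rw [← rho_mul, mul_inv_cancel, map_one]; rfl

theorem rho_inj (g : G) : Function.Injective (ρ g) := fun a b h => by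
  rw [← rho_inv_apply ρ g a, h, rho_inv_apply]

theorem exists_pos [FiniteDimensional ℂ M] : ∃ B : M →+ M →+ ℝ,
    (∀ g u v, B (ρ g u) (ρ g v) = B u v) ∧ (∀ v, 0 ≤ B v v) ∧ ∀ v, B v v = 0 → v = 0 := by
  have := Fintype.ofFinite G
  let b := Module.finBasis ℂ M
  let f : M → M → ℝ := fun u v => ∑ g, ∑ i, ((b.repr (ρ g u) i).re * (b.repr (ρ g v) i).re +
    (b.repr (ρ g u) i).im * (b.repr (ρ g v) i).im)
  have h0 : ∀ v g i, 0 ≤ (b.repr (ρ g v) i).re * (b.repr (ρ g v) i).re +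
      (b.repr (ρ g v) i).im * (b.repr (ρ g v) i).im := fun v g i =>
    add_nonneg (mul_self_nonneg _) (mul_self_nonneg _)
  refine ⟨AddMonoidHom.mk' (fun u => AddMonoidHom.mk' (f u) fun v w => ?_) fun u v => ?_,
    fun g u v => ?_, fun v => ?_, fun v h => ?_⟩
  · simp only [f, map_add, Finsupp.add_apply, Complex.add_re, Complex.add_im, ← Finset.sum_add_distrib]
    refine Finset.sum_congr rfl fun _ _ => Finset.sum_congr rfl fun _ _ => by ring
  · ext w
    simp only [f, map_add, Finsupp.add_apply, Complex.add_re, Complex.add_im, AddMonoidHom.mk'_apply,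
      AddMonoidHom.add_apply, ← Finset.sum_add_distrib]
    refine Finset.sum_congr rfl fun _ _ => Finset.sum_congr rfl fun _ _ => by ring
  · simp only [f, AddMonoidHom.mk'_apply, ← rho_mul]
    exact Equiv.sum_comp (Equiv.mulRight g) fun k => ∑ i, ((b.repr (ρ k u) i).re * (b.repr (ρ k v) i).re +
      (b.repr (ρ k u) i).im * (b.repr (ρ k v) i).im)
  · exact Finset.sum_nonneg fun g _ => Finset.sum_nonneg fun i _ => h0 v g i
  · have h1 := (Finset.sum_eq_zero_iff_of_nonneg fun g _ => Finset.sum_nonneg fun i _ => h0 v g i).1 h 1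
      (Finset.mem_univ _)
    have h2 := (Finset.sum_eq_zero_iff_of_nonneg fun i _ => h0 v 1 i).1 h1
    refine b.repr.injective (Finsupp.ext fun i => ?_)
    have h3 := h2 i (Finset.mem_univ _)
    rw [map_one, Module.End.one_apply, ← Complex.normSq_apply, Complex.normSq_eq_zero] at h3
    simpa using h3

/-- The sum of all group elements. -/
noncomputable def tot : M →ₗ[ℂ] M := ∑ g ∈ (Fintype.ofFinite G).elems, ρ g

theorem tot_rho (g : G) (v : M) : tot ρ (ρ g v) = tot ρ v := by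
  letI := Fintype.ofFinite G
  simp only [tot, LinearMap.sum_apply, ← rho_mul]
  exact Equiv.sum_comp (Equiv.mulRight g) fun k => ρ k v

theorem rho_tot (g : G) (v : M) : ρ g (tot ρ v) = tot ρ v := by
  letI := Fintype.ofFinite G
  simp only [tot, LinearMap.sum_apply, map_sum, ← rho_mul]
  exact Equiv.sum_comp (Equiv.mulLeft g) fun k => ρ k v

theorem eq_zero_of_tot {v : M} (hv : v ∈ ρ.invariants) (h : tot ρ v = 0) : v = 0 := by
  letI := Fintype.ofFinite G
  simp only [tot, LinearMap.sum_apply, (ρ.mem_invariants v).1 hv, Finset.sum_const] at h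
  rw [← Nat.cast_smul_eq_nsmul ℂ, smul_eq_zero] at h
  exact h.resolve_left (Nat.cast_ne_zero.2 Fintype.card_ne_zero)

theorem comm_fix {S : Submodule ℂ M} [FiniteDimensional ℂ M] (h1 : finrank ℂ S ≤ 1) {g h : G}
    (hg : ∀ v ∈ S, ρ g v ∈ S) (hh : ∀ v ∈ S, ρ h v ∈ S) {v : M} (hv : v ∈ S) :
    ρ (g * h * g⁻¹ * h⁻¹) v = v := by
  obtain ⟨e, he⟩ := finrank_le_one_iff.1 h1
  obtain ⟨c, hc⟩ := he ⟨v, hv⟩
  obtain ⟨a, ha⟩ := he ⟨_, hg _ e.2⟩
  obtain ⟨b, hb⟩ := he ⟨_, hh _ e.2⟩
  have hc' : v = c • e.1 := (congrArg Subtype.val hc).symm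
  have ha' : ρ g e.1 = a • e.1 := (congrArg Subtype.val ha).symm
  have hb' : ρ h e.1 = b • e.1 := (congrArg Subtype.val hb).symm
  have : ρ (g * h) v = ρ (h * g) v := by
    simp only [hc', rho_mul, map_smul, ha', hb', smul_smul]
    congr 1; ring
  have h2 : ρ (g * h * g⁻¹ * h⁻¹) (ρ (h * g) v) = ρ (h * g) v := by
    rw [← rho_mul, ← this]; congr 2; group
  have h3 : ρ (h * g) v = (a * b) • v := by
    simp only [hc', rho_mul, map_smul, ha', hb', smul_smul]
    congr 1; ring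
  rw [h3, map_smul] at h2
  by_cases h0 : a * b = 0
  · rw [h0, zero_smul] at h3
    rw [rho_inj ρ _ (h3.trans (map_zero _).symm), map_zero]
  · exact smul_right_injective M h0 h2

/-- The subgroup acting trivially on a submodule. -/
def trivOn (S : Submodule ℂ M) : Subgroup G where
  carrier := {g | ∀ v ∈ S, ρ g v = v}
  one_mem' := fun v _ => by rw [map_one]; rfl
  mul_mem' := fun {a b} ha hb v hv => by rw [rho_mul, hb v hv, ha v hv]
  inv_mem' := fun {a} ha v hv => by
    conv_lhs => rw [← ha v hv]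
    exact rho_inv_apply ρ a v

theorem mem_trivOn {S : Submodule ℂ M} {g : G} : g ∈ trivOn ρ S ↔ ∀ v ∈ S, ρ g v = v := Iff.rfl

theorem triv_of_perfect {S : Submodule ℂ M} [FiniteDimensional ℂ M] (h1 : finrank ℂ S ≤ 1)
    {H : Type*} [Group H] (hH : commutator H = ⊤) (φ : H →* G) (hg : ∀ k, ∀ v ∈ S, ρ (φ k) v ∈ S)
    (k : H) : φ k ∈ trivOn ρ S := by
  have : commutator H ≤ (trivOn ρ S).comap φ := Subgroup.commutator_le.2 fun a _ b _ v hv => by
    rw [commutatorElement_def, map_mul φ, map_mul φ, map_mul φ, map_inv φ, map_inv φ]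
    exact comm_fix ρ h1 (hg a) (hg b) hv
  exact this (hH ▸ Subgroup.mem_top k)

theorem inv_add_le [FiniteDimensional ℂ M] (hG : commutator G = ⊤) {D : ℕ}
    (hD : ∀ (k : ℕ) (τ : Representation ℂ G (Fin k → ℂ)), τ.IsIrreducible → 2 ≤ k → D ≤ k)
    {g : G} (hg : ρ g ≠ 1) : finrank ℂ ρ.invariants + D ≤ finrank ℂ M := by
  have hK : ∀ g, ∀ v ∈ LinearMap.ker (tot ρ), ρ g v ∈ LinearMap.ker (tot ρ) := fun g v hv => by
    rwa [LinearMap.mem_ker, tot_rho]
  have hdis : Disjoint ρ.invariants (LinearMap.ker (tot ρ)) :=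
    Submodule.disjoint_def.2 fun v hv h => eq_zero_of_tot ρ hv h
  have hK0 : LinearMap.ker (tot ρ) ≠ ⊥ := fun h => hg (LinearMap.ext fun v => by
    have : ρ g v - v ∈ LinearMap.ker (tot ρ) := by rw [LinearMap.mem_ker, map_sub, tot_rho, sub_self]
    rwa [h, Submodule.mem_bot, sub_eq_zero] at this)
  obtain ⟨N, ⟨h1, h2, h3⟩, hmin⟩ := exists_minimalFor_of_wellFoundedLT
    (fun N : Submodule ℂ M => N ≤ LinearMap.ker (tot ρ) ∧ N ≠ ⊥ ∧ ∀ g, ∀ v ∈ N, ρ g v ∈ N)
    (fun N => finrank ℂ N) ⟨_, le_rfl, hK0, hK⟩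
  let R : Subrepresentation ρ := ⟨N, fun g v hv => h3 g v hv⟩
  have hirr : R.toRepresentation.IsIrreducible := by
    refine (Char.isIrreducible_iff _).2 ⟨Submodule.nontrivial_iff_ne_bot.2 h2, fun U hU => ?_⟩
    refine or_iff_not_imp_left.2 fun hU0 => ?_
    have h4 := Submodule.finrank_map_subtype_eq N U
    have h5 := Submodule.finrank_le U
    refine Submodule.eq_top_of_finrank_eq (le_antisymm h5 ?_)
    refine le_trans (hmin (j := U.map N.subtype) ⟨(Submodule.map_subtype_le _ _).trans h1, fun h => hU0 ?_, ?_⟩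
      (h4.le.trans h5)) h4.le
    · exact Submodule.map_injective_of_injective N.injective_subtype (h.trans (Submodule.map_bot _).symm)
    · rintro g _ ⟨v, hv, rfl⟩
      exact ⟨_, hU g v hv, rfl⟩
  have h6 : 2 ≤ finrank ℂ N := by
    by_contra! h
    obtain ⟨v, hv, hv0⟩ := Submodule.exists_mem_ne_zero_of_ne_bot h2
    exact hv0 (eq_zero_of_tot ρ (fun k => triv_of_perfect ρ (by omega) hG (MonoidHom.id G) h3 k v hv) (h1 hv))
  have h7 := hD _ (Char.transport R.toRepresentation (Module.finBasis ℂ N).equivFun)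
    (Char.isIrreducible_of_equiv (Char.transportEquiv _ _)) h6
  have h8 := Submodule.finrank_mono h1
  have h9 := Submodule.finrank_add_finrank_le_of_disjoint hdis
  omega

theorem finrank_add_card_le [FiniteDimensional ℂ M] {A B : Submodule ℂ M} (hAB : A ≤ B) {ι : Type*}
    [Fintype ι] (u : ι → M) (hu : ∀ i, u i ∈ B)
    (h : ∀ (c : ι → ℂ), ∀ f ∈ A, ∑ i, c i • u i + f = 0 → ∀ i, c i = 0) :
    finrank ℂ A + Fintype.card ι ≤ finrank ℂ B := by
  have hli : LinearIndependent ℂ u := Fintype.linearIndependent_iff.2 fun c hc =>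
    h c 0 A.zero_mem (by rw [hc, add_zero])
  have hd : Disjoint A (Submodule.span ℂ (Set.range u)) := Submodule.disjoint_def.2 fun x hx hx' => by
    obtain ⟨c, rfl⟩ := (Submodule.mem_span_range_iff_exists_fun ℂ).1 hx'
    simp [h c _ (A.neg_mem hx) (add_neg_cancel _)]
  have h1 := Submodule.finrank_sup_add_finrank_inf_eq A (Submodule.span ℂ (Set.range u))
  rw [hd.eq_bot, finrank_bot, finrank_span_eq_card hli] at h1
  have h2 := Submodule.finrank_mono (sup_le hAB (Submodule.span_le.2 (by rintro _ ⟨i, rfl⟩; exact hu i)) :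
    A ⊔ Submodule.span ℂ (Set.range u) ≤ B)
  omega

end Gen

variable {F : Type*} [Field F] [Finite F] {V : Type*} [AddCommGroup V] [Module F V] [Fintype V]
  {Q : QuadraticForm F V} {M : Type*} [AddCommGroup M] [Module ℂ M]
  (ρ : Representation ℂ (eichGroup Q) M)

theorem sum_psi (U : Submodule F V) (w : V) : ∑ a : U, psi F (polar Q a w) =
    if ∀ a ∈ U, polar Q a w = 0 then (Nat.card U : ℂ) else 0 := by
  let χ : AddChar U ℂ := (psi F).compAddMonoidHom
    ((AddMonoidHom.mk' (fun a => polar Q a w) (fun a b => polar_add_left Q a b w)).comp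
      U.subtype.toAddMonoidHom)
  refine (χ.sum_eq_ite).trans ?_
  rw [Nat.card_eq_fintype_card]
  refine if_congr ⟨fun h a ha => eq_zero_of_psi fun c => ?_, fun h => ?_⟩ rfl rfl
  · simpa [χ, polar_smul_left] using DFunLike.congr_fun h ⟨c • a, U.smul_mem c ha⟩
  · ext a; simp [χ, h a a.2]

theorem sum_psi' [Fintype F] (x : F) : ∑ t : F, psi F (t * x) = if x = 0 then (Nat.card F : ℂ) else 0 := by
  let χ : AddChar F ℂ := (psi F).compAddMonoidHom (AddMonoidHom.mulRight x)
  refine (χ.sum_eq_ite).trans ?_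
  rw [Nat.card_eq_fintype_card]
  refine if_congr ⟨fun h => eq_zero_of_psi fun c => ?_, fun h => ?_⟩ rfl rfl
  · simpa [χ] using DFunLike.congr_fun h c
  · ext a; simp [χ, h]

theorem eq_of_psi_eq {U : Submodule F V} {w w' : V}
    (h : ∀ a ∈ U, psi F (polar Q a w') = psi F (polar Q a w)) : ∀ a ∈ U, polar Q a (w' - w) = 0 :=
  fun a ha => eq_zero_of_psi fun c => by
    have := h _ (U.smul_mem c ha)
    rw [polar_smul_left, polar_smul_left, smul_eq_mul, smul_eq_mul] at this
    rw [polar_sub_right, mul_sub, AddChar.map_sub_eq_div, this, div_self]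
    exact (AddChar.val_isUnit _ _).ne_zero

/-- Weight spaces. -/
def Wt (p w : V) : Submodule ℂ M where
  carrier := {v | ∀ a, polar Q p a = 0 → ρ (E Q p a) v = psi F (polar Q a w) • v}
  zero_mem' := fun a _ => by simp
  add_mem' := fun {u v} hu hv a ha => by rw [map_add, hu a ha, hv a ha, smul_add]
  smul_mem' := fun c v hv a ha => by rw [map_smul, hv a ha, smul_comm]

/-- Projection onto a weight space. -/
noncomputable def prj (p w : V) : M →ₗ[ℂ] M :=
  ((Nat.card F : ℂ) / Nat.card V) • ∑ a : pp Q p, psi F (-polar Q a w) • ρ (E Q p a)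

variable {ρ}

theorem mem_Wt {p w : V} {v : M} :
    v ∈ Wt ρ p w ↔ ∀ a, polar Q p a = 0 → ρ (E Q p a) v = psi F (polar Q a w) • v := Iff.rfl

theorem prj_apply (p w : V) (v : M) : prj ρ p w v =
    ((Nat.card F : ℂ) / Nat.card V) • ∑ a : pp Q p, psi F (-polar Q a w) • ρ (E Q p a) v := by
  simp [prj, LinearMap.sum_apply]

theorem prj_mem (p w : V) (v : M) : prj ρ p w v ∈ Wt ρ p w := fun b hb => by
  rw [prj_apply, map_smul, smul_comm (psi F _), map_sum]
  congr 1
  rw [Finset.smul_sum]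
  refine Fintype.sum_equiv (Equiv.addLeft (⟨b, mem_pp.2 hb⟩ : pp Q p)) _ _ fun a => ?_
  rw [map_smul, ← rho_mul, ← E_add hb (mem_pp.1 a.2), smul_smul, ← AddChar.map_add_eq_mul]
  simp [polar_add_left]

theorem prj_conj (g : eichGroup Q) (p w : V) (v : M) :
    ρ g (prj ρ p w v) = prj ρ (g.1.1 p) (g.1.1 w) (ρ g v) := by
  rw [prj_apply, prj_apply, map_smul, map_sum]
  congr 1
  refine Fintype.sum_equiv (Equiv.subtypeEquiv g.1.1.toEquiv fun a => ?_) _ _ fun a => ?_
  · rw [mem_pp, mem_pp]; exact Eq.congr_left (OG.map_polar g.1 p a).symm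
  · rw [map_smul, ← rho_mul, ← rho_mul]
    change _ = psi F (-polar Q (g.1.1 a) (g.1.1 w)) • ρ (E Q (g.1.1 p) (g.1.1 a) * g) v
    rw [OG.map_polar, ← conj_E, inv_mul_cancel_right]

theorem Wt_map (g : eichGroup Q) {p w : V} {v : M} (hv : v ∈ Wt ρ p w) :
    ρ g v ∈ Wt ρ (g.1.1 p) (g.1.1 w) := fun a ha => by
  obtain ⟨a, rfl⟩ := g.1.1.surjective a
  rw [OG.map_polar] at ha ⊢
  rw [← conj_E, ← rho_mul, inv_mul_cancel_right, rho_mul, hv a ha, map_smul]

theorem Wt_congr {p w w' : V} (h : w' - w ∈ F ∙ p) : Wt ρ p w' = Wt ρ p w := by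
  obtain ⟨t, ht⟩ := Submodule.mem_span_singleton.1 h
  have : ∀ a, polar Q p a = 0 → polar Q a w' = polar Q a w := fun a ha => by
    rw [← sub_eq_zero, ← polar_sub_right, ← ht, polar_smul_right, polar_comm, ha, smul_zero]
  ext v
  exact forall₂_congr fun a ha => by rw [this a ha]

theorem prj_congr {p w w' : V} (h : w' - w ∈ F ∙ p) : prj ρ p w' = prj ρ p w := by
  obtain ⟨t, ht⟩ := Submodule.mem_span_singleton.1 h
  have : ∀ a : pp Q p, polar Q a w' = polar Q a w := fun a => by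
    rw [← sub_eq_zero, ← polar_sub_right, ← ht, polar_smul_right, polar_comm, mem_pp.1 a.2, smul_zero]
  simp only [prj, this]

theorem Wt_smul {p : V} (hp : Q p = 0) {c : F} (hc : c ≠ 0) (w : V) :
    Wt ρ (c • p) (c • w) = Wt ρ p w := by
  ext v
  refine ⟨fun h a ha => ?_, fun h a ha => ?_⟩
  · have := h (c⁻¹ • a) (by simp [ha])
    rwa [E_smul_left hp (by simp [ha]), smul_inv_smul₀ hc, polar_smul_left, polar_smul_right,
      inv_smul_smul₀ hc] at this
  · have ha' : polar Q p a = 0 := by simpa [hc] using ha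
    rw [E_smul_left hp ha', h _ (by simp [ha']), polar_smul_left, polar_smul_right]

theorem finrank_Wt_map [FiniteDimensional ℂ M] (g : eichGroup Q) (p w : V) :
    finrank ℂ (Wt ρ p w) ≤ finrank ℂ (Wt ρ (g.1.1 p) (g.1.1 w)) :=
  LinearMap.finrank_le_finrank_of_injective (f := (ρ g).restrict fun _ => Wt_map g) fun _ _ h =>
    Subtype.ext (rho_inj ρ g (congrArg Subtype.val h))

theorem finrank_Wt_Gam [FiniteDimensional ℂ M] {p : V} (hp : Q p = 0) {φ : V ≃ₗ[F] V} (h : φ ∈ Gam Q p)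
    (w : V) : finrank ℂ (Wt ρ p w) ≤ finrank ℂ (Wt ρ p (φ w)) := by
  obtain ⟨g, c, hc, h1, h2⟩ := h
  have := finrank_Wt_map (ρ := ρ) g p w
  rwa [h1, h2, Wt_smul hp hc] at this

variable (hn : (ofQuad Q).Nondeg)
include hn

theorem mem_span_of_perp {p d : V} (h : ∀ a, polar Q p a = 0 → polar Q a d = 0) : d ∈ F ∙ p := by
  rw [← hn.perp_perp (F ∙ p)]
  exact mem_perp_quad.2 fun a ha => h a (mem_pp.1 ha)

theorem prj_Wt {p : V} (hp0 : p ≠ 0) (w : V) {w' : V} {v : M} (hv : v ∈ Wt ρ p w') :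
    prj ρ p w v = if w' - w ∈ F ∙ p then v else 0 := by
  have h1 : ∀ a : pp Q p, psi F (-polar Q a w) • ρ (E Q p a) v = psi F (polar Q a (w' - w)) • v :=
    fun a => by
      rw [hv a (mem_pp.1 a.2), smul_smul, ← AddChar.map_add_eq_mul, polar_sub_right, neg_add_eq_sub]
  rw [prj_apply, Finset.sum_congr rfl fun a _ => h1 a, ← Finset.sum_smul, sum_psi, smul_smul]
  have h2 : (∀ a ∈ pp Q p, polar Q a (w' - w) = 0) ↔ w' - w ∈ F ∙ p := by
    refine ⟨fun h => mem_span_of_perp hn fun a ha => h a (mem_pp.2 ha), fun h a ha => ?_⟩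
    obtain ⟨t, ht⟩ := Submodule.mem_span_singleton.1 h
    rw [← ht, polar_smul_right, polar_comm, mem_pp.1 ha, smul_zero]
  rw [if_congr h2 rfl rfl]
  split_ifs
  · rw [← card_mul_pp hn hp0, Nat.cast_mul, div_mul_eq_mul_div, div_self, one_smul]
    exact mul_ne_zero (Nat.cast_ne_zero.2 Nat.card_pos.ne') (Nat.cast_ne_zero.2 Nat.card_pos.ne')
  · simp

theorem prj_of_mem {p : V} (hp0 : p ≠ 0) {w : V} {v : M} (hv : v ∈ Wt ρ p w) : prj ρ p w v = v := by
  rw [prj_Wt hn hp0 w hv, if_pos (by simp)]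

theorem prj_of_ne {p : V} (hp0 : p ≠ 0) {w w' : V} {v : M} (hv : v ∈ Wt ρ p w')
    (h : w' - w ∉ F ∙ p) : prj ρ p w v = 0 := by
  rw [prj_Wt hn hp0 w hv, if_neg h]

theorem sum_prj {p : V} (hp0 : p ≠ 0) (hp : Q p = 0) (v : M) :
    ∑ w : pp Q p, prj ρ p w v = (Nat.card F : ℂ) • v := by
  simp only [prj_apply]
  rw [← Finset.smul_sum, Finset.sum_comm]
  have h1 : ∀ a : pp Q p, ∑ w : pp Q p, psi F (-polar Q a w) • ρ (E Q p a) v =
      if a.1 ∈ F ∙ p then (Nat.card (pp Q p) : ℂ) • v else 0 := fun a => by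
    have h2 := sum_psi (Q := Q) (pp Q p) (-a.1)
    simp only [polar_neg_right, polar_comm Q _ a.1, neg_eq_zero] at h2
    rw [← Finset.sum_smul, h2]
    by_cases h : a.1 ∈ F ∙ p
    · obtain ⟨t, ht⟩ := Submodule.mem_span_singleton.1 h
      rw [if_pos h, if_pos fun b hb => by rw [← ht, polar_smul_left, mem_pp.1 hb, smul_zero], ← ht,
        E_smul_self hp, map_one]
      rfl
    · rw [if_neg h, if_neg fun h' => h (mem_span_of_perp hn fun b hb => by
        rw [polar_comm]; exact h' b (mem_pp.2 hb)), zero_smul]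
  rw [Finset.sum_congr rfl fun a _ => h1 a, ← Finset.sum_filter, Finset.sum_const,
    ← Nat.cast_smul_eq_nsmul ℂ, smul_smul, smul_smul]
  have h3 : (Finset.univ.filter fun a : pp Q p => a.1 ∈ F ∙ p).card = Nat.card F := by
    rw [← card_span_p (F := F) hp0, ← Set.ncard_coe_finset,
      ← Set.ncard_image_of_injective _ Subtype.val_injective]
    congr 1
    ext x
    simp only [Finset.coe_filter, Finset.mem_univ, true_and, Set.mem_image, Set.mem_ofPred_eq,
      SetLike.mem_coe]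
    refine ⟨by rintro ⟨a, ha, rfl⟩; exact ha, fun h => ⟨⟨x, ?_⟩, h, rfl⟩⟩
    obtain ⟨t, rfl⟩ := Submodule.mem_span_singleton.1 h
    rw [mem_pp, polar_smul_right, polar_self_of_sing hp, smul_zero]
  rw [h3, ← card_mul_pp hn hp0, Nat.cast_mul]
  congr 1
  have : (Nat.card F : ℂ) ≠ 0 := Nat.cast_ne_zero.2 Nat.card_pos.ne'
  have : (Nat.card (pp Q p) : ℂ) ≠ 0 := Nat.cast_ne_zero.2 Nat.card_pos.ne'
  field_simp

theorem mem_of_prj {p : V} (hp0 : p ≠ 0) (hp : Q p = 0) {v : M} {S : Submodule ℂ M}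
    (h : ∀ w, polar Q p w = 0 → prj ρ p w v ≠ 0 → prj ρ p w v ∈ S) : v ∈ S := by
  rw [← S.smul_mem_iff (Nat.cast_ne_zero.2 (Nat.card_pos (α := F)).ne' : (Nat.card F : ℂ) ≠ 0),
    ← sum_prj (ρ := ρ) hn hp0 hp]
  refine S.sum_mem fun w _ => ?_
  by_cases h0 : prj ρ p w v = 0
  · rw [h0]; exact S.zero_mem
  · exact h w (mem_pp.1 w.2) h0

theorem eq_of_prj {p : V} (hp0 : p ≠ 0) (hp : Q p = 0) {v : M} {f g : M →ₗ[ℂ] M}
    (h : ∀ w, polar Q p w = 0 → prj ρ p w v ≠ 0 → f (prj ρ p w v) = g (prj ρ p w v)) : f v = g v :=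
  mem_of_prj hn hp0 hp (S := LinearMap.eqLocus f g) h

theorem exists_prj {p : V} (hp0 : p ≠ 0) (hp : Q p = 0) {v : M} (hv : v ≠ 0) :
    ∃ w, polar Q p w = 0 ∧ prj ρ p w v ≠ 0 := by
  by_contra! h
  exact hv (mem_of_prj (ρ := ρ) hn hp0 hp (S := ⊥) fun w hw h' => absurd (h w hw) h')

omit hn in
/-- An eigenvector condition passes to the weights. -/
theorem psi_eq_of_prj {p w a : V} (hp : Q p = 0) (hw : polar Q p w = 0) (ha : polar Q p a = 0) {v : M}
    {c : ℂ} (hv : ρ (E Q p a) v = c • v) (h : prj ρ p w v ≠ 0) : psi F (polar Q a w) = c := by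
  have h1 := prj_conj (ρ := ρ) (E Q p a) p w v
  rw [prj_mem p w v a ha, hv, map_smul, E_apply_fix hp ha (polar_self_of_sing hp) (by rwa [polar_comm]),
    E_apply_perp hp ha hw, prj_congr (w := w) (w' := w + _)
      (by simp [Submodule.mem_span_singleton_self, Submodule.smul_mem])] at h1
  exact smul_left_injective ℂ h h1

theorem sum_finrank_le [FiniteDimensional ℂ M] {p : V} (hp0 : p ≠ 0) (T : Finset V)
    (hT : ∀ w ∈ T, ∀ w' ∈ T, w' - w ∈ F ∙ p → w' = w) :
    ∑ w ∈ T, finrank ℂ (Wt ρ p w) ≤ finrank ℂ M := by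
  let f : (∀ w : T, Wt ρ p w) →ₗ[ℂ] M := ∑ w : T, (Wt ρ p w).subtype ∘ₗ LinearMap.proj w
  have := LinearMap.finrank_le_finrank_of_injective (f := f) (by
    refine (injective_iff_map_eq_zero f).2 fun x hx => funext fun w => Subtype.ext ?_
    have h1 := congrArg (prj ρ p w) hx
    simp only [f, LinearMap.sum_apply, LinearMap.comp_apply, LinearMap.proj_apply, Submodule.subtype_apply,
      map_sum, map_zero] at h1
    rwa [Finset.sum_eq_single w (fun w' _ h => prj_of_ne hn hp0 (x w').2 fun h' =>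
      h (Subtype.ext (hT _ w.2 _ w'.2 h'))) (by simp), prj_of_mem hn hp0 (x w).2] at h1)
  rwa [Module.finrank_pi_fintype, Finset.sum_coe_sort T fun w => finrank ℂ (Wt ρ p w)] at this

theorem bound [FiniteDimensional ℂ M] {p : V} (hp0 : p ≠ 0) (hp : Q p = 0) (T : Set V)
    (hT : ∀ w ∈ T, polar Q p w = 0 ∧ w ∉ F ∙ p) {m : ℕ} (hm : ∀ w ∈ T, m ≤ finrank ℂ (Wt ρ p w)) :
    T.ncard * m + Nat.card F * finrank ℂ (Wt ρ p 0) ≤ Nat.card F * finrank ℂ M := by
  obtain ⟨r, hpr⟩ := exists_isPair hn hp0 hp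
  have := Fintype.ofFinite F
  let π : V → V := fun w => w - polar Q r w • p
  have hπ : ∀ w, π w - w ∈ F ∙ p := fun w => by
    simp [π, Submodule.mem_span_singleton_self, Submodule.smul_mem]
  have hr : ∀ w, polar Q r (π w) = 0 := fun w => by simp [π, hpr.polar_eq']
  let S : Finset V := T.toFinset.image π
  have h0 : (0 : V) ∉ S := fun h => by
    obtain ⟨w, hw, e⟩ := Finset.mem_image.1 h
    have := hπ w
    rw [e, zero_sub, Submodule.neg_mem_iff] at this
    exact (hT w (by simpa using hw)).2 this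
  have h1 := sum_finrank_le (ρ := ρ) hn hp0 (insert 0 S) fun w hw w' hw' h => by
    have : ∀ w ∈ insert 0 S, polar Q r w = 0 := fun w hw => by
      rcases Finset.mem_insert.1 hw with rfl | hw
      · simp
      · obtain ⟨w, -, rfl⟩ := Finset.mem_image.1 hw
        exact hr w
    obtain ⟨t, ht⟩ := Submodule.mem_span_singleton.1 h
    have h2 := congrArg (polar Q r) ht
    rw [polar_smul_right, polar_sub_right, this w hw, this w' hw', hpr.polar_eq', smul_eq_mul, mul_one,
      sub_zero] at h2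
    rw [h2, zero_smul] at ht
    exact sub_eq_zero.1 ht.symm
  rw [Finset.sum_insert h0] at h1
  have h2 : S.card * m ≤ ∑ w ∈ S, finrank ℂ (Wt ρ p w) := by
    rw [← smul_eq_mul]
    refine Finset.card_nsmul_le_sum _ _ _ fun w hw => ?_
    obtain ⟨y, hy, rfl⟩ := Finset.mem_image.1 hw
    rw [Wt_congr (hπ y)]
    exact hm y (by simpa using hy)
  have h3 : T.ncard ≤ Nat.card F * S.card := by
    rw [Set.ncard_eq_toFinset_card', Nat.card_eq_fintype_card, ← Finset.card_univ, ← Finset.card_product]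
    refine Finset.card_le_card_of_injOn (fun w => (polar Q r w, π w)) (fun w hw => ?_) fun w _ w' _ e => ?_
    · simpa [S] using ⟨w, by simpa using hw, rfl⟩
    · have e1 : polar Q r w = polar Q r w' := congrArg Prod.fst e
      have e2 : π w = π w' := congrArg Prod.snd e
      simpa [π, e1] using e2
  nlinarith [Nat.mul_le_mul_right m h3, Nat.mul_le_mul_left (Nat.card F) h1,
    Nat.mul_le_mul_left (Nat.card F) h2]

end Cfsg.Agent.MinD
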