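import Cfsg.Agent.MinD.Ch4
import Cfsg.Agent.Chev.Fold
import Cfsg.Agent.ChAut.TwD4

/-! Minimal degrees of twisted groups, part 1: fixed spaces `FS` of the fixed points of unipotent subgroups,
long root families `zz`, and an abstract `A₂` lemma. -/

set_option autoImplicit false
set_option linter.unusedSectionVars false

namespace Cfsg.Agent.MinD

open Module Cfsg.Lie Cfsg.Agent.Chev Cfsg.Agent.Mult Cfsg.Agent.ChAut
open scoped _root_.Classical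

section
variable {F : Type*} [Field F] [Fintype F] {G : Type*} [Group G] [Finite G] {M : Type*} [AddCommGroup M] [Module ℂ M]
  [FiniteDimensional ℂ M] {ρ : Representation ℂ G M}

theorem heis_fam {x z y : F → G} (r : ∃ ε : F, ε ≠ 0 ∧ ∀ t u, z t * y u = y u * z t * x (ε * u * t))
    {χ : AddChar F ℂ} (hχ : χ ≠ 0) : ∃ φ : F → AddChar F ℂ, Function.Surjective φ ∧ ∀ t u, ∀ v ∈ Eg ρ x χ,
      ρ (z t) (ρ (y u) v) = φ u t • ρ (y u) (ρ (z t) v) := by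
  obtain ⟨ε, h0, e⟩ := r
  refine ⟨fun u => χ.mulShift (ε * u), (mulShift_surj hχ).comp (mul_left_surjective₀ h0), fun t u v hv => ?_⟩
  rw [← rho_mul, e, rho_mul, rho_mul, hv, map_smul, map_smul, AddChar.mulShift_apply]

theorem a2g {x z y y' : F → G} (hx : ∀ t u, x (t + u) = x t * x u) (hz : ∀ t u, z (t + u) = z t * z u)
    (c1 : ∀ t u, x t * z u = z u * x t) (c2 : ∀ t u, x t * y u = y u * x t) (c3 : ∀ t u, z t * y' u = y' u * z t)
    (r1 : ∃ ε : F, ε ≠ 0 ∧ ∀ t u, z t * y u = y u * z t * x (ε * u * t))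
    (r2 : ∃ ε : F, ε ≠ 0 ∧ ∀ t u, x t * y' u = y' u * x t * z (ε * u * t)) {N : Submodule ℂ M}
    (h1 : Sta ρ N x) (h2 : Sta ρ N z) (h3 : Sta ρ N y) (h4 : Sta ρ N y') : ∃ d,
    finrank ℂ N = finrank ℂ ↥(N ⊓ Eg ρ x 0) + (Fintype.card F - 1) * (Fintype.card F * d) ∧
    finrank ℂ ↥(N ⊓ Eg ρ x 0) = finrank ℂ ↥(N ⊓ Eg ρ x 0 ⊓ Eg ρ z 0) + (Fintype.card F - 1) * d ∧
    ∀ χ ≠ 0, finrank ℂ ↥(N ⊓ Eg ρ x 0 ⊓ Eg ρ z χ) = d := by
  obtain ⟨χ0, h0⟩ := exists_char_ne F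
  have k1 : ∀ χ ≠ 0, ∀ χ', finrank ℂ ↥(N ⊓ Eg ρ x χ) =
      Fintype.card F * finrank ℂ ↥(N ⊓ Eg ρ x χ ⊓ Eg ρ z χ') := fun χ hχ χ' => by
    obtain ⟨φ, hφ, e⟩ := heis_fam (ρ := ρ) r1 hχ
    exact heis_eq hz (h2.inf (sta_Eg c1 _)) (h3.inf (sta_Eg c2 _)) hφ (fun t u v hv => e t u v hv.2) χ'
  have k2 : ∀ χ ≠ 0, ∀ χ' χ'', finrank ℂ ↥(N ⊓ Eg ρ x χ' ⊓ Eg ρ z χ) =
      finrank ℂ ↥(N ⊓ Eg ρ x χ'' ⊓ Eg ρ z χ) := fun χ hχ χ' χ'' => by
    obtain ⟨φ, hφ, e⟩ := heis_fam (ρ := ρ) r2 hχ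
    rw [inf_right_comm, inf_right_comm N (Eg ρ _ χ'')]
    exact heis_equi (h4.inf (sta_Eg c3 _)) hφ (fun t u v hv => e t u v hv.2) _ _
  have k3 : ∀ χ ≠ 0, finrank ℂ ↥(N ⊓ Eg ρ x 0 ⊓ Eg ρ z χ) = finrank ℂ ↥(N ⊓ Eg ρ x χ0 ⊓ Eg ρ z χ0) := fun χ hχ => by
    rw [k2 χ hχ 0 χ0]
    exact Nat.eq_of_mul_eq_mul_left Fintype.card_pos ((k1 χ0 h0 _).symm.trans (k1 χ0 h0 _))
  exact ⟨_, finrank_eq_add_mul hx h1 fun χ hχ => by rw [k1 χ hχ χ0, k2 χ0 h0 χ χ0],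
    finrank_eq_add_mul hz (h2.inf (sta_Eg c1 _)) k3, k3⟩

theorem fix_of_rel {N : Submodule ℂ M} (h1 : finrank ℂ N ≤ 1) {a b c : G} (ha : ∀ v ∈ N, ρ a v ∈ N)
    (hb : ∀ v ∈ N, ρ b v ∈ N) (e : a * b = b * a * c) {v : M} (hv : v ∈ N) : ρ c v = v := by
  have k : ∀ {g : G}, (∀ v ∈ N, ρ g v ∈ N) → ∀ v ∈ N, ρ g⁻¹ v ∈ N := fun {g} hg v hv => by
    obtain ⟨w, hw⟩ := (LinearMap.injective_iff_surjective (f := (ρ g).restrict hg)).1
      (fun _ _ e => Subtype.ext (rho_inj ρ g (congrArg Subtype.val e))) ⟨v, hv⟩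
    rw [← show ρ g w = v from congrArg Subtype.val hw, rho_inv_apply]
    exact w.2
  have := comm_fix ρ h1 (k ha) (k hb) hv
  rwa [inv_inv, inv_inv, mul_assoc _ a, e, show a⁻¹ * b⁻¹ * (b * a * c) = c by group] at this

end

variable {D : ChevalleyDatum} [Good D] [Conn D] {K : Type*} [Field K] [Fintype K] {H : Type*} [Group H] [Finite H]
  {X : Sys D K H} {S : Sym D} {α : X.Aut S} {φ : K →+* K}
  {M : Type*} [AddCommGroup M] [Module ℂ M] [FiniteDimensional ℂ M] {ρ : Representation ℂ α.fix M}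

theorem x_lc' (hl : ∀ r s : Rt D, ln r = ln s) {a b : Rt D} (h : A a b = -1) : ∃ ε : ℤ, (ε = 1 ∨ ε = -1) ∧
    ∀ t u, X.x a t * X.x b u = X.x b u * X.x a t * X.x (refl a b) (ε * u * t) := by
  have h' : A b a = -1 := A_symm hl a b ▸ h
  obtain ⟨e1, e2⟩ := N_eq_eta (N_eq_zero_of (not_comb_of_long (.inr fun k => (hl k _).le)
    (by rw [A_ng_left, h']; omega))) h'
  refine ⟨-eta b a, ?_, fun t u => ?_⟩
  · rcases eta_eq b a with e | e <;> simp [e]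
  have := comm_of_single (X := X) (a := b) (b := a) (ne_of_A (by omega)) (ne_ng_of_A (by omega))
    (e1 ▸ eta_ne_zero _ _) (fun k hk => e2 ▸ hk.eq_refl (A_le_two' hl) h' h) u t
  rw [e1, e2, refl_comm hl h, mul_neg, ← neg_mul, ← Int.cast_neg] at this
  rw [← this]; group

theorem comb_eq (hl : ∀ r s : Rt D, ln r = ln s) {a b k : Rt D} (h : b ≠ ng a) (hk : Comb a b k) :
    A a b = -1 ∧ k = refl a b := by
  have h1 := neg_one_le_A hl h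
  have h2 : A a b = -1 := by_contra fun e => not_comb_of_long (.inr fun k => (hl k a).le) (by omega) k hk
  exact ⟨h2, hk.eq_refl (A_le_two' hl) h2 (A_symm hl a b ▸ h2)⟩

variable (X) in
/-- Conjugation maps one unipotent subgroup into another. -/
def Nm (T T' : Set (Rt D)) (y : H) : Prop := ∀ g ∈ X.U T, y⁻¹ * g * y ∈ X.U T'

theorem comm_x_mem (hl : ∀ r s : Rt D, ln r = ln s) {T : Set (Rt D)} {s a : Rt D} (h1 : a ≠ ng s)
    (h2 : A s a = -1 → refl s a ∈ T) (t u : K) : (X.x s t)⁻¹ * ((X.x a u)⁻¹ * X.x s t * X.x a u) ∈ X.U T := by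
  have := X.comm_mem (r := a) (s := s) (fun e => h1 (eq_ng_iff.1 e)) u t
  rw [← mul_assoc, ← mul_assoc]
  exact X.U_mono (fun k hk => by obtain ⟨e1, rfl⟩ := comb_eq hl h1 (Comb.symm hk); exact h2 e1) this

theorem nm_x (hl : ∀ r s : Rt D, ln r = ln s) {T T' : Set (Rt D)} {a : Rt D}
    (h : ∀ s ∈ T, s ∈ T' ∧ a ≠ ng s ∧ (A s a = -1 → refl s a ∈ T')) (u : K) : Nm X T T' (X.x a u) := fun g hg =>
  X.U_induction (P := fun g => (X.x a u)⁻¹ * g * X.x a u ∈ X.U T') (by simp) (fun s hs t y _ hy => by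
    have := mul_mem hy (mul_mem (X.x_mem_U (h s hs).1 t) (comm_x_mem hl (h s hs).2.1 (h s hs).2.2 t u))
    convert this using 1; group) hg

theorem nm_U (hl : ∀ r s : Rt D, ln r = ln s) {T B : Set (Rt D)}
    (h : ∀ a ∈ B, ∀ s ∈ T, a ≠ ng s ∧ (A s a = -1 → refl s a ∈ T)) {y : H} (hy : y ∈ X.U B) : Nm X T T y :=
  X.U_induction (P := Nm X T T) (fun g hg => by simpa using hg) (fun a ha u y _ ih g hg => by
    have := nm_x hl (fun s hs => ⟨hs, h a ha s hs⟩) u _ (ih g hg)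
    convert this using 1; group) hy

theorem comm_U_mem (hl : ∀ r s : Rt D, ln r = ln s) {T B : Set (Rt D)} {r : Rt D}
    (h : ∀ a ∈ B, ∀ s, s ∈ T ∨ s = r → a ≠ ng s ∧ (A s a = -1 → refl s a ∈ T)) {y : H} (hy : y ∈ X.U B) (t : K) :
    (X.x r t)⁻¹ * (y⁻¹ * X.x r t * y) ∈ X.U T :=
  X.U_induction (P := fun y => (X.x r t)⁻¹ * (y⁻¹ * X.x r t * y) ∈ X.U T) (by simp) (fun a ha u y _ ih => by
    have := mul_mem (comm_x_mem hl (h a ha r (.inr rfl)).1 (h a ha r (.inr rfl)).2 t u)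
      (nm_x hl (fun s hs => ⟨hs, h a ha s (.inl hs)⟩) u _ ih)
    convert this using 1; group) hy

theorem U_comm (hl : ∀ r s : Rt D, ln r = ln s) {T B : Set (Rt D)} (h : ∀ a ∈ B, ∀ s ∈ T, 0 ≤ A s a) {y g : H}
    (hy : y ∈ X.U B) (hg : g ∈ X.U T) : g * y = y * g :=
  X.U_induction (P := fun y => g * y = y * g) (by simp) (fun a ha u y _ ih => by
    rw [← mul_assoc, ih, mul_assoc, mul_assoc, X.U_induction (P := fun g => g * X.x a u = X.x a u * g) (by simp)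
      (fun s hs t g _ ih => by rw [mul_assoc, x_comm hl (h a ha s hs), ← mul_assoc, ih, mul_assoc]) hg]) hy

variable (ρ) in
/-- Vectors fixed by the fixed points in a unipotent subgroup. -/
def FS (T : Set (Rt D)) : Submodule ℂ M where
  carrier := {v | ∀ g : α.fix, g.1 ∈ X.U T → ρ g v = v}
  zero_mem' := fun _ _ => map_zero _
  add_mem' := fun {a b} ha hb g hg => by rw [map_add, ha g hg, hb g hg]
  smul_mem' := fun c a ha g hg => by rw [map_smul, ha g hg]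

theorem FS_anti {T T' : Set (Rt D)} (h : T ⊆ T') : FS ρ T' ≤ FS ρ T := fun _ hv g hg => hv g (X.U_mono h hg)

theorem FS_map {T T' : Set (Rt D)} {y : α.fix} (h : Nm X T T' y) {v : M} (hv : v ∈ FS ρ T') : ρ y v ∈ FS ρ T :=
  fun g hg => by
    rw [← rho_mul, show g * y = y * (y⁻¹ * g * y) by group, rho_mul, hv _ (h g hg)]

variable (S) in
/-- The orbit of a root. -/
def Ob (r : Rt D) : Set (Rt D) := {r, S.ρ r, S.ρ (S.ρ r)}

variable (α) in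
/-- An element of the fixed group. -/
noncomputable def mk (g : H) : α.fix := if h : g ∈ α.fix then ⟨g, h⟩ else 1

theorem coe_mk {g : H} (h : α.σ g = g) : (mk α g).1 = g := by rw [mk, dif_pos (Sys.Aut.mem_fix.2 h)]

variable (α φ) in
/-- Long root elements. -/
noncomputable def zz (r : Rt D) (t : fixF φ) : α.fix := mk α (X.x r t)

variable (α φ) in
/-- Hypotheses on a twisting endomorphism. -/
structure TwH : Prop where
  c : Nonempty X.Cover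
  hl : ∀ r s : Rt D, ln r = ln s
  hA : ∀ r s, A (S.ρ r) (S.ρ s) = A r s
  fx : ∀ r, S.ρ r = r → ∀ t, α.a r t = φ t
  nn : ∀ r, 0 ≤ A r (S.ρ r)
  o3 : (∀ r, S.ρ (S.ρ r) = r) ∨ ∀ r, S.ρ (S.ρ (S.ρ r)) = r

theorem mem_Ob (r : Rt D) : r ∈ Ob S r := .inl rfl

theorem Ob_fix {r : Rt D} (h : S.ρ r = r) : Ob S r = {r} := by simp [Ob, h]

namespace TwH

variable (h : TwH α φ)
include h

theorem ρ_mem_Ob {r s : Rt D} : S.ρ s ∈ Ob S r ↔ s ∈ Ob S r := by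
  have i : ∀ a b, S.ρ a = S.ρ b → a = b := fun a b e => S.ρ.injective e
  simp only [Ob, Set.mem_insert_iff, Set.mem_singleton_iff]
  rcases h.o3 with e | e <;> grind

theorem Ob_sub {T : Set (Rt D)} (hT : ∀ s ∈ T, S.ρ s ∈ T) {r : Rt D} (hr : r ∈ T) : Ob S r ⊆ T := by
  rintro _ (rfl | rfl | rfl)
  exacts [hr, hT _ hr, hT _ (hT _ hr)]

theorem Ob_symm {r s : Rt D} (e : s ∈ Ob S r) : r ∈ Ob S s := by
  simp only [Ob, Set.mem_insert_iff, Set.mem_singleton_iff] at *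
  rcases h.o3 with e | e <;> grind

theorem Ob_nn {r a b : Rt D} (ha : a ∈ Ob S r) (hb : b ∈ Ob S r) : 0 ≤ A a b := by
  have e1 := h.nn r
  have e2 : 0 ≤ A r (S.ρ (S.ρ r)) := by
    rcases h.o3 with e | e
    · rw [e, A_self]; omega
    · rw [← h.hA, e, A_symm h.hl]; exact e1
  have e3 := A_symm h.hl r (S.ρ r)
  have e4 := A_symm h.hl r (S.ρ (S.ρ r))
  rcases ha with rfl | rfl | rfl <;> rcases hb with rfl | rfl | rfl <;> (try simp only [h.hA, A_self]) <;> omega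

theorem A_Ob {r θ s : Rt D} (hθ : S.ρ θ = θ) (hs : s ∈ Ob S r) : A θ s = A θ r := by
  have e : ∀ a, A θ (S.ρ a) = A θ a := fun a => by nth_rewrite 1 [← hθ]; exact h.hA _ _
  rcases hs with rfl | rfl | rfl <;> simp only [e]

theorem ρ_refl (a b : Rt D) : S.ρ (refl a b) = refl (S.ρ a) (S.ρ b) := (eq_of_two_le h.hl (by
  rw [A_refl_right, h.hA, h.hA, h.hA, ← A_refl_right, A_self])).symm

theorem coe_zz {r : Rt D} (hr : S.ρ r = r) (t : fixF φ) : (zz α φ r t).1 = X.x r t :=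
  coe_mk (by rw [α.σ_x, hr, h.fx r hr, show φ t = t from t.2])

theorem zz_add {r : Rt D} (hr : S.ρ r = r) (t u : fixF φ) : zz α φ r (t + u) = zz α φ r t * zz α φ r u :=
  Subtype.ext (by simp [h.coe_zz hr, X.add])

theorem zz_comm {r s : Rt D} (hr : S.ρ r = r) (hs : S.ρ s = s) (e : 0 ≤ A r s) (t u : fixF φ) :
    zz α φ r t * zz α φ s u = zz α φ s u * zz α φ r t :=
  Subtype.ext (by simp [h.coe_zz hr, h.coe_zz hs, x_comm h.hl e])

theorem zz_lc {a b : Rt D} (ha : S.ρ a = a) (hb : S.ρ b = b) (e : A a b = -1) : ∃ ε : fixF φ, ε ≠ 0 ∧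
    ∀ t u, zz α φ a t * zz α φ b u = zz α φ b u * zz α φ a t * zz α φ (refl a b) (ε * u * t) := by
  obtain ⟨ε, h0, k⟩ := x_lc' (X := X) h.hl e
  refine ⟨ε, by rcases h0 with rfl | rfl <;> simp, fun t u => Subtype.ext ?_⟩
  simp [h.coe_zz ha, h.coe_zz hb, h.coe_zz (show S.ρ (refl a b) = refl a b by rw [h.ρ_refl, ha, hb]), k]

theorem FS_single {r : Rt D} (hr : S.ρ r = r) : FS ρ {r} = Eg ρ (zz α φ r) 0 := by
  obtain ⟨c⟩ := h.c
  refine le_antisymm (fun v hv => mem_Eg_zero.2 fun t => hv _ (by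
    rw [h.coe_zz hr]; exact X.x_mem_U (Set.mem_singleton _) _)) fun v hv g hg => ?_
  obtain ⟨t, ht⟩ := X.mem_U_singleton.1 hg
  have e := Sys.Aut.mem_fix.1 g.2
  rw [ht, α.σ_x, hr, h.fx r hr, ← mul_inv_eq_one, ← X.x_neg, ← X.add] at e
  rw [show g = zz α φ r ⟨t, add_neg_eq_zero.1 (c.x_eq_one e)⟩ from Subtype.ext (by rw [h.coe_zz hr, ht])]
  exact mem_Eg_zero.1 hv _

theorem a2z {r s : Rt D} (hr : S.ρ r = r) (hs : S.ρ s = s) (e : A r s = 1) {N : Submodule ℂ M}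
    (h1 : Sta ρ N (zz α φ r)) (h2 : Sta ρ N (zz α φ s)) (h3 : Sta ρ N (zz α φ (refl s r)))
    (h4 : Sta ρ N (zz α φ (refl r s))) : ∃ d, finrank ℂ N = finrank ℂ ↥(N ⊓ Eg ρ (zz α φ r) 0) +
      (Fintype.card (fixF φ) - 1) * (Fintype.card (fixF φ) * d) ∧ finrank ℂ ↥(N ⊓ Eg ρ (zz α φ r) 0) =
      finrank ℂ ↥(N ⊓ Eg ρ (zz α φ r) 0 ⊓ Eg ρ (zz α φ s) 0) + (Fintype.card (fixF φ) - 1) * d ∧
    ∀ χ ≠ 0, finrank ℂ ↥(N ⊓ Eg ρ (zz α φ r) 0 ⊓ Eg ρ (zz α φ s) χ) = d := by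
  have e' : A s r = 1 := A_symm h.hl r s ▸ e
  have f1 : S.ρ (refl s r) = refl s r := by rw [h.ρ_refl, hr, hs]
  have f2 : S.ρ (refl r s) = refl r s := by rw [h.ρ_refl, hr, hs]
  have r1 := h.zz_lc hs f1 (by rw [A_refl_self, e'])
  have r2 := h.zz_lc hr f2 (by rw [A_refl_self, e])
  rw [refl_refl] at r1 r2
  exact a2g (h.zz_add hr) (h.zz_add hs) (h.zz_comm hr hs (by omega))
    (h.zz_comm hr f1 (by rw [A_refl_right, A_self, e, e']; omega))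
    (h.zz_comm hs f2 (by rw [A_refl_right, A_self, e, e']; omega)) r1 r2 h1 h2 h3 h4

theorem mem_FS {ψ : Fn D} (hψ : ∀ r, ψ (rtv (S.ρ r)) = ψ (rtv r)) {T : Set (Rt D)} (hT : Nilp ψ T)
    (h1 : ∀ s ∈ T, S.ρ s ∈ T) {v : M} (hv : ∀ s ∈ T, v ∈ FS ρ (Ob S s)) : v ∈ FS ρ T := by
  obtain ⟨c⟩ := h.c
  induction hn : T.ncard using Nat.strong_induction_on generalizing T with
  | _ n ih =>
  rcases T.eq_empty_or_nonempty with rfl | h0
  · intro g hg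
    rw [X.U_empty, Subgroup.mem_bot] at hg
    rw [show g = 1 from Subtype.ext hg, map_one]; rfl
  obtain ⟨r, hr, hm⟩ := T.exists_min_image (fun r => ψ (rtv r)) (Set.toFinite _) h0
  have e1 : ∀ s ∈ Ob S r, ψ (rtv s) = ψ (rtv r) := by rintro _ (rfl | rfl | rfl) <;> simp only [hψ]
  have n1 : Nilp ψ (T ∩ Ob S r) := ⟨fun s hs => hT.pos s hs.1, fun a ha b hb k hk =>
    absurd hk (not_comb_of_long (.inr fun k => (h.hl k a).le) (h.Ob_nn ha.2 hb.2) k)⟩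
  have n2 : Nilp ψ (T \ Ob S r) := ⟨fun s hs => hT.pos s hs.1, fun a ha b hb k hk =>
    ⟨hT.closed a ha.1 b hb.1 k hk, fun e => by
      have := hk.le ψ (hT.pos a ha.1).le (hT.pos b hb.1).le
      have := hm a ha.1
      have := hT.pos b hb.1
      have := e1 k e
      omega⟩⟩
  have s2 : ∀ s ∈ T \ Ob S r, S.ρ s ∈ T \ Ob S r := fun s hs => ⟨h1 s hs.1, fun e => hs.2 (h.ρ_mem_Ob.1 e)⟩
  intro g hg
  obtain ⟨a, ha, b, hb, e⟩ := X.exists_mul hT (Ob S r) hg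
  have k1 := α.σ_mem_U (T' := T ∩ Ob S r) (fun s hs => ⟨h1 s hs.1, h.ρ_mem_Ob.2 hs.2⟩) ha
  have k2 := α.σ_mem_U s2 hb
  have k3 := Sys.Aut.mem_fix.1 g.2
  rw [e, map_mul] at k3
  have k4 : a⁻¹ * α.σ a ∈ X.U (T ∩ Ob S r) ⊓ X.U (T \ Ob S r) :=
    Subgroup.mem_inf.2 ⟨Subgroup.mul_mem _ (Subgroup.inv_mem _ ha) k1, by
    rw [show a⁻¹ * α.σ a = b * (α.σ b)⁻¹ by rw [inv_mul_eq_iff_eq_mul, ← mul_assoc, ← k3, mul_inv_cancel_right]]
    exact mul_mem hb (inv_mem k2)⟩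
  rw [c.U_inf_U n1 n2, show T ∩ Ob S r ∩ (T \ Ob S r) = ∅ by ext; simp +contextual, X.U_empty, Subgroup.mem_bot,
    inv_mul_eq_one] at k4
  rw [← k4, mul_right_inj] at k3
  rw [show g = ⟨a, k4.symm⟩ * ⟨b, k3⟩ from Subtype.ext e, rho_mul,
    ih _ (hn ▸ Set.ncard_lt_ncard ⟨Set.sdiff_subset, fun e => (e hr).2 (mem_Ob r)⟩) n2 s2 (fun s hs => hv s hs.1) rfl _ hb,
    hv r hr _ (X.U_mono Set.inter_subset_right ha)]

theorem exists_h {a : Rt D} (ha : S.ρ a = a) {c : fixF φ} (hc : c ≠ 0) : ∃ y : α.fix, (∀ T, Nm X T T y) ∧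
    ∀ r, S.ρ r = r → ∀ (χ : AddChar (fixF φ) ℂ), ∀ v ∈ Eg ρ (zz α φ r) (χ.mulShift (c ^ A a r)),
      ρ y v ∈ Eg ρ (zz α φ r) χ := by
  have c0 : (c : K) ≠ 0 := by simpa using hc
  have e : α.σ (X.h a c) = X.h a c := by
    rw [α.σ_h, ha, h.fx a ha, h.fx a ha, map_one, X.h_one, inv_one, mul_one, show φ c = c from c.2]
  have e2 : ∀ s t, (X.h a c)⁻¹ * X.x s t * X.h a c = X.x s (((c : K) ^ A a s)⁻¹ * t) := fun s t => by
    rw [← mul_inv_cancel_left₀ (zpow_ne_zero (A a s) c0) t, ← X.h_conj a s c0, mul_inv_cancel_left₀ (zpow_ne_zero _ c0)]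
    group
  refine ⟨⟨_, e⟩, fun T g hg => X.U_induction (P := fun g => (X.h a c)⁻¹ * g * X.h a c ∈ X.U T) (by simp)
    (fun s hs t y _ hy => by
      have := mul_mem hy (e2 s t ▸ X.x_mem_U hs _)
      convert this using 1; group) hg, fun r hr χ v hv t => ?_⟩
  rw [← rho_mul, show zz α φ r t * ⟨_, e⟩ = ⟨_, e⟩ * zz α φ r ((c ^ A a r)⁻¹ * t) from Subtype.ext (by
    simp only [Subgroup.coe_mul, h.coe_zz hr]
    rw [show (((c ^ A a r)⁻¹ * t : fixF φ) : K) = ((c : K) ^ A a r)⁻¹ * t from by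
      rw [← show ((c ^ A a r : fixF φ) : K) = (c : K) ^ A a r from map_zpow₀ (fixF φ).subtype c _]; simp, ← e2]; group), rho_mul, hv, map_smul, AddChar.mulShift_apply, mul_inv_cancel_left₀ (zpow_ne_zero _ hc)]

end TwH

end Cfsg.Agent.MinD
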