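import Cfsg.Agent.MinD.Tw1

/-! Minimal degrees of twisted groups, part 2: stability lemmas, orbit families and trace forms. -/

set_option autoImplicit false
set_option linter.unusedSectionVars false

namespace Cfsg.Agent.MinD

open Module Cfsg.Lie Cfsg.Agent.Chev Cfsg.Agent.Mult Cfsg.Agent.ChAut
open scoped _root_.Classical

theorem comm_mul2 {H : Type*} [Group H] {a a' b b' z z' : H} (h : a * b = b * a * z) (h' : a' * b' = b' * a' * z')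
    (h1 : a * b' = b' * a) (h2 : a' * b = b * a') (h3 : z * a' = a' * z) (h4 : z * b' = b' * z) :
    a * a' * (b * b') = b * b' * (a * a') * (z * z') :=
  calc a * a' * (b * b') = a * (a' * b) * b' := by group
    _ = a * b * (a' * b') := by rw [h2]; group
    _ = b * a * (z * b') * a' * z' := by rw [h, h']; group
    _ = b * (a * b') * (z * a') * z' := by rw [h4]; group
    _ = _ := by rw [h1, h3]; group

theorem heis_tr {F K : Type*} [Field F] [Fintype F] [Field K] [Fintype K] {G : Type*} [Group G] [Finite G] {M : Type*}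
    [AddCommGroup M] [Module ℂ M] [FiniteDimensional ℂ M] {ρ : Representation ℂ G M} {x : F → G} {z y : K → G}
    {τ : K →+ F} (hτ : Function.Surjective τ) (hz : ∀ t u, z (t + u) = z t * z u)
    (r : ∃ ε : K, ε ≠ 0 ∧ ∀ t u, z t * y u = y u * z t * x (τ (ε * u * t))) {χ : AddChar F ℂ} (hχ : χ ≠ 0)
    {N : Submodule ℂ M} (hN : N ≤ Eg ρ x χ) (h1 : Sta ρ N z) (h2 : Sta ρ N y) :
    finrank ℂ N = Fintype.card K * finrank ℂ ↥(N ⊓ Eg ρ z 0) := by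
  obtain ⟨φ, hφ, e⟩ := heis_fam (ρ := ρ) (x := fun t => x (τ t)) r (χ := χ.compAddMonoidHom τ) fun e => hχ
    (DFunLike.ext _ _ fun t => by obtain ⟨s, rfl⟩ := hτ t; exact DFunLike.congr_fun e s)
  exact heis_eq hz h1 h2 hφ (fun t u v hv => e t u v fun s => hN hv _) 0

theorem surj_of_lin {K : Type*} [Field K] {φ : K →+* K} {τ : K →+ fixF φ} (h : ∀ (c : fixF φ) t, τ (c * t) = c * τ t)
    {s : K} (h0 : τ s ≠ 0) : Function.Surjective τ := fun c =>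
  ⟨(c * (τ s)⁻¹ : fixF φ) * s, by rw [h, inv_mul_cancel_right₀ h0]⟩

theorem exists_not_fix {K : Type*} [Field K] [Finite K] {φ : K →+* K} {q n : ℕ} (hφ : ∀ t, φ t = t ^ q) (hq : 1 < q)
    (hn : 1 < n) (hK : Nat.card K = q ^ n) : ∃ s, φ s ≠ s := by
  by_contra! h
  have := card_fixF hφ hq hK
  rw [show fixF φ = ⊤ from eq_top_iff.2 fun s _ => h s, Nat.card_congr Subfield.topEquiv.toEquiv, hK] at this
  exact (Nat.pow_right_injective hq (this.trans (pow_one q).symm)).not_gt hn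

variable {D : ChevalleyDatum} [Good D] [Conn D] {K : Type*} [Field K] [Fintype K] {H : Type*} [Group H] [Finite H]
  {X : Sys D K H} {S : Sym D} {α : X.Aut S} {φ : K →+* K}
  {M : Type*} [AddCommGroup M] [Module ℂ M] [FiniteDimensional ℂ M] {ρ : Representation ℂ α.fix M}

namespace TwH

variable (h : TwH α φ)
include h

theorem zz_mem {r : Rt D} (hr : S.ρ r = r) (t : fixF φ) : (zz α φ r t).1 ∈ X.U {r} := by
  rw [h.coe_zz hr]; exact X.x_mem_U (Set.mem_singleton _) _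

theorem sta_FS {B T : Set (Rt D)} {ι : Type*} {y : ι → α.fix} (hy : ∀ t, (y t).1 ∈ X.U B)
    (k : ∀ a ∈ B, ∀ s ∈ T, a ≠ ng s ∧ (A s a = -1 → refl s a ∈ T)) : Sta ρ (FS ρ T) y := fun t _ hv =>
  FS_map (nm_U h.hl k (hy t)) hv

theorem eg_step {B T : Set (Rt D)} {r : Rt D} (hr : S.ρ r = r) {y : α.fix} (hy : y.1 ∈ X.U B)
    (k : ∀ a ∈ B, ∀ s, s ∈ T ∨ s = r → a ≠ ng s ∧ (A s a = -1 → refl s a ∈ T)) {χ : AddChar (fixF φ) ℂ} {v : M}
    (h1 : v ∈ FS ρ T) (h2 : v ∈ Eg ρ (zz α φ r) χ) : ρ y v ∈ Eg ρ (zz α φ r) χ := fun t => by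
  rw [← rho_mul, show zz α φ r t * y = y * (zz α φ r t * ((zz α φ r t)⁻¹ * (y⁻¹ * zz α φ r t * y))) by group, rho_mul,
    rho_mul, h1 _ (by simpa [h.coe_zz hr] using comm_U_mem h.hl k hy t), h2, map_smul]

theorem sta_comm {B T : Set (Rt D)} {ι A' : Type*} [AddCommGroup A'] [Fintype A'] {x : A' → α.fix} {y : ι → α.fix}
    (hx : ∀ t, (x t).1 ∈ X.U T) (hy : ∀ t, (y t).1 ∈ X.U B) (k : ∀ a ∈ B, ∀ s ∈ T, 0 ≤ A s a) (χ : AddChar A' ℂ) :
    Sta ρ (Eg ρ x χ) y :=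
  sta_Eg (fun t u => Subtype.ext (U_comm h.hl k (hy u) (hx t))) χ

theorem Eg_le_FS {ψ : Fn D} (hψ : ∀ r, ψ (rtv (S.ρ r)) = ψ (rtv r)) {r : Rt D} (h0 : 0 < ψ (rtv r)) {y : K → α.fix}
    (hy : ∀ t, (X.x r t)⁻¹ * (y t).1 ∈ X.U (Ob S r \ {r})) : Eg ρ y 0 ≤ FS ρ (Ob S r) := fun v hv g hg => by
  obtain ⟨c⟩ := h.c
  have n0 : ∀ T ⊆ Ob S r, Nilp ψ T := fun T hT => ⟨fun s hs => by
    rcases hT hs with rfl | rfl | rfl <;> simpa only [hψ], fun a ha b hb k hk =>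
    absurd hk (not_comb_of_long (.inr fun k => (h.hl k a).le) (h.Ob_nn (hT ha) (hT hb)) k)⟩
  obtain ⟨a, ha, b, hb, e⟩ := X.exists_mul (n0 _ le_rfl) {r} hg
  obtain ⟨t, rfl⟩ := X.mem_U_singleton.1 (X.U_mono Set.inter_subset_right ha)
  have k0 : ((y t)⁻¹ * g).1 ∈ X.U (Ob S r \ {r}) := by
    have := mul_mem (inv_mem (hy t)) hb
    rw [Subgroup.coe_mul, Subgroup.coe_inv, e]
    convert this using 1; group
  have st : ∀ s, ((y t)⁻¹ * g).1 ∈ X.U (Ob S r \ {s}) → ((y t)⁻¹ * g).1 ∈ X.U (Ob S r \ {S.ρ s}) := fun s hs => by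
    rw [← Sys.Aut.mem_fix.1 ((y t)⁻¹ * g).2]
    exact α.σ_mem_U (fun k hk => by exact ⟨h.ρ_mem_Ob.2 hk.1, fun e => hk.2 (S.ρ.injective e)⟩) hs
  have k1 := Subgroup.mem_inf.2 ⟨k0, st _ k0⟩
  rw [c.U_inf_U (n0 _ Set.sdiff_subset) (n0 _ Set.sdiff_subset)] at k1
  have k2 := Subgroup.mem_inf.2 ⟨k1, st _ (st _ k0)⟩
  rw [c.U_inf_U (n0 _ (Set.inter_subset_left.trans Set.sdiff_subset)) (n0 _ Set.sdiff_subset),
    show (Ob S r \ {r}) ∩ (Ob S r \ {S.ρ r}) ∩ (Ob S r \ {S.ρ (S.ρ r)}) = ∅ by ext; simp [Ob]; tauto, X.U_empty,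
    Subgroup.mem_bot, OneMemClass.coe_eq_one, inv_mul_eq_one] at k2
  exact k2 ▸ mem_Eg_zero.1 hv t

theorem all_chars {r a : Rt D} (hr : S.ρ r = r) (ha : S.ρ a = a) (e : A a r = 1) {T : Set (Rt D)}
    (st : Sta ρ (FS ρ T) (zz α φ r)) (h0 : ¬ FS ρ T ≤ Eg ρ (zz α φ r) 0) {χ : AddChar (fixF φ) ℂ} (hχ : χ ≠ 0) :
    FS ρ T ⊓ Eg ρ (zz α φ r) χ ≠ ⊥ := by
  obtain ⟨χ0, h1, hb⟩ := exists_Eg (h.zz_add hr) st h0
  obtain ⟨c, hc, e'⟩ := exists_mulShift hχ h1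
  obtain ⟨y, y1, y2⟩ := h.exists_h (ρ := ρ) ha hc
  exact ne_bot_of_rho y (fun v hv => by exact ⟨FS_map (y1 T) hv.1, y2 r hr χ v (by rw [e, zpow_one, e']; exact hv.2)⟩) hb

theorem pull (c : X.Cover) {Γ : Subgroup (GL D.Idx K)} [IsSimpleGroup Γ] (e : α.fix.map c.π ≤ Γ)
    (ρ : Representation ℂ Γ M) {g : Γ} (hg : ρ g ≠ 1) : ∃ ρ' : Representation ℂ α.fix M,
      ∀ r, S.ρ r = r → ¬ ⊤ ≤ Eg ρ' (zz α φ r) 0 := by
  let f : α.fix →* Γ := (c.π.comp α.fix.subtype).codRestrict Γ fun y => e ⟨y, y.2, rfl⟩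
  refine ⟨ρ.comp f, fun r hr hle => ?_⟩
  have h1 : f (zz α φ r 1) ∈ MonoidHom.ker ρ := LinearMap.ext fun v => mem_Eg_zero.1 (hle trivial) 1
  rcases (MonoidHom.normal_ker ρ).eq_bot_or_eq_top with e | e
  · rw [e, Subgroup.mem_bot, Subtype.ext_iff] at h1
    change c.π (zz α φ r 1).1 = 1 at h1
    rw [h.coe_zz hr, c.π_x] at h1
    simpa using (Sys.adCover D K).x_eq_one h1
  · exact hg (e.ge (Subgroup.mem_top g))

end TwH

end Cfsg.Agent.MinD
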