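import Cfsg.Agent.MinD.Tw2
import Mathlib.FieldTheory.Finite.Trace

/-! Minimal degrees of twisted groups, part 3: orbit families for a twisting map of order three. -/

set_option autoImplicit false
set_option linter.unusedSectionVars false

namespace Cfsg.Agent.MinD

open Module Cfsg.Lie Cfsg.Agent.Chev Cfsg.Agent.Mult Cfsg.Agent.ChAut
open scoped _root_.Classical

variable {D : ChevalleyDatum} [Good D] [Conn D] {K : Type*} [Field K] [Fintype K] {H : Type*} [Group H] [Finite H]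
  {X : Sys D K H} {S : Sym D} {α : X.Aut S} {φ : K →+* K}
  {M : Type*} [AddCommGroup M] [Module ℂ M] [FiniteDimensional ℂ M] {ρ : Representation ℂ α.fix M}

/-- The trace for order three. -/
def τ3 (h2 : ∀ t, φ (φ (φ t)) = t) : K →+ fixF φ :=
  AddMonoidHom.mk' (fun t => ⟨t + (φ t + φ (φ t)), show φ _ = _ by simp only [map_add, h2, RingHom.id_apply]; ring⟩)
    fun a b => Subtype.ext (by simp only [map_add, Subfield.coe_add]; ring)

theorem τ3_surj (h2 : ∀ t, φ (φ (φ t)) = t) {s : K} (hs : φ s ≠ s) : Function.Surjective (τ3 h2) := by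
  have : ∃ t, τ3 h2 t ≠ 0 := by
    by_contra! h
    have e : ∀ t, t + (φ t + φ (φ t)) = 0 := fun t => congrArg Subtype.val (h t)
    have e1 := e (s * s)
    simp only [map_mul] at e1
    have e2 : (φ s - s) * (φ s - φ (φ s)) = 0 := by
      have := e 1
      simp only [map_one] at this
      linear_combination e1 - (φ (φ s) + s) * e s + (s * φ (φ s)) * this
    exact hs (φ.injective (sub_eq_zero.1 ((mul_eq_zero.1 e2).resolve_left (sub_ne_zero.2 hs)))).symm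
  obtain ⟨t, ht⟩ := this
  exact surj_of_lin (fun c t => Subtype.ext (by
    change _ + _ = (c : K) * (_ + _)
    simp only [map_mul, show φ c = c from c.2]; ring)) ht

theorem exists_norm3 {q : ℕ} (hφ : ∀ t, φ t = t ^ q) (hq : 1 < q) (hK : Nat.card K = q ^ 3) (c : fixF φ) :
    ∃ t : K, t * φ t * φ (φ t) = c := by
  obtain ⟨t, rfl⟩ := FiniteField.norm_surjective (fixF φ) K c
  have e := card_fixF hφ hq hK
  have e2 : finrank (fixF φ) K = 3 :=
    Nat.pow_right_injective hq (by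
      beta_reduce; rw [← hK, ← e]; exact (Module.natCard_eq_pow_finrank).symm)
  refine ⟨t, .trans ?_ (FiniteField.algebraMap_norm_eq_prod_pow (fixF φ) K t).symm⟩
  simp only [e2, e, Finset.prod_range_succ, Finset.prod_range_zero, hφ]
  ring

variable (α) in
/-- Orbit elements for order three. -/
noncomputable def y3 (r : Rt D) (t : K) : α.fix := mk α (X.x r t * (α.σ (X.x r t) * α.σ (α.σ (X.x r t))))

namespace TwH

variable (h : TwH α φ) (o3 : ∀ r t, α.σ (α.σ (α.σ (X.x r t))) = X.x r t)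
include h

theorem cm1 {a b : Rt D} (e : 0 ≤ A a (S.ρ b)) (t u : K) : Commute (X.x a t) (α.σ (X.x b u)) := by
  rw [α.σ_x]; exact x_comm h.hl e _ _

theorem cm2 {a b : Rt D} (e : 0 ≤ A a (S.ρ (S.ρ b))) (t u : K) : Commute (X.x a t) (α.σ (α.σ (X.x b u))) := by
  rw [α.σ_x]; exact h.cm1 e _ _

include o3

theorem coe_y3 (r : Rt D) (t : K) : (y3 α r t).1 = X.x r t * (α.σ (X.x r t) * α.σ (α.σ (X.x r t))) := coe_mk (by
  rw [map_mul, map_mul, o3, ((h.cm1 (h.nn r) t t).mul_right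
    (h.cm2 (h.Ob_nn (mem_Ob r) (.inr (.inr rfl))) t t)).eq, mul_assoc])

theorem y3_mem (r : Rt D) (t : K) : (y3 α r t).1 ∈ X.U (Ob S r) := by
  rw [h.coe_y3 o3, α.σ_x, α.σ_x]
  exact mul_mem (X.x_mem_U (mem_Ob r) _) (mul_mem (X.x_mem_U (.inr (.inl rfl)) _) (X.x_mem_U (.inr (.inr rfl)) _))

theorem y3_add (r : Rt D) (t u : K) : y3 α r (t + u) = y3 α r t * y3 α r u := Subtype.ext (by
  have c1 := fun t u => h.cm1 (h.nn r) t u
  have c2 := fun t u => h.cm2 (h.Ob_nn (mem_Ob r) (.inr (.inr rfl))) t u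
  rw [Subgroup.coe_mul, h.coe_y3 o3, h.coe_y3 o3, h.coe_y3 o3, X.add, map_mul, map_mul,
    ((c1 u t).map α.σ).mul_mul_mul_comm, ((c1 u t).mul_right (c2 u t)).mul_mul_mul_comm])

theorem y3_le {ψ : Fn D} (hψ : ∀ r, ψ (rtv (S.ρ r)) = ψ (rtv r)) {r : Rt D} (h0 : 0 < ψ (rtv r)) (e1 : S.ρ r ≠ r)
    (e2 : S.ρ (S.ρ r) ≠ r) : Eg ρ (y3 α r) 0 ≤ FS ρ (Ob S r) := h.Eg_le_FS hψ h0 fun t => by
  rw [h.coe_y3 o3, inv_mul_cancel_left, α.σ_x, α.σ_x]
  exact mul_mem (X.x_mem_U (by exact ⟨.inr (.inl rfl), e1⟩) _) (X.x_mem_U (by exact ⟨.inr (.inr rfl), e2⟩) _)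

theorem y3_lc (h2 : ∀ t, φ (φ (φ t)) = t) {a b : Rt D} (e : A a b = -1) (hz : S.ρ (refl a b) = refl a b)
    (e1 : 0 ≤ A a (S.ρ b)) (e2 : 0 ≤ A a (S.ρ (S.ρ b))) : ∃ ε : K, ε ≠ 0 ∧ ∀ t u,
      y3 α a t * y3 α b u = y3 α b u * y3 α a t * zz α φ (refl a b) (τ3 h2 (ε * u * t)) := by
  obtain ⟨ε, h0, k⟩ := x_lc (X := X) h.hl e
  refine ⟨ε, h0, fun t u => Subtype.ext ?_⟩
  have a1 : A (refl a b) a = 1 := by rw [A_symm h.hl, A_refl_self, e]; rfl
  have a2 : A (refl a b) b = 1 := by rw [A_symm h.hl, ← refl_comm h.hl e, A_refl_self, A_symm h.hl, e]; rfl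
  have z1 : ∀ r, A (refl a b) r = 1 → ∀ s t, Commute (X.x (refl a b) s) (α.σ (X.x r t)) ∧
      Commute (X.x (refl a b) s) (α.σ (α.σ (X.x r t))) := fun r hr s t =>
    ⟨h.cm1 (by rw [h.A_Ob hz (r := r) (.inr (.inl rfl)), hr]; omega) _ _,
      h.cm2 (by rw [h.A_Ob hz (r := r) (.inr (.inr rfl)), hr]; omega) _ _⟩
  have p1 := h.cm1 e1 t u
  have p2 := h.cm2 e2 t u
  have q1 := p2.map α.σ
  have q2 := (p1.map α.σ).map α.σ
  rw [o3] at q1 q2
  have k1 := congrArg α.σ (k t u)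
  simp only [map_mul] at k1
  have k2 := congrArg α.σ (comm_mul2 (k t u) k1 p1 q1 (z1 a a1 _ _).1 (z1 b a2 _ _).1)
  simp only [map_mul] at k2
  simp only [Subgroup.coe_mul, h.coe_y3 o3, h.coe_zz hz]
  rw [comm_mul2 (k t u) k2 (p1.mul_right p2) (q1.mul_left q2) ((z1 a a1 _ _).1.mul_right (z1 a a1 _ _).2)
    ((z1 b a2 _ _).1.mul_right (z1 b a2 _ _).2)]
  simp only [α.σ_x, hz, h.fx _ hz, ← X.add]
  rfl

theorem y3_conj {r : Rt D} {g : α.fix} {t u : K} (e : g.1 * X.x r t = X.x r u * g.1) :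
    g * y3 α r t = y3 α r u * g := Subtype.ext (by
  have e1 := congrArg α.σ e
  rw [map_mul, map_mul, Sys.Aut.mem_fix.1 g.2] at e1
  have e2 := congrArg α.σ e1
  rw [map_mul, map_mul, Sys.Aut.mem_fix.1 g.2] at e2
  simp only [Subgroup.coe_mul, h.coe_y3 o3]
  rw [← mul_assoc, e, mul_assoc, ← mul_assoc g.1, e1, mul_assoc, e2]; simp only [mul_assoc])

end TwH

instance instDecMemOb (r s : Rt D) : Decidable (s ∈ Ob S r) :=
  inferInstanceAs (Decidable (s = r ∨ s = S.ρ r ∨ s = S.ρ (S.ρ r)))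

theorem eq_zero_of_Eg {A' G : Type*} [AddCommGroup A'] [Fintype A'] [Group G] [Finite G] {ρ : Representation ℂ G M}
    {x : A' → G} {χ : AddChar A' ℂ} {v : M} (h0 : v ≠ 0) (h1 : v ∈ Eg ρ x χ) (h2 : v ∈ Eg ρ x 0) : χ = 0 :=
  DFunLike.ext _ _ fun t => smul_left_injective ℂ h0 ((h1 t).symm.trans (h2 t))

omit [Conn D] in
theorem refl_add {a b : Rt D} (e : A a b = -1) : refl a b = add a b :=
  eq_add (N_ne_zero_of_add (rtv_refl_of_neg_one e)) (rtv_refl_of_neg_one e)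

omit [Conn D] in
theorem refl_eq {a b c : Rt D} (e : A a b = -1 ∧ add a b = c) : refl a b = c := (refl_add e.1).trans e.2

theorem comm_UU (hl : ∀ r s : Rt D, ln r = ln s) {T B C : Set (Rt D)}
    (h : ∀ a ∈ B, ∀ s, s ∈ T ∨ s ∈ C → a ≠ ng s ∧ (A s a = -1 → refl s a ∈ T))
    (h' : ∀ a ∈ C, ∀ s ∈ T, a ≠ ng s ∧ (A s a = -1 → refl s a ∈ T)) {y g : H} (hy : y ∈ X.U B) (hg : g ∈ X.U C) :
    g⁻¹ * (y⁻¹ * g * y) ∈ X.U T :=
  X.U_induction (P := fun g => g⁻¹ * (y⁻¹ * g * y) ∈ X.U T) (by simp) (fun a ha u g _ ih => by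
    have := mul_mem (nm_x hl (fun s hs => ⟨hs, h' a ha s hs⟩) u _ ih)
      (comm_U_mem hl (fun b hb s hs => h b hb s (hs.imp_right fun e : s = a => by rwa [e])) hy u)
    convert this using 1; group) hg

theorem nilp_of (hl : ∀ r s : Rt D, ln r = ln s) {ψ : Fn D} {T : Set (Rt D)} (h1 : ∀ s ∈ T, 0 < ψ (rtv s))
    (h2 : ∀ a ∈ T, ∀ b ∈ T, A a b = -1 → refl a b ∈ T) : Nilp ψ T := ⟨h1, fun a ha b hb k hk => by
  obtain ⟨e, rfl⟩ := comb_eq hl (fun e => by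
    have := h1 a ha
    have := h1 b hb
    rw [e, rtv_ng, map_neg] at this
    omega) hk
  exact h2 a ha b hb e⟩

end Cfsg.Agent.MinD
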