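import Cfsg.Agent.MinD.Tw3

/-! Minimal degrees of twisted groups, part 5: orbit families and Heisenberg groups for a twisting map of order two. -/

set_option autoImplicit false
set_option linter.unusedSectionVars false

namespace Cfsg.Agent.MinD

open Module Cfsg.Lie Cfsg.Agent.Chev Cfsg.Agent.Mult Cfsg.Agent.ChAut
open scoped _root_.Classical

variable {D : ChevalleyDatum} [Good D] [Conn D] {K : Type*} [Field K] [Fintype K] {H : Type*} [Group H] [Finite H]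
  {X : Sys D K H} {S : Sym D} {α : X.Aut S} {φ : K →+* K}
  {M : Type*} [AddCommGroup M] [Module ℂ M] [FiniteDimensional ℂ M] {ρ : Representation ℂ α.fix M}

/-- The trace for order two. -/
def τ2 (h2 : ∀ t, φ (φ t) = t) : K →+ fixF φ :=
  AddMonoidHom.mk' (fun t => ⟨t + φ t, show φ _ = _ by simp only [map_add, h2, RingHom.id_apply]; ring⟩)
    fun a b => Subtype.ext (by simp only [map_add, Subfield.coe_add]; ring)

theorem τ2_surj (h2 : ∀ t, φ (φ t) = t) {s : K} (hs : φ s ≠ s) : Function.Surjective (τ2 h2) := by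
  have : ∃ t, τ2 h2 t ≠ 0 := by
    by_contra! h
    have e : ∀ t, t + φ t = 0 := fun t => congrArg Subtype.val (h t)
    exact hs (by linear_combination e s - s * e 1 + s * map_one φ)
  obtain ⟨t, ht⟩ := this
  exact surj_of_lin (fun c t => Subtype.ext (by
    change _ + _ = (c : K) * (_ + _)
    simp only [map_mul, show φ c = c from c.2]; ring)) ht

variable (α) in
/-- Orbit elements for order two. -/
noncomputable def y2 (r : Rt D) (t : K) : α.fix := mk α (X.x r t * α.σ (X.x r t))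

variable (ρ) in
/-- Stability under the fixed points of a unipotent subgroup. -/
def StU (N : Submodule ℂ M) (T : Set (Rt D)) : Prop := ∀ g : α.fix, g.1 ∈ X.U T → ∀ v ∈ N, ρ g v ∈ N

theorem StU.inf {N N' : Submodule ℂ M} {T : Set (Rt D)} (h : StU ρ N T) (h' : StU ρ N' T) : StU ρ (N ⊓ N') T :=
  fun g hg v hv => ⟨h g hg v hv.1, h' g hg v hv.2⟩

variable (ρ) in
/-- Vectors fixed by several orbit groups. -/
def FO (I : Set (Rt D)) : Submodule ℂ M := ⨅ a ∈ I, FS ρ (Ob S a)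

theorem mem_FO {I : Set (Rt D)} {v : M} : v ∈ FO ρ I ↔ ∀ a ∈ I, v ∈ FS ρ (Ob S a) := by
  simp [FO, Submodule.mem_iInf]

variable (α φ) in
/-- Hypotheses on a twisting endomorphism of order two. -/
structure T2 : Prop extends TwH α φ where
  o2 : ∀ r t, α.σ (α.σ (X.x r t)) = X.x r t
  ρ2 : ∀ r, S.ρ (S.ρ r) = r
  h2 : ∀ t, φ (φ t) = t
  nf : ∃ s, φ s ≠ s
  hh : ∀ r, ht (S.ρ r) = ht r
  cK : Fintype.card K = Fintype.card (fixF φ) ^ 2

namespace T2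

variable (h : T2 α φ)
include h

theorem stU_FS {B T : Set (Rt D)} (k : ∀ a ∈ B, ∀ s ∈ T, a ≠ ng s ∧ (A s a = -1 → refl s a ∈ T)) :
    StU ρ (FS ρ T) B := fun _ hg _ hv => FS_map (nm_U h.hl k hg) hv

theorem stU_Eg {r a : Rt D} (hr : S.ρ r = r) (e : 0 ≤ A r a) (χ : AddChar (fixF φ) ℂ) :
    StU ρ (Eg ρ (zz α φ r) χ) (Ob S a) := fun g hg =>
  h.sta_comm (y := fun _ : Unit => g) (h.zz_mem hr) (fun _ => hg) (fun s hs _ e' => by rwa [e', h.A_Ob hr hs]) χ ()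

theorem coe_y2 (r : Rt D) (t : K) : (y2 α r t).1 = X.x r t * α.σ (X.x r t) :=
  coe_mk (by rw [map_mul, h.o2, (h.cm1 (h.nn r) t t).eq])

theorem y2_mem (r : Rt D) (t : K) : (y2 α r t).1 ∈ X.U (Ob S r) := by
  rw [h.coe_y2, α.σ_x]
  exact mul_mem (X.x_mem_U (mem_Ob r) _) (X.x_mem_U (.inr (.inl rfl)) _)

theorem zz_mem' {r : Rt D} (hr : S.ρ r = r) (t : fixF φ) : (zz α φ r t).1 ∈ X.U (Ob S r) := by
  rw [Ob_fix hr]; exact h.zz_mem hr t

theorem y2_add (r : Rt D) (t u : K) : y2 α r (t + u) = y2 α r t * y2 α r u := Subtype.ext (by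
  rw [Subgroup.coe_mul, h.coe_y2, h.coe_y2, h.coe_y2, X.add, map_mul, (h.cm1 (h.nn r) u t).mul_mul_mul_comm])

theorem y2_fix {r : Rt D} (hr : S.ρ r = r) (t : K) : y2 α r t = zz α φ r (τ2 h.h2 t) := Subtype.ext (by
  rw [h.coe_y2, h.coe_zz hr, α.σ_x, hr, h.fx r hr, ← X.add]; rfl)

theorem FS_fix {r : Rt D} (hr : S.ρ r = r) : FS ρ (Ob S r) = Eg ρ (zz α φ r) 0 := by rw [Ob_fix hr, h.FS_single hr]

theorem FS_Ob (r : Rt D) : FS ρ (Ob S r) = Eg ρ (y2 α r) 0 := by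
  refine le_antisymm (fun v hv => mem_Eg_zero.2 fun t => hv _ (h.y2_mem r t)) ?_
  by_cases hr : S.ρ r = r
  · obtain ⟨s, hs⟩ := h.nf
    rw [h.FS_fix hr]
    refine fun v hv => mem_Eg_zero.2 fun t => ?_
    obtain ⟨u, rfl⟩ := τ2_surj h.h2 hs t
    rw [← h.y2_fix hr, mem_Eg_zero.1 hv]
  have k : ∀ t, (X.x r t)⁻¹ * (y2 α r t).1 ∈ X.U (Ob S r \ {r}) := fun t => by
    rw [h.coe_y2, inv_mul_cancel_left, α.σ_x]
    exact X.x_mem_U (by exact ⟨.inr (.inl rfl), hr⟩) _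
  by_cases p : Pos r
  · exact h.Eg_le_FS (ψ := htF D) (fun r => by simp only [htF_rtv, h.hh]) (nilp_Pos.pos r p) k
  · exact h.Eg_le_FS (ψ := -htF D) (fun r => by simp only [LinearMap.neg_apply, htF_rtv, h.hh]) (nilp_Neg.pos r p) k

theorem y2_lc {a b : Rt D} (e : A a b = -1) (e1 : 0 ≤ A a (S.ρ b)) : ∃ ε : K, ε ≠ 0 ∧ ∀ t u,
    y2 α a t * y2 α b u = y2 α b u * y2 α a t * y2 α (refl a b) (ε * u * t) := by
  obtain ⟨ε, h0, k⟩ := x_lc (X := X) h.hl e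
  refine ⟨ε, h0, fun t u => Subtype.ext ?_⟩
  have p1 := h.cm1 e1 t u
  have q1 := p1.map α.σ
  rw [h.o2] at q1
  have k1 := congrArg α.σ (k t u)
  simp only [map_mul] at k1
  have a1 := h.nn a
  have a2 := h.nn b
  have a3 := h.hA (S.ρ a) b
  rw [h.ρ2] at a3
  simp only [Subgroup.coe_mul, h.coe_y2]
  exact comm_mul2 (k t u) k1 p1 q1
    (h.cm1 (by rw [A_symm h.hl, A_refl_right, e, A_symm h.hl _ a]; omega) _ _)
    (h.cm1 (by rw [A_symm h.hl, A_refl_right, e, A_symm h.hl _ a, A_symm h.hl _ b]; omega) _ _)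

theorem fix_comm {N : Submodule ℂ M} (h1 : finrank ℂ N ≤ 1) {y z : Rt D} (e : A y z = 1)
    (e1 : A y (S.ρ y) ≤ A y (S.ρ z)) (hy : StU ρ N (Ob S y)) (hz : StU ρ N (Ob S (refl y z))) :
    N ≤ FS ρ (Ob S z) := fun v hv => by
  obtain ⟨ε, h0, k⟩ := h.y2_lc (a := y) (b := refl y z) (by rw [A_refl_self, e])
    (by rw [h.ρ_refl, A_refl_right, h.hA, e]; omega)
  rw [h.FS_Ob]
  refine mem_Eg_zero.2 fun t => ?_
  have := fix_of_rel h1 (hy _ (h.y2_mem _ _)) (hz _ (h.y2_mem _ _)) (k (ε⁻¹ * t) 1) hv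
  rwa [refl_refl, mul_one, mul_inv_cancel_left₀ h0] at this

theorem heis {r : Rt D} (hr : S.ρ r = r) {χ : AddChar (fixF φ) ℂ} (hχ : χ ≠ 0) (I : Finset (Rt D))
    (h0 : ∀ a ∈ I, S.ρ a ∈ I) (h1 : ∀ a ∈ I, A a r = 1) (h2 : ∀ a ∈ I, ∀ b ∈ I, 0 ≤ A a b) {N : Submodule ℂ M}
    (hN : N ≤ Eg ρ (zz α φ r) χ) (h3 : ∀ a ∈ I, StU ρ N (Ob S a) ∧ StU ρ N (Ob S (refl a r))) :
    finrank ℂ N = Fintype.card (fixF φ) ^ I.card * finrank ℂ ↥(N ⊓ FO ρ I) := by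
  induction hn : I.card using Nat.strong_induction_on generalizing I N with
  | _ n ih =>
  rcases I.eq_empty_or_nonempty with rfl | ⟨a, ha⟩
  · rw [← hn, show FO ρ (∅ : Finset (Rt D)) = ⊤ by simp [FO], inf_top_eq]; simp
  have c := Finset.card_filter_add_card_filter_not (s := I) (· ∈ Ob S a)
  set I' := I.filter (· ∉ Ob S a)
  have e0 : A a (refl a r) = -1 := by rw [A_refl_self, h1 a ha]
  obtain ⟨w, w0, w1, w2⟩ : ∃ w, 0 < w ∧ (I.filter (· ∈ Ob S a)).card = w ∧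
      finrank ℂ N = Fintype.card (fixF φ) ^ w * finrank ℂ ↥(N ⊓ FS ρ (Ob S a)) := by
    by_cases e : S.ρ a = a
    · have e' : S.ρ (refl a r) = refl a r := by rw [h.ρ_refl, e, hr]
      have k := h.zz_lc e e' e0
      rw [refl_refl] at k
      obtain ⟨φ, hφ, k⟩ := heis_fam (ρ := ρ) k hχ
      refine ⟨1, one_pos, Finset.card_eq_one.2 ⟨a, by ext; simp +contextual [Ob_fix e, ha, iff_def]⟩, ?_⟩
      rw [h.FS_fix e, pow_one]
      exact heis_eq (h.zz_add e) (fun t => (h3 a ha).1 _ (h.zz_mem' e t)) (fun t => (h3 a ha).2 _ (h.zz_mem' e' t)) hφ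
        (fun t u v hv => k t u v (hN hv)) 0
    · obtain ⟨s, hs⟩ := h.nf
      have k := h.y2_lc e0 (by
        have := A_le_one h.hl e
        rw [h.ρ_refl, hr, A_refl_right, h1 a ha, h1 _ (h0 a ha)]; omega)
      simp only [refl_refl, h.y2_fix hr] at k
      refine ⟨2, two_pos, Finset.card_eq_two.2 ⟨a, S.ρ a, Ne.symm e, by
        ext; simp +contextual [Ob, h.ρ2, ha, h0 a ha, iff_def, or_imp]⟩, ?_⟩
      rw [h.FS_Ob, ← h.cK]
      exact heis_tr (τ2_surj h.h2 hs) (h.y2_add a) k hχ hN (fun t => (h3 a ha).1 _ (h.y2_mem _ t))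
        fun t => (h3 a ha).2 _ (h.y2_mem _ t)
  have m : ∀ b ∈ I', b ∈ I ∧ b ∉ Ob S a := fun b hb => Finset.mem_filter.1 hb
  have oI : ∀ b ∈ I, ∀ s ∈ Ob S b, s ∈ I := fun b hb s hs => h.Ob_sub (T := I) h0 hb hs
  have k : ∀ B : Set (Rt D), (∀ b ∈ B, ∀ s ∈ Ob S a, 0 ≤ A s b) → StU ρ (FS ρ (Ob S a)) B := fun B hB =>
    h.stU_FS fun b hb s hs => by have := hB b hb s hs; exact ⟨ne_ng_of_A (by omega), by omega⟩
  rw [w2, ih _ (by omega) I' (fun b hb => Finset.mem_filter.2 ⟨h0 b (m b hb).1, fun e => (m b hb).2 (h.ρ_mem_Ob.1 e)⟩)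
    (fun b hb => h1 b (m b hb).1) (fun b hb c hc => h2 b (m b hb).1 c (m c hc).1) (inf_le_left.trans hN)
    (fun b hb => ⟨(h3 b (m b hb).1).1.inf (k _ fun c hc s hs => h2 s (oI a ha s hs) c (oI b (m b hb).1 c hc)),
      (h3 b (m b hb).1).2.inf (k _ fun c hc s hs => ?_)⟩) rfl, ← mul_assoc, ← pow_add, ← w1, c, hn, inf_assoc,
    show FS ρ (Ob S a) ⊓ FO ρ I' = FO ρ I from le_antisymm (fun v hv => mem_FO.2 fun b hb => by
      by_cases e : b ∈ Ob S a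
      exacts [FS_anti (h.Ob_sub (fun _ => h.ρ_mem_Ob.2) e) hv.1, mem_FO.1 hv.2 b (Finset.mem_filter.2 ⟨hb, e⟩)])
      fun v hv => ⟨mem_FO.1 hv a ha, mem_FO.2 fun b hb => mem_FO.1 hv b (m b hb).1⟩]
  obtain ⟨b', hb', rfl⟩ : ∃ b' ∈ Ob S b, c = refl b' r := by
    rcases hc with rfl | rfl | rfl
    exacts [⟨_, mem_Ob b, rfl⟩, ⟨_, .inr (.inl rfl), by rw [h.ρ_refl, hr]⟩, ⟨_, mem_Ob b, h.ρ2 _⟩]
  have := A_le_one h.hl (r := s) (s := b') fun e => (m b hb).2 (h.Ob_sub (fun _ => h.ρ_mem_Ob.2) (e ▸ hs) (h.Ob_symm hb'))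
  rw [A_refl_right, h1 _ (oI a ha s hs), h1 _ (oI b (m b hb).1 _ hb')]
  omega

theorem fstep {T : Set (Rt D)} (hT : ∀ s ∈ T, Pos s ∧ ∀ a, Pos a → A s a = -1 → refl s a ∈ T) {r γ : Rt D}
    (hr : S.ρ r = r) (hγ : S.ρ γ = γ) (e : A γ r = 1) (pr : 0 < ht r) (h0 : ¬ FS ρ T ≤ Eg ρ (zz α φ r) 0)
    (I : Finset (Rt D)) (hI : ∀ a ∈ I, A a r = 1 ∧ 0 < ht a ∧ ht a < ht r ∧ S.ρ a ∈ I ∧ ∀ b ∈ I, 0 ≤ A a b) :
    finrank ℂ ↥(FS ρ T ⊓ Eg ρ (zz α φ r) 0) + (Fintype.card (fixF φ) - 1) * Fintype.card (fixF φ) ^ I.card ≤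
      finrank ℂ (FS ρ T) := by
  have st : ∀ a, 0 < ht a → StU ρ (FS ρ T) (Ob S a) := fun a ha => h.stU_FS fun b hb s hs => by
    have : Pos b := pos_iff_ht.2 (by rcases hb with rfl | rfl | rfl <;> simpa only [h.hh])
    exact ⟨fun e => (hT s hs).1.not_ng (e ▸ this), (hT s hs).2 b this⟩
  have s1 : Sta ρ (FS ρ T) (zz α φ r) := fun t => st r pr _ (h.zz_mem' hr t)
  refine add_mul_le_finrank (h.zz_add hr) s1 fun χ hχ => ?_
  have h4 := h.heis hr hχ I (fun a ha => (hI a ha).2.2.2.1) (fun a ha => (hI a ha).1) (fun a ha => (hI a ha).2.2.2.2)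
    (N := FS ρ T ⊓ Eg ρ (zz α φ r) χ) inf_le_right fun a ha => by
      have k1 := hI a ha
      exact ⟨(st a k1.2.1).inf (h.stU_Eg hr (by rw [A_symm h.hl]; omega) _),
        (st _ (by rw [ht_refl, k1.1]; omega)).inf
          (h.stU_Eg hr (by rw [A_refl_right, A_self, A_symm h.hl r a, k1.1]; omega) _)⟩
  rw [h4]
  refine Nat.le_mul_of_pos_right _ (Nat.pos_of_ne_zero fun e0 => h.all_chars hr hγ e s1 h0 hχ
    (Submodule.finrank_eq_zero.1 ?_))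
  rw [h4, e0, mul_zero]

theorem top_vec {θ r : Rt D} (hθ : S.ρ θ = θ) (hr : S.ρ r = r) (e : A θ r = 1) {ψ : Fn D}
    (hψ : ∀ s, ψ (rtv s) = A θ s) (h0 : ¬ ⊤ ≤ Eg ρ (zz α φ θ) 0)
    (F1 : ∀ y, A θ y = 0 ∧ A r y = 0 ∨ A θ y = 1 ∧ A r y = 0 ∨ A θ y = 0 ∧ A r y = -1 →
      ∃ γ, A θ γ = 0 ∧ A r γ = 0 ∧ A γ y = 1 ∧ A γ (S.ρ γ) ≤ A γ (S.ρ y))
    (F2 : ∃ y, S.ρ y = y ∧ A θ y = 1 ∧ A r y = 0) {n : ℕ}
    (hn : (Finset.univ.filter fun s => A θ s = 1 ∧ A r s = 1).card = n) (hM : finrank ℂ M <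
      (Fintype.card (fixF φ) - 1) * (Fintype.card (fixF φ) + 1) * (2 * Fintype.card (fixF φ) ^ n)) :
    ∃ v, v ∉ Eg ρ (zz α φ r) 0 ∧ ∀ s, s ≠ r → s ≠ ng r → A r s ≤ 2 * A θ s → v ∈ FS ρ (Ob S s) := by
  have hl := h.hl
  have e' : A r θ = 1 := A_symm hl θ r ▸ e
  obtain ⟨d, d1, d2, d3⟩ := h.a2z (ρ := ρ) hθ hr e (sta_top _) (sta_top _) (sta_top _) (sta_top _)
  obtain ⟨χ, hχ⟩ := exists_char_ne (fixF φ)
  set I := Finset.univ.filter fun s => A θ s = 1 ∧ A r s = 1 with hI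
  have mI : ∀ s, s ∈ I ↔ A θ s = 1 ∧ A r s = 1 := fun s => by simp [hI]
  have o1 : ∀ s, A θ (S.ρ s) = A θ s := fun s => h.A_Ob hθ (.inr (.inl rfl))
  have o2 : ∀ s, A r (S.ρ s) = A r s := fun s => h.A_Ob hr (.inr (.inl rfl))
  have top : ∀ s, 2 ≤ A θ s → A r s = 1 := fun s hs => by rw [eq_of_two_le hl hs, e']
  have s0 : ∀ a, 0 ≤ A θ a → 0 ≤ A r a → StU ρ (⊤ ⊓ Eg ρ (zz α φ θ) 0 ⊓ Eg ρ (zz α φ r) χ) (Ob S a) := fun a h1 h2 =>
    (StU.inf (N := ⊤) (fun _ _ _ _ => trivial) (h.stU_Eg hθ h1 _)).inf (h.stU_Eg hr h2 _)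
  have d4 := h.heis hr hχ I (fun a ha => by rwa [mI, o1, o2, ← mI]) (fun a ha => A_symm hl r a ▸ ((mI a).1 ha).2)
    (fun a ha b hb => by
      have k1 := (mI a).1 ha
      have k2 := (mI b).1 hb
      have k3 := neg_one_le_A hl (r := a) (s := b) fun e => by rw [e, A_ng_right] at k2; omega
      by_contra k4
      have k5 := top (refl a b)
      rw [A_refl_right, A_refl_right, show A a b = -1 by omega] at k5
      omega) inf_le_right fun a ha => by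
      have := (mI a).1 ha
      refine ⟨s0 a (by omega) (by omega), s0 _ ?_ ?_⟩ <;> rw [A_refl_right, A_symm hl a] <;> simp [A_self, e, this]
  set N := ⊤ ⊓ Eg ρ (zz α φ θ) 0 ⊓ Eg ρ (zz α φ r) χ ⊓ FO ρ I with hN
  rw [d3 χ hχ, hn] at d4
  have q1 : 1 < Fintype.card (fixF φ) := Fintype.one_lt_card
  have n1 : finrank ℂ N ≤ 1 := by
    by_contra! h2
    rw [finrank_top, d2] at d1
    have : (Fintype.card (fixF φ) - 1) * (Fintype.card (fixF φ) + 1) * (2 * Fintype.card (fixF φ) ^ n) ≤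
        (Fintype.card (fixF φ) - 1) * (Fintype.card (fixF φ) + 1) * d :=
      Nat.mul_le_mul_left _ (by rw [d4, mul_comm]; exact Nat.mul_le_mul_left _ h2)
    nlinarith
  have n0 : N ≠ ⊥ := fun e => h0 (inf_eq_left.1 (Submodule.eq_of_le_of_finrank_eq inf_le_left (by
    rw [e, finrank_bot, mul_zero] at d4
    rw [d1, d4]; simp)))
  let T : ℤ → Set (Rt D) := fun k => {s | 1 ≤ A θ s ∧ k ≤ A r s ∧ s ≠ r}
  have θr : θ ≠ r := fun k => by rw [k, A_self] at e; omega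
  have Tρ : ∀ k, ∀ s ∈ T k, S.ρ s ∈ T k := fun k s hs =>
    ⟨o1 s ▸ hs.1, o2 s ▸ hs.2.1, fun e => hs.2.2 (S.ρ.injective (e.trans hr.symm))⟩
  have fT : ∀ k ≤ 1, (∀ s ∈ T k, N ≤ FS ρ (Ob S s)) → N ≤ FS ρ (T k) := fun k hk hs v hv =>
    h.mem_FS (ψ := ψ) (fun s => by rw [hψ, hψ, o1]) (nilp_of hl (fun s hs => by rw [hψ]; exact hs.1)
      fun a ha b hb e => by
        rw [eq_of_two_le hl (r := θ) (s := refl a b) (by rw [A_refl_right, e]; have := ha.1; have := hb.1; omega)]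
        exact ⟨by rw [A_self]; omega, by omega, θr⟩) (Tρ k) fun s h' => hs s h' hv
  have bk : ∀ v ∈ FS ρ (T 1), v ∈ Eg ρ (zz α φ r) χ → v ∈ N := fun v h1 h2 =>
    ⟨⟨⟨trivial, (h.FS_single hθ).le (FS_anti (Set.singleton_subset_iff.2
      (by exact ⟨by rw [A_self]; omega, by omega, θr⟩)) h1)⟩, h2⟩,
      mem_FO.2 fun a ha => FS_anti (h.Ob_sub (Tρ 1) (by
        have := (mI a).1 ha
        exact ⟨by omega, by omega, fun e => by rw [e, A_self] at this; omega⟩)) h1⟩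
  have st : ∀ k ≤ 1, N ≤ FS ρ (T k) → ∀ y, 0 ≤ A θ y → -1 ≤ A r y → A r y ≤ 0 → A r y = 0 ∨ k = -1 →
      StU ρ N (Ob S y) := fun k hk hN y h1 h2 h3 h4 g hg v hv => by
    have c : ∀ a ∈ Ob S y, ∀ s, s ∈ T k ∨ s = r → a ≠ ng s ∧ (A s a = -1 → refl s a ∈ T k) := fun a ha s hs => by
      rw [← h.A_Ob hθ ha] at h1
      rw [← h.A_Ob hr ha] at h2 h3 h4
      have k1 : 1 ≤ A θ s := by rcases hs with hs | rfl; exacts [hs.1, e.ge]
      refine ⟨fun e => by rw [e, A_ng_right] at h1; omega, fun e1 => ?_⟩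
      have k2 := A_refl_right s θ a
      have k3 := A_refl_right s r a
      rw [e1] at k2 k3
      have k4 := neg_one_le_A hl (r := r) (s := refl s a) fun e2 => by rw [e2, A_ng_right] at k2; omega
      rcases hs with hs | rfl
      · have := hs.2.1
        have := A_le_one hl hs.2.2
        exact ⟨by omega, by omega, fun e2 => by rw [e2, A_self] at k3; omega⟩
      · rw [A_self] at k3
        exact ⟨by omega, by omega, fun e2 => by rw [e2, A_self] at k3; omega⟩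
    exact bk _ (FS_anti (fun s hs => by exact ⟨hs.1, hk.trans hs.2.1, hs.2.2⟩)
      (h.stU_FS (fun a ha s hs => c a ha s (.inl hs)) g hg v (hN hv))) (h.eg_step hr hg c (hN hv) hv.1.2)
  have f0 : N ≤ FS ρ (Ob S θ) := fun v hv => (h.FS_fix hθ).ge hv.1.1.2
  have f1 : ∀ s, A θ s = 1 → A r s = 1 → N ≤ FS ρ (Ob S s) := fun s h1 h2 v hv =>
    mem_FO.1 hv.2 s ((mI s).2 ⟨h1, h2⟩)
  have cs : ∀ k, ∀ s ∈ T k, s = θ ∨ A θ s = 1 ∧ k ≤ A r s ∧ A r s ≤ 1 := fun k s hs => by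
    have := A_le_one hl hs.2.2
    have := hs.1
    have := hs.2.1
    exact or_iff_not_imp_left.2 fun e => by have := A_le_one hl e; omega
  have t1 := fT 1 le_rfl fun s hs => by
    rcases cs 1 s hs with rfl | k
    exacts [f0, f1 s k.1 (by omega)]
  have g0 : ∀ a b, (∀ y, A θ y = a → A r y = b → StU ρ N (Ob S y)) →
      a = 0 ∧ b = 0 ∨ a = 1 ∧ b = 0 ∨ a = 0 ∧ b = -1 → ∀ y, A θ y = a → A r y = b → N ≤ FS ρ (Ob S y) :=
    fun a b hs hab y h1 h2 => by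
      obtain ⟨γ, e1, e2, e3, e4⟩ := F1 y (by rwa [h1, h2])
      exact h.fix_comm n1 e3 e4 (st 1 le_rfl t1 γ e1.ge (by omega) e2.le (.inl e2))
        (hs _ (by rw [A_refl_right]; simp [*]) (by rw [A_refl_right]; simp [*]))
  have f2 := g0 0 0 (fun y h1 h2 => st 1 le_rfl t1 y h1.ge (by omega) h2.le (.inl h2)) (by omega)
  have f3 := g0 1 0 (fun y h1 h2 => st 1 le_rfl t1 y (by omega) (by omega) h2.le (.inl h2)) (by omega)
  have t0 := fT 0 (by omega) fun s hs => by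
    rcases cs 0 s hs with rfl | k
    · exact f0
    · rcases (by omega : A r s = 1 ∨ A r s = 0) with k' | k'
      exacts [f1 s k.1 k', f3 s k.1 k']
  obtain ⟨y, y1, y2, y3⟩ := F2
  have r1 : S.ρ (refl r θ) = refl r θ := by rw [h.ρ_refl, hr, hθ]
  have e5 : A y (refl r θ) = 1 := by rw [A_refl_right, A_symm hl y, A_symm hl y]; simp [*]
  set a := refl y (refl r θ) with ha
  have a1 : S.ρ a = a := by rw [ha, h.ρ_refl, y1, r1]
  have a2 : A θ a = 0 := by rw [ha, A_refl_right, e5, A_refl_right, A_self]; simp [*]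
  have a3 : A r a = -1 := by rw [ha, A_refl_right, e5, A_refl_self]; simp [*]
  have f5 : N ≤ FS ρ (Ob S (refl r θ)) := fun v hv => by
    obtain ⟨ε, h0, k⟩ := h.zz_lc y1 a1 (by rw [ha, A_refl_self, e5])
    obtain ⟨ε', -, k'⟩ := h.zz_lc hr a1 a3
    rw [h.FS_fix r1]
    refine mem_Eg_zero.2 fun t => ?_
    have := fix_of_rel n1 (st 1 le_rfl t1 y (by omega) (by omega) y3.le (.inl y3) _ (h.zz_mem' y1 _))
      (fun v hv => bk _ (FS_map (T' := T 0) (by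
        rw [h.coe_zz a1]
        exact nm_x hl (fun s hs => by exact ⟨⟨hs.1, zero_le_one.trans hs.2.1, hs.2.2⟩, fun e => by
          have := hs.1; rw [e, A_ng_right] at a2; omega, fun e1 => by
          have k2 := A_refl_right s θ a
          have k3 := A_refl_right s r a
          have := hs.1
          have := hs.2.1
          have := A_le_one hl hs.2.2
          rw [e1] at k2 k3
          exact ⟨by omega, by omega, fun e2 => by rw [e2, A_self] at k3; omega⟩⟩) _) (t0 hv)) fun t => by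
        rw [← rho_mul, k', rho_mul, rho_mul, f1 (refl r a) (by rw [A_refl_right, a2, a3, e]; rfl)
          (by rw [A_refl_self, a3]; rfl) hv _ (h.zz_mem' (by rw [h.ρ_refl, hr, a1]) _), hv.1.2, map_smul])
      (k (ε⁻¹ * t) 1) hv
    rwa [ha, refl_refl, mul_one, mul_inv_cancel_left₀ h0] at this
  have f6 : ∀ s, A θ s = 1 → A r s = -1 → N ≤ FS ρ (Ob S s) := fun s h1 h2 => by
    rwa [eq_of_two_le hl (r := refl r θ) (s := s) (by rw [A_refl_left]; simp [*])]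
  have t2 := fT (-1) (by omega) fun s hs => by
    rcases cs (-1) s hs with rfl | k
    · exact f0
    · rcases (by omega : A r s = 1 ∨ A r s = 0 ∨ A r s = -1) with k' | k' | k'
      exacts [f1 s k.1 k', f3 s k.1 k', f6 s k.1 k']
  have f4 := g0 0 (-1) (fun y h1 h2 => st (-1) (by omega) t2 y h1.ge h2.ge (by omega) (.inr rfl)) (by omega)
  obtain ⟨v, hv, hv0⟩ := Submodule.exists_mem_ne_zero_of_ne_bot n0
  refine ⟨v, fun k => hχ (eq_zero_of_Eg hv0 hv.1.2 k), fun s h1 h2 h3 => (?_ : N ≤ _) hv⟩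
  by_cases e : s = θ
  · exact e ▸ f0
  have k1 := A_le_one hl e
  have k2 := A_le_one hl h1
  have k3 := neg_one_le_A hl h2
  rcases (by omega : A θ s = 1 ∧ A r s = 1 ∨ A θ s = 1 ∧ A r s = 0 ∨ A θ s = 0 ∧ A r s = 0 ∨
    A θ s = 0 ∧ A r s = -1 ∨ A θ s = 1 ∧ A r s = -1) with k | k | k | k | k
  exacts [f1 s k.1 k.2, f3 s k.1 k.2, f2 s k.1 k.2, f4 s k.1 k.2, f6 s k.1 k.2]

end T2

end Cfsg.Agent.MinD
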