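import Cfsg.Agent.MinD.Tw5
import Cfsg.Agent.Chev.TwE6

/-! Minimal degree of the twisted group of type `E₆`: the filtration bound. -/

set_option autoImplicit false
set_option linter.unusedSectionVars false

namespace Cfsg.Agent.MinD

open Module Cfsg.Lie Cfsg.Agent.Chev Cfsg.Agent.Mult Cfsg.Agent.ChAut

/-- Roots of `E₆` by number. -/
abbrev rE (n : Fin 72) : Rt chevE6 := n

/-- Nodes of `E₆` by number. -/
abbrev nE (n : Fin 6) : Sm chevE6 := n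

theorem te6_ψ : ∀ s : Rt chevE6, rtv s (nE 1) = A (rE 71) s := by decide +kernel

theorem te6_tab : ∀ r : Rt chevE6, symE6.ρ r = r → A (rE 71) r = 1 →
    (∀ y, A (rE 71) y = 0 ∧ A r y = 0 ∨ A (rE 71) y = 1 ∧ A r y = 0 ∨ A (rE 71) y = 0 ∧ A r y = -1 →
      ∃ γ, A (rE 71) γ = 0 ∧ A r γ = 0 ∧ A γ y = 1 ∧ A γ (symE6.ρ γ) ≤ A γ (symE6.ρ y)) ∧
    (∃ y, symE6.ρ y = y ∧ A (rE 71) y = 1 ∧ A r y = 0) ∧
    (Finset.univ.filter fun s => A (rE 71) s = 1 ∧ A r s = 1).card = 9 := by decide +kernel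

theorem refl_eq' {D : ChevalleyDatum} [Good D] {a b c : Rt D} (e : ∀ k, rtv b k - A a b * rtv a k = rtv c k) :
    refl a b = c := rtv_injective (by rw [rtv_refl]; exact funext e)

variable {K : Type*} [Field K] [Fintype K] {H : Type*} [Group H] [Finite H] {X : Sys chevE6 K H}
  {α : X.Aut symE6} {φ : K →+* K} {M : Type*} [AddCommGroup M] [Module ℂ M] [FiniteDimensional ℂ M]
  {ρ : Representation ℂ α.fix M}

open scoped _root_.Classical in
theorem te6_bound (h : T2 α φ) {q : ℕ} (hq : Fintype.card (fixF φ) = q) (h0 : ¬ ⊤ ≤ Eg ρ (zz α φ (rE 71)) 0)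
    (hM : finrank ℂ M < (q - 1) * (q + 1) * (2 * q ^ 9)) :
    ¬ FS ρ {s | 0 < rtv s (nE 1)} ≤ Eg ρ (zz α φ (rE 39)) 0 ∧ finrank ℂ (FS ρ {s | 0 < rtv s (nE 1)}) + (q - 1) *
      (q ^ 0 + q ^ 1 + q ^ 3 + q ^ 4 + q ^ 5 + q ^ 6 + q ^ 8 + q ^ 9 + q ^ 10) ≤ finrank ℂ M := by
  subst hq
  obtain ⟨f1, f2, f3, f4, f5⟩ : symE6.ρ (rE 71) = rE 71 ∧ symE6.ρ (rE 46) = rE 46 ∧ symE6.ρ (rE 47) = rE 47 ∧
    symE6.ρ (rE 39) = rE 39 ∧ ∀ s : Rt chevE6, ht s ≤ 11 := by decide +kernel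
  have tv := fun r hr e => h.top_vec (ρ := ρ) f1 hr e (ψ := LinearMap.proj (nE 1)) te6_ψ h0 (te6_tab r hr e).1
    (te6_tab r hr e).2.1 (by convert (te6_tab r hr e).2.2) hM
  have hψ : ∀ s, htF chevE6 (rtv (symE6.ρ s)) = htF chevE6 (rtv s) := fun s => by rw [htF_rtv, htF_rtv, h.hh]
  have o1 : ∀ s, rtv (symE6.ρ s) (nE 1) = rtv s (nE 1) := fun s => by
    rw [te6_ψ, te6_ψ]; exact h.A_Ob f1 (.inr (.inl rfl))
  have mF : ∀ {T : Set (Rt chevE6)}, (∀ s ∈ T, Pos s ∧ ∀ a, Pos a → A s a = -1 → refl s a ∈ T) →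
      (∀ s ∈ T, symE6.ρ s ∈ T) → ∀ v, (∀ s ∈ T, v ∈ FS ρ (Ob symE6 s)) → v ∈ FS ρ T := fun hT h1 v hv =>
    h.mem_FS hψ (nilp_of h.hl (fun s hs => by rw [htF_rtv]; exact (hT s hs).1.ht_pos)
      fun a ha b hb => (hT a ha).2 b (hT b hb).1) h1 hv
  constructor
  · intro hj
    set P : Set (Rt chevE6) := {s | ∃ k, k ≠ nE 1 ∧ k ≠ nE 3 ∧ 0 < rtv s k} with hP
    have st : ∀ y, symE6.ρ y = y ∧ (∀ k, k ≠ nE 1 → k ≠ nE 3 → rtv y k = 0) → Sta ρ (FS ρ P) (zz α φ y) :=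
      fun y hy => h.sta_FS (h.zz_mem hy.1) fun a ha s ⟨k, h1, h2, h3⟩ => by
        have := hy.2 k h1 h2
        rw [show a = y from ha]
        exact ⟨fun e => by rw [e, rtv_ng, Pi.neg_apply] at this; omega,
          fun e => ⟨k, h1, h2, by rw [rtv_refl_of_neg_one e, Pi.add_apply]; omega⟩⟩
    obtain ⟨d, d1, d2, -⟩ := h.a2z f3 f2 (by decide +kernel) (st _ (by decide +kernel)) (st _ (by decide +kernel))
      (by rw [refl_eq' (c := rE 39) (by decide +kernel)]; exact st _ (by decide +kernel))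
      (by rw [refl_eq' (c := rE 32) (by decide +kernel)]; exact st _ (by decide +kernel))
    obtain ⟨d', d3, d4, -⟩ := h.a2z f3 f4 (by decide +kernel) (st _ (by decide +kernel)) (st _ (by decide +kernel))
      (by rw [refl_eq' (c := rE 46) (by decide +kernel)]; exact st _ (by decide +kernel))
      (by rw [refl_eq' (c := rE 25) (by decide +kernel)]; exact st _ (by decide +kernel))
    have q1 : 1 < Fintype.card (fixF φ) := Fintype.one_lt_card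
    obtain rfl : d = d' := Nat.eq_of_mul_eq_mul_left Fintype.card_pos
      (Nat.eq_of_mul_eq_mul_left (by omega) (Nat.add_left_cancel (d1.symm.trans d3)))
    have k1 : FS ρ P ⊓ Eg ρ (zz α φ (rE 47)) 0 ⊓ Eg ρ (zz α φ (rE 46)) 0 ≤
        FS ρ P ⊓ Eg ρ (zz α φ (rE 47)) 0 ⊓ Eg ρ (zz α φ (rE 39)) 0 := fun w hw => ⟨hw.1, hj (mF (T := {s | 0 < rtv s (nE 1)}) (fun s hs =>
      ⟨pos_of_exists hs, fun a ha e => by
        rw [Set.mem_ofPred_eq, rtv_refl_of_neg_one e]; exact add_pos_of_pos_of_nonneg hs (ha _)⟩)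
      (fun s hs => by rwa [Set.mem_ofPred_eq, o1]) w fun s hs => by
        rcases (by decide +kernel : ∀ s : Rt chevE6, 0 < rtv s (nE 1) → s = rE 46 ∨ s = rE 47 ∨ ∀ t ∈ Ob symE6 s,
          ∃ k, k ≠ nE 1 ∧ k ≠ nE 3 ∧ 0 < rtv t k) s hs with rfl | rfl | e
        exacts [(h.FS_fix f2).ge hw.2, (h.FS_fix f3).ge hw.1.2, FS_anti e hw.1.1])⟩
    have k2 := Submodule.eq_of_le_of_finrank_eq k1 (by omega)
    obtain ⟨v, v1, v2⟩ := tv _ f2 (by decide +kernel)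
    have k3 : ∀ s : Rt chevE6, (∃ k, k ≠ nE 1 ∧ 0 < rtv s k) → s ≠ rE 46 ∧ s ≠ ng (rE 46) ∧
      A (rE 46) s ≤ 2 * A (rE 71) s := by decide +kernel
    have k4 := fun s e => v2 s (k3 s e).1 (k3 s e).2.1 (k3 s e).2.2
    exact v1 (k2.ge ⟨⟨mF (T := P) (fun s ⟨k, h1, h2, h3⟩ => ⟨pos_of_exists h3, fun a ha e => ⟨k, h1, h2, by
      rw [rtv_refl_of_neg_one e]; exact add_pos_of_pos_of_nonneg h3 (ha _)⟩⟩) (by rw [hP]; decide +kernel) v
      fun s ⟨k, h1, _, h3⟩ => k4 s ⟨k, h1, h3⟩, (h.FS_fix f3).le (k4 _ (by decide +kernel))⟩,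
      (h.FS_fix f4).le (k4 _ (by decide +kernel))⟩).2
  let T : ℤ → Set (Rt chevE6) := fun k => {s | 0 < rtv s (nE 1) ∧ k ≤ ht s}
  have hT : ∀ k, ∀ s ∈ T k, Pos s ∧ ∀ a, Pos a → A s a = -1 → refl s a ∈ T k := fun k s hs =>
    ⟨pos_of_exists hs.1, fun a ha e => ⟨by rw [rtv_refl_of_neg_one e]; exact add_pos_of_pos_of_nonneg hs.1 (ha _), by
      have := hs.2
      have := ha.ht_pos
      rw [ht_refl, e]; omega⟩⟩
  have mT := fun k => mF (hT k) fun s hs => ⟨by rw [o1]; exact hs.1, by rw [h.hh]; exact hs.2⟩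
  have step : ∀ (r γ : Fin 72) (L : List (Fin 72)) (k : ℤ) (n : ℕ), symE6.ρ (rE r) = rE r ∧ symE6.ρ (rE γ) = rE γ ∧
      A (rE γ) (rE r) = 1 ∧ 0 < rtv (rE r) (nE 1) ∧ ht (rE r) = k ∧ L.length = n ∧ L.Nodup ∧ (∀ a ∈ L,
        A (rE a) (rE r) = 1 ∧ 0 < ht (rE a) ∧ ht (rE a) < ht (rE r) ∧ (∃ b ∈ L, symE6.ρ (rE a) = rE b) ∧
        ∀ b ∈ L, 0 ≤ A (rE a) (rE b)) → finrank ℂ (FS ρ (T k)) + (Fintype.card (fixF φ) - 1) *
        Fintype.card (fixF φ) ^ n ≤ finrank ℂ (FS ρ (T (k + 1))) := fun r γ L k n ⟨a1, a2, a3, a4, a5, a6, a8, a7⟩ => by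
    have k1 : FS ρ (T k) ≤ FS ρ (T (k + 1)) ⊓ Eg ρ (zz α φ (rE r)) 0 := le_inf (FS_anti fun s hs => by
      exact ⟨hs.1, by have := hs.2; omega⟩) ((FS_anti (Set.singleton_subset_iff.2 (by exact ⟨a4, a5.ge⟩))).trans
        (h.FS_single a1).le)
    refine le_trans (Nat.add_le_add_right (Submodule.finrank_mono k1) _) (a6 ▸ h.fstep (hT _) a1 a2 a3
      (pos_of_exists a4).ht_pos (fun hle => ?_) ⟨Multiset.ofList (α := Rt chevE6) L, a8⟩ fun a ha =>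
        ⟨(a7 a ha).1, (a7 a ha).2.1, (a7 a ha).2.2.1, by
          obtain ⟨b, hb, e⟩ := (a7 a ha).2.2.2.1
          exact e ▸ hb, (a7 a ha).2.2.2.2⟩)
    by_cases e : rE r = rE 71
    · refine h0 fun v _ => e ▸ hle (mT _ v fun s hs => ?_)
      have := hs.2
      have := f5 s
      rw [e, show ht (rE 71) = 11 by decide +kernel] at a5
      omega
    have e1 := A_le_one h.hl e
    rw [te6_ψ] at a4
    obtain ⟨v, v1, v2⟩ := tv _ a1 (by omega)
    refine v1 (hle (mT _ v fun s hs => ?_))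
    have h1 := hs.1
    have h2 := hs.2
    have h3 : s ≠ rE r := fun e => by rw [e] at h2; omega
    have := A_le_one h.hl h3
    rw [te6_ψ] at h1
    exact v2 s h3 (fun e => by rw [e, A_ng_right] at h1; omega) (by omega)
  have mono : ∀ k, finrank ℂ (FS ρ (T k)) ≤ finrank ℂ (FS ρ (T (k + 1))) := fun k =>
    Submodule.finrank_mono (FS_anti fun s hs => ⟨hs.1, by have := hs.2; omega⟩)
  have s0 : finrank ℂ (FS ρ {s | 0 < rtv s (nE 1)}) ≤ finrank ℂ (FS ρ (T 1)) :=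
    Submodule.finrank_mono (FS_anti fun s hs => hs.1)
  have s1 := step 46 71 [] 1 0 (by decide +kernel)
  have s2 := step 47 71 [46] 2 1 (by decide +kernel)
  have s3 := mono 3
  have s4 := step 51 71 [37, 42, 46] 4 3 (by decide +kernel)
  have s5 := step 53 71 [39, 40, 43, 47] 5 4 (by decide +kernel)
  have s6 := step 63 71 [36, 38, 46, 56, 57] 6 5 (by decide +kernel)
  have s7 := step 65 71 [36, 39, 41, 47, 56, 58] 7 6 (by decide +kernel)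
  have s8 := mono 8
  have s9 := step 69 71 [37, 38, 42, 44, 45, 57, 59, 60] 9 8 (by decide +kernel)
  have s10 := step 70 71 [39, 40, 41, 43, 44, 45, 58, 59, 60] 10 9 (by decide +kernel)
  have s11 := step 71 46 [46, 47, 48, 49, 50, 51, 52, 61, 62, 63] 11 10 (by decide +kernel)
  have s12 := Submodule.finrank_le (FS ρ (T 12))
  simp only [Int.reduceAdd] at s1 s2 s3 s4 s5 s6 s7 s8 s9 s10 s11
  simp only [mul_add]
  omega

end Cfsg.Agent.MinD
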