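import Cfsg.Agent.MinD.Tw6
import Cfsg.Agent.MinD.Ch7
import Cfsg.Agent.Mult.Fo3
import Cfsg.Agent.Classical.SUSimple
import Cfsg.Agent.S2335

/-! Minimal degree of the twisted group of type `E₆`: the unitary subgroup and the arithmetic. -/

set_option autoImplicit false
set_option linter.unusedSectionVars false

namespace Cfsg.Agent.MinD

open Module Cfsg.Lie Cfsg.Agent.Chev Cfsg.Agent.Mult Cfsg.Agent.ChAut

attribute [local instance 100] LieRing.ofAssociativeRing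

theorem exists_sl' {D : ChevalleyDatum} [Good D] [Conn D] {F : Type*} [Field F] [Fintype F] {G : Type*} [Group G]
    [Finite G] (X : Sys D F G) (hl : ∀ r s : Rt D, ln r = ln s) {n : ℕ} (hn : 3 ≤ n) (ι : Fin n → Fin n → Rt D)
    (ε : Fin n → Fin n → F) (h2 : ∀ i j k l, i ≠ j → k ≠ l → i ≠ l → j ≠ k → 0 ≤ A (ι i j) (ι k l))
    (h3 : ∀ i j k, i ≠ j → j ≠ k → i ≠ k → A (ι j k) (ι i j) = -1 ∧ add (ι j k) (ι i j) = ι i k ∧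
      N (ι j k) (ι i j) * ε i j * ε j k = -ε i k) : ∃ φ : Matrix.SpecialLinearGroup (Fin n) F →* G,
      ∀ i j (h : i ≠ j) t, φ (Matrix.SpecialLinearGroup.transvection h t) = X.x (ι i j) (ε i j * t) := by
  obtain ⟨e, he⟩ := S2401.result (K := F) n hn
  refine ⟨(PresentedGroup.toGroup (f := fun p => X.x (ι p.1.1.1 p.1.1.2) (ε p.1.1.1 p.1.1.2 * p.2)) ?h).comp
    e.symm.toMonoidHom, fun i j h t => ?_⟩
  · rintro _ ((⟨a, t, u, rfl⟩ | ⟨a, b, t, u, h1, h2', rfl⟩) | ⟨⟨⟨i, j⟩, hij⟩, ⟨⟨_, k⟩, hjk⟩, h1, t, u, rfl, rfl⟩) <;>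
      simp only [map_mul, map_inv, FreeGroup.lift_apply_of, mul_inv_eq_one]
    · rw [mul_add, X.add]
    · rw [x_comm hl (h2 _ _ _ _ a.2 b.2 h1 h2'), mul_inv_cancel_right]
    · obtain ⟨e1, e2, e3⟩ := h3 i j k hij hjk h1
      have e4 : N (ι j k) (ι i j) ≠ 0 := N_ne_zero_of_add (rtv_refl_of_neg_one e1)
      have := comm_of_single (X := X) (ne_of_A (by omega)) (ne_ng_of_A (by omega)) e4
        (fun k hk => (hk.eq_refl (A_le_two' hl) e1 (A_symm hl _ _ ▸ e1)).trans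
          (eq_add e4 (rtv_refl_of_neg_one e1))) (-(ε j k * u)) (-(ε i j * t))
      rw [X.x_neg, X.x_neg, inv_inv, inv_inv, e2] at this
      rw [this]
      congr 1
      linear_combination (-t * u) * e3
  · rw [show Matrix.SpecialLinearGroup.transvection h t = e (.of (⟨(i, j), h⟩, t)) from
      Subtype.ext (he ⟨(i, j), h⟩ t).symm]
    simp

/-- Signs adapted to the graph automorphism. -/
def ε7 : Fin 6 → Fin 6 → ℤ := ![![1, 1, -1, 1, 1, 1], ![1, 1, 1, -1, -1, -1], ![-1, 1, 1, 1, 1, 1], ![1, -1, 1, 1, -1, -1], ![1, -1, 1, -1, 1, -1], ![1, -1, 1, -1, -1, 1]]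

/-- Exponents of the scaling. -/
def m7 : Fin 6 → ℤ := ![1, 1, 1, 0, 0, 0]

theorem te6_h3 : ∀ i j k, i ≠ j → j ≠ k → i ≠ k → N (D := chevE6) (ι6 j k) (ι6 i j) * ε7 i j * ε7 j k = -ε7 i k := by
  decide +kernel

theorem te6_h5 : ∀ i j, i ≠ j → symE6.ρ (ι6 i j) = ι6 j.rev i.rev ∧ m7 j.rev - m7 i.rev = m7 i - m7 j ∧
    (m7 i - m7 j = 0 ∧ twE6.ε (ι6 i j) * ε7 i j = -ε7 j.rev i.rev ∨
      (m7 i - m7 j = 1 ∨ m7 i - m7 j = -1) ∧ twE6.ε (ι6 i j) * ε7 i j = ε7 j.rev i.rev) := by decide +kernel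

variable {K : Type*} [Field K] [Fintype K] {H : Type*} [Group H] [Finite H] {X : Sys chevE6 K H}
  {α : X.Aut symE6} {φ : K →+* K} {M : Type*} [AddCommGroup M] [Module ℂ M] [FiniteDimensional ℂ M]
  {ρ : Representation ℂ α.fix M}

open scoped _root_.Classical in
theorem te6_su (h : T2 α φ) {q : ℕ} (hK : Fintype.card K = q ^ 2) (hφ : ∀ t, φ t = t ^ q)
    (ha : ∀ r t, α.a r t = twE6.ε r * φ t) (h0 : ¬ FS ρ {s | 0 < rtv s (nE 1)} ≤ Eg ρ (zz α φ (rE 39)) 0) :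
    (q ^ 6 - 1) / (q + 1) ≤ finrank ℂ (FS ρ {s | 0 < rtv s (nE 1)}) := by
  obtain ⟨s, hs⟩ := h.nf
  obtain ⟨c, c0, hc⟩ : ∃ c : K, c ≠ 0 ∧ φ c = -c := ⟨s - φ s, sub_ne_zero.2 hs.symm, by rw [map_sub, h.h2, neg_sub]⟩
  obtain ⟨f, hf⟩ := exists_sl' X h.hl (by decide) ι6 (fun i j => ε7 i j * c ^ (m7 i - m7 j)) e6_h2
    fun i j k h1 h2 h3 => ⟨(e6_h3 i j k h1 h2 h3).1, (e6_h3 i j k h1 h2 h3).2.1, by
      have := congrArg (Int.cast (R := K)) (te6_h3 i j k h1 h2 h3)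
      push_cast at this
      rw [← sub_add_sub_cancel (m7 i) (m7 j) (m7 k), zpow_add₀ c0]
      linear_combination c ^ (m7 i - m7 j) * c ^ (m7 j - m7 k) * this⟩
  let σ : K ≃+* K := .ofBijective φ (Function.Involutive.bijective h.h2)
  obtain ⟨e⟩ := exists_equiv_SU (l := 5) (by decide) hK (σ := σ) hφ
  have e1 : ∀ (i j : Fin 6) (h : i ≠ j) t, (autSU (l := 5) (by decide) σ).σ (Matrix.SpecialLinearGroup.transvection h t) =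
      Matrix.SpecialLinearGroup.transvection (fun e => h (Fin.rev_injective e).symm : j.rev ≠ i.rev) (-φ t) :=
    fun i j h t => by
      have := (autSU (l := 5) (by decide) σ).σ_x ((mdA 5 (by decide)).q ⟨(i, j), h⟩) t
      rw [symA_q, slS_x, slS_x] at this
      exact this.trans (congrArg _ (by simp [autSU, autOf, σ]))
  have e2 : ∀ y, α.σ (f y) = f ((autSU (l := 5) (by decide) σ).σ y) ∧ f y ∈ X.U {s | rtv s (nE 1) = 0} := fun y => by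
    induction y using Classical.SL_transvection_induction with
    | h1 => simp
    | htransvec i j h t =>
      obtain ⟨k1, k2, k3⟩ := te6_h5 i j h
      refine ⟨?_, by rw [hf]; exact X.x_mem_U (e6_h4 i j h) _⟩
      rw [e1, hf, hf, α.σ_x, k1, k2, ha, map_mul, map_mul, map_intCast, map_zpow₀, hc]
      congr 1
      rcases k3 with ⟨k3, k4⟩ | ⟨k3 | k3, k4⟩ <;> have := congrArg (Int.cast (R := K)) k4 <;> push_cast at this <;>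
        rw [k3]
      · rw [zpow_zero, zpow_zero]; linear_combination φ t * this
      · rw [zpow_one, zpow_one]; linear_combination -c * φ t * this
      · rw [zpow_neg_one, zpow_neg_one, inv_neg]; linear_combination -c⁻¹ * φ t * this
    | hmul a b ha hb => exact ⟨by simp only [map_mul, ha.1, hb.1], by rw [map_mul]; exact mul_mem ha.2 hb.2⟩
  let g : SU 6 K q →* α.fix := ((f.comp (Subgroup.subtype _)).codRestrict α.fix fun y =>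
    (e2 y).1.trans (congrArg f y.2)).comp e.toMonoidHom
  let R : Subrepresentation (ρ.comp g) := ⟨FS ρ {s | 0 < rtv s (nE 1)}, fun y => h.stU_FS (fun a ha s hs => ⟨fun e => by
      rw [e, Set.mem_ofPred_eq, rtv_ng, Pi.neg_apply, neg_eq_zero] at ha
      exact hs.ne' ha, fun e => by
      rwa [Set.mem_ofPred_eq, rtv_refl_of_neg_one e, Pi.add_apply, show rtv a _ = 0 from ha, add_zero]⟩) _ (e2 _).2⟩
  obtain ⟨y, hy⟩ : ∃ y, R.toRepresentation y ≠ 1 := by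
    by_contra! k
    refine h0 fun v hv => mem_Eg_zero.2 fun t => ?_
    have := congrArg Subtype.val (LinearMap.congr_fun (k (e.symm ⟨Matrix.SpecialLinearGroup.transvection
      (show (2 : Fin 6) ≠ 3 by decide) (c⁻¹ * t), (e1 _ _ _ _).trans (by
        rw [map_mul, map_inv₀, hc, show φ t = t from t.2, inv_neg, neg_mul, neg_neg]; rfl)⟩)) ⟨v, hv⟩)
    change ρ (g _) v = v at this
    rwa [show g _ = zz α φ (rE 39) t from Subtype.ext (by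
      rw [h.coe_zz (by decide +kernel)]
      change f (e (e.symm _)).1 = _
      rw [e.apply_symm_apply, hf, show ε7 2 3 = 1 from rfl, show m7 2 - m7 3 = 1 from rfl]
      simp [c0]
      rfl)] at this
  have := Fact.mk hK
  exact le_of_add_le_right (inv_add_le R.toRepresentation (Classical.commutator_SU_eq_top (by decide) (by simp))
    (S2335.result 6 q (by decide) (by decide) hK (by simp)) hy)

theorem te6_small : ∀ q < 11, 2 ≤ q → ∀ j < 2, ¬ (q * (q ^ 6 - q ^ 3 + 1) * (q ^ 4 + 1) - (j + 1) ∣ q ^ 36 * ((q ^ 2 - 1) *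
    ((q ^ 5 + 1) * ((q ^ 6 - 1) * ((q ^ 8 - 1) * ((q ^ 9 + 1) * ((q ^ 12 - 1) * 1))))))) := by
  decide +kernel

theorem te6_1 (q : ℤ) (hq : 11 ≤ q) (h : ((-1) + 1 * q + (-1) * q ^ 4 + 1 * q ^ 5 + 1 * q ^ 7 + (-1) * q ^ 8 + 1 * q ^ 11) ∣ 1 * (((-1) + 1 * q ^ 2) * ((1 + 1 * q ^ 5) * (((-1) + 1 * q ^ 6) * (((-1) + 1 * q ^ 8) * ((1 + 1 * q ^ 9) * (((-1) + 1 * q ^ 12) * 1))))))) : False := by
  have h0 := dvd_repl h 7 (3 + 4 * q) ((-10) + (-1) * q + (-6) * q ^ 2 + (-1) * q ^ 3 + (-9) * q ^ 4 + (-2) * q ^ 5 + (-5) * q ^ 6 + 1 * q ^ 7 + (-4) * q ^ 8 + (-3) * q ^ 9 + (-4) * q ^ 10) (by ring)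
  have h1 := dvd_repl h0 7 ((-3) + (-4) * q + (-3) * q ^ 2 + (-4) * q ^ 3 + (-3) * q ^ 4) (4 + (-1) * q + 1 * q ^ 2 + (-1) * q ^ 3 + (-2) * q ^ 4 + (-2) * q ^ 5 + 2 * q ^ 6 + 1 * q ^ 7 + 3 * q ^ 8 + 4 * q ^ 9 + 3 * q ^ 10) (by ring)
  have h2 := dvd_repl h1 14 (2 + 5 * q + 2 * q ^ 2 + (-2) * q ^ 3 + 2 * q ^ 4 + 5 * q ^ 5) ((-16) + (-3) * q + 3 * q ^ 2 + 4 * q ^ 3 + (-6) * q ^ 4 + (-6) * q ^ 5 + (-8) * q ^ 6 + 3 * q ^ 7 + 2 * q ^ 8 + (-2) * q ^ 9 + (-5) * q ^ 10) (by ring)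
  have h3 := dvd_repl h2 21 ((-10) + 3 * q + 4 * q ^ 2 + 3 * q ^ 3 + 11 * q ^ 4 + 3 * q ^ 5 + 4 * q ^ 6 + 3 * q ^ 7) ((-11) + (-13) * q + (-1) * q ^ 2 + 1 * q ^ 3 + 2 * q ^ 4 + (-5) * q ^ 5 + (-2) * q ^ 6 + (-8) * q ^ 7 + (-3) * q ^ 8 + (-4) * q ^ 9 + (-3) * q ^ 10) (by ring)
  have h4 := dvd_repl h3 14 ((-8) + 1 * q + (-1) * q ^ 2 + (-6) * q ^ 3 + (-1) * q ^ 4 + 1 * q ^ 5 + 6 * q ^ 6 + 1 * q ^ 7 + (-1) * q ^ 8) (6 + 9 * q + (-2) * q ^ 2 + (-5) * q ^ 3 + (-3) * q ^ 4 + 11 * q ^ 5 + 3 * q ^ 6 + (-2) * q ^ 7 + (-6) * q ^ 8 + (-1) * q ^ 9 + 1 * q ^ 10) (by ring)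
  have h5 := dvd_repl h4 (7 * (1 + (-1) * q ^ 2 + 1 * q ^ 4)) ((-3) + (-4) * q + 1 * q ^ 2 + (-1) * q ^ 3 + 1 * q ^ 4 + 6 * q ^ 5 + 4 * q ^ 6 + 3 * q ^ 7) ((-4) + 1 * q + 2 * q ^ 2 + 2 * q ^ 3 + (-6) * q ^ 4 + (-4) * q ^ 5 + (-3) * q ^ 6) (by ring)
  obtain ⟨x, hx, rfl⟩ : ∃ x, 0 ≤ x ∧ q = x + 11 := ⟨q - 11, by omega, by ring⟩
  exact not_dvd_of h5 (b := (20500573548 + 7485299976 * x + 1023546300 * x ^ 2 + 62118672 * x ^ 3 + 1411788 * x ^ 4)) (c := (264616371773 + 277682942076 * x + 128617367652 * x ^ 2 + 35298591438 * x ^ 3 + 6428376411 * x ^ 4 + 818389188 * x ^ 5 + 74402251 * x ^ 6 + 4831443 * x ^ 7 + 219614 * x ^ 8 + 6655 * x ^ 9 + 121 * x ^ 10 + 1 * x ^ 11)) (by ring) (by ring) (by positivity) (by positivity)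

theorem te6_2 (q : ℤ) (hq : 11 ≤ q) (h : ((-2) + 1 * q + (-1) * q ^ 4 + 1 * q ^ 5 + 1 * q ^ 7 + (-1) * q ^ 8 + 1 * q ^ 11) ∣ 2 * (((-1) + 1 * q ^ 2) * ((1 + 1 * q ^ 5) * (((-1) + 1 * q ^ 6) * (((-1) + 1 * q ^ 8) * ((1 + 1 * q ^ 9) * (((-1) + 1 * q ^ 12) * 1))))))) : False := by
  have h0 := dvd_repl h (4 * ((-1) + 1 * q)) (1) (2 + (-3) * q + 2 * q ^ 2 + (-3) * q ^ 3 + 1 * q ^ 4 + (-2) * q ^ 5 + 1 * q ^ 6 + (-1) * q ^ 7 + (-1) * q ^ 9) (by ring)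
  have h1 := dvd_repl h0 88 ((-39) + (-25) * q + (-7) * q ^ 2 + (-9) * q ^ 3 + 1 * q ^ 4) (10 + (-11) * q + 11 * q ^ 2 + (-11) * q ^ 3 + (-28) * q ^ 4 + 3 * q ^ 5 + 29 * q ^ 6 + 26 * q ^ 7 + 7 * q ^ 8 + 9 * q ^ 9 + (-1) * q ^ 10) (by ring)
  have h2 := dvd_repl h1 (12 * ((-1) + 1 * q)) (5 + 4 * q + 9 * q ^ 2 + 8 * q ^ 3 + 1 * q ^ 4) (2 + (-15) * q + (-14) * q ^ 2 + (-7) * q ^ 3 + 1 * q ^ 4 + 2 * q ^ 5 + (-3) * q ^ 6 + (-9) * q ^ 7 + (-8) * q ^ 8 + (-1) * q ^ 9) (by ring)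
  have h3 := dvd_repl h2 (16 * ((-1) + 1 * q)) (5 + (-6) * q + (-1) * q ^ 2 + (-3) * q ^ 4 + 2 * q ^ 5 + (-1) * q ^ 6) (6 + 1 * q + (-4) * q ^ 2 + (-1) * q ^ 3 + 1 * q ^ 4 + 4 * q ^ 5 + (-1) * q ^ 6 + 3 * q ^ 7 + (-2) * q ^ 8 + 1 * q ^ 9) (by ring)
  have h4 := dvd_repl h3 8 ((-1) + 1 * q + (-1) * q ^ 2 + (-3) * q ^ 3 + (-1) * q ^ 4 + 1 * q ^ 5 + 3 * q ^ 6 + 1 * q ^ 7 + (-1) * q ^ 8) (6 + 3 * q + (-3) * q ^ 2 + (-5) * q ^ 3 + 5 * q ^ 5 + 3 * q ^ 6 + (-2) * q ^ 7 + (-3) * q ^ 8 + (-1) * q ^ 9 + 1 * q ^ 10) (by ring)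
  have h5 := dvd_repl h4 (24 * ((-1) + 1 * q)) (17 + (-2) * q + 15 * q ^ 2 + 8 * q ^ 3 + 1 * q ^ 4 + 6 * q ^ 5 + (-1) * q ^ 6 + 16 * q ^ 7 + 9 * q ^ 8 + 14 * q ^ 9 + 7 * q ^ 10) ((-10) + (-3) * q + (-32) * q ^ 2 + (-1) * q ^ 3 + (-11) * q ^ 4 + 8 * q ^ 5 + (-9) * q ^ 6 + (-9) * q ^ 7 + (-14) * q ^ 8 + (-7) * q ^ 9) (by ring)
  obtain ⟨x, hx, rfl⟩ : ∃ x, 0 ≤ x ∧ q = x + 11 := ⟨q - 11, by omega, by ring⟩
  exact not_dvd_of h5 (b := (259522560000 + 103809024000 * x + 15571353600 * x ^ 2 + 1038090240 * x ^ 3 + 25952256 * x ^ 4)) (c := (25594385320 + 181359218052 * x + 114069560352 * x ^ 2 + 34322619870 * x ^ 3 + 6403835943 * x ^ 4 + 818389188 * x ^ 5 + 74402251 * x ^ 6 + 4831443 * x ^ 7 + 219614 * x ^ 8 + 6655 * x ^ 9 + 121 * x ^ 10 + 1 * x ^ 11)) (by ring) (by ring) (by positivity) (by positivity)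

theorem te6_arith {q k : ℕ} (hq : IsPrimePow q) (h1 : q * (q ^ 6 - q ^ 3 + 1) * (q ^ 4 + 1) ≤ k + 2)
    (h : k ∣ q ^ 36 * ((q ^ 2 - 1) * ((q ^ 5 + 1) * ((q ^ 6 - 1) * ((q ^ 8 - 1) * ((q ^ 9 + 1) *
      ((q ^ 12 - 1) * 1))))))) : q * (q ^ 6 - q ^ 3 + 1) * (q ^ 4 + 1) ≤ k := by
  by_contra! h2
  obtain ⟨j, j2, hj⟩ : ∃ j < 2, q * (q ^ 6 - q ^ 3 + 1) * (q ^ 4 + 1) = k + (j + 1) :=
    ⟨q * (q ^ 6 - q ^ 3 + 1) * (q ^ 4 + 1) - k - 1, by omega, by omega⟩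
  have q2 := hq.two_le
  by_cases hb : q < 11
  · exact te6_small q hb q2 j j2 (by rwa [hj, Nat.add_sub_cancel])
  have h3 := Int.natCast_dvd_natCast.2 (dvd_of_pp (E := (q ^ 6 - q ^ 3 + 1) * (q ^ 4 + 1)) (j := j + 1) hq
    (by rw [← hj]; ring) (by omega) (by omega) h)
  have p1 : ∀ n, 1 ≤ q ^ n := fun n => Nat.one_le_pow _ _ (by omega)
  have h4 := congrArg (Nat.cast (R := ℤ)) hj
  push_cast [Nat.cast_sub (p1 _), Nat.cast_sub (Nat.pow_le_pow_right (by omega : 0 < q) (by omega : 3 ≤ 6))] at h3 h4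
  rw [eq_sub_of_add_eq h4.symm] at h3
  interval_cases j
  · exact te6_1 q (by omega) (by convert h3 using 1 <;> push_cast <;> ring)
  · exact te6_2 q (by omega) (by convert h3 using 1 <;> push_cast <;> ring)

end Cfsg.Agent.MinD
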