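import Cfsg.Agent.MinD.Fr

/-! Minimal degrees of orthogonal groups, part 2: Witt's theorem in `Ω`, invariant subgroups,
lower bounds for `cnt`. -/

set_option autoImplicit false
set_option linter.unusedSectionVars false

namespace Cfsg.Agent.MinD

open Cfsg.Agent.Geom Cfsg.Agent.Geom.Formed Cfsg.Agent.Root.Mx QuadraticMap Module
open scoped Pointwise

variable {F : Type*} [Field F] {V : Type*} [AddCommGroup V] [Module F V] {Q : QuadraticForm F V}

theorem mem_pf2 {a b x : V} : x ∈ pf (ofQuad Q) ![a, b] ↔ polar Q a x = 0 ∧ polar Q b x = 0 := by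
  simp [mem_pf, Fin.forall_fin_succ, ofQuad_B_apply]

theorem mem_pf3 {a b c x : V} :
    x ∈ pf (ofQuad Q) ![a, b, c] ↔ polar Q a x = 0 ∧ polar Q b x = 0 ∧ polar Q c x = 0 := by
  simp [mem_pf, Fin.forall_fin_succ, ofQuad_B_apply]

theorem mem_pf4 {a b c d x : V} : x ∈ pf (ofQuad Q) ![a, b, c, d] ↔
    polar Q a x = 0 ∧ polar Q b x = 0 ∧ polar Q c x = 0 ∧ polar Q d x = 0 := by
  simp [mem_pf, Fin.forall_fin_succ, ofQuad_B_apply]

theorem li_pair {p w : V} (hp0 : p ≠ 0) (hw : w ∉ F ∙ p) : LinearIndependent F ![p, w] := by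
  rw [LinearIndependent.pair_iff' hp0]
  intro a e
  exact hw (Submodule.mem_span_singleton.2 ⟨a, e⟩)

theorem finrank_span_pair (a b : V) : finrank F (Submodule.span F {a, b}) ≤ 2 := by
  have := finrank_span_fam (F := F) ![a, b]
  rwa [Matrix.range_cons, Matrix.range_cons, Matrix.range_empty, Set.union_empty] at this

variable [Finite F] [FiniteDimensional F V]

theorem finrank_pf_top {k : ℕ} (s : Fin k → V) :
    finrank F V ≤ finrank F (pf (ofQuad Q) s) + k := by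
  have := finrank_pf (Φ := ofQuad Q) s ⊤
  rwa [top_inf_eq, finrank_top] at this

theorem G_eq (hn : (ofQuad Q).Nondeg) (h5 : 5 ≤ finrank F V) : eichGroup Q = commutator (OG Q) :=
  eichGroup_eq_commutator' hn (notExc_of_finrank (by omega)) (by omega)

theorem mem_G_iff (hn : (ofQuad Q).Nondeg) (h5 : 5 ≤ finrank F V) (g : OG Q) :
    g ∈ eichGroup Q ↔ dick g = 1 ∧ spin g = 1 := by
  rw [G_eq hn h5, mem_commutator_iff hn (notExc_of_finrank (by omega))]

/-- A hyperbolic pair perpendicular to a small subspace. -/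
theorem exists_pair_perp (hn : (ofQuad Q).Nondeg) (U : Submodule F V)
    (h : 2 * finrank F U + 3 ≤ finrank F V) :
    ∃ x y, (ofQuad Q).IsPair x y ∧ x ∈ (ofQuad Q).perp U ∧ y ∈ (ofQuad Q).perp U := by
  have := hn.finrank_add_finrank_perp U
  obtain ⟨x, hx, hxU, hs⟩ := exists_sing_notMem (ofQuad Q) (U := (ofQuad Q).perp U) (R := U) (by omega)
  obtain ⟨y, hy, h1, h2, h3⟩ := hn.exists_hyperbolic_partner hxU hx hs.1 hs.2
  exact ⟨x, y, ⟨hs, ⟨h1, h2⟩, h3⟩, hx, hy⟩

theorem witt_G (hn : (ofQuad Q).Nondeg) {k : ℕ} (hk : 2 * k + 3 ≤ finrank F V) (h5 : 5 ≤ finrank F V)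
    {u v : Fin k → V} (hu : LinearIndependent F u) (hv : LinearIndependent F v)
    (hB : ∀ i j, polar Q (v i) (v j) = polar Q (u i) (u j)) (hQ : ∀ i, Q (v i) = Q (u i)) :
    ∃ g : eichGroup Q, ∀ i, g.1.1 (u i) = v i := by
  obtain ⟨g, hg, h⟩ := hn.witt_family hu hv hB hQ
  have hx : NotExc Q := notExc_of_finrank (by omega)
  have := finrank_span_fam (F := F) u
  obtain ⟨x, y, hxy, h1, h2⟩ := exists_pair_perp hn (Submodule.span F (Set.range u)) (by omega)
  obtain ⟨l, hl, h3, h4⟩ := exists_dick_spin_eq hn hx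
    (S := (fix (Submodule.span F (Set.range u))).subgroupOf (OG Q)) (fun v hv => by
      have e := hxy.quad_add_smul (Q v)
      have hv' : Q (x + Q v • y) ≠ 0 := by rwa [e]
      exact ⟨refl Q (x + Q v • y), refl_mem_fix (Submodule.add_mem _ h1 (Submodule.smul_mem _ _ h2)),
        dick_refl hn hv', by rw [spin_refl hn hv', e]⟩) ⟨g, hg⟩
  refine ⟨⟨_, (G_eq hn h5) ▸ mul_inv_mem_commutator hn hx h3 h4⟩, fun i => ?_⟩
  have : (l⁻¹).1 (u i) = u i := mem_fix.1 (inv_mem hl :) _ (Submodule.subset_span ⟨i, rfl⟩)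
  rw [← h i]
  exact congrArg g this

theorem witt1 (hn : (ofQuad Q).Nondeg) (h5 : 5 ≤ finrank F V) {u v : V} (hu : u ≠ 0) (hv : v ≠ 0)
    (hQ : Q v = Q u) : ∃ g : eichGroup Q, g.1.1 u = v := by
  obtain ⟨g, hg⟩ := witt_G hn (k := 1) (by omega) h5 (u := ![u]) (v := ![v]) (by simpa) (by simpa)
    (by simp [polar_self', hQ]) (by simpa)
  exact ⟨g, hg 0⟩

theorem exists_Gam (hn : (ofQuad Q).Nondeg) (h7 : 7 ≤ finrank F V) {p w w' : V} (hp0 : p ≠ 0)
    (hp : Q p = 0) (hw : polar Q p w = 0) (hw0 : w ∉ F ∙ p) (hw' : polar Q p w' = 0)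
    (hw0' : w' ∉ F ∙ p) {s : F} (hs : s ≠ 0) (hQ : Q w' = s ^ 2 * Q w) :
    ∃ φ ∈ Gam Q p, φ w = w' := by
  have hQ' : Q (s⁻¹ • w') = Q w := by rw [quad_smul, hQ]; field_simp
  obtain ⟨g, hg⟩ := witt_G hn (k := 2) (by omega) (by omega) (u := ![p, w]) (v := ![s⁻¹ • p, s⁻¹ • w'])
    (li_pair hp0 hw0) (li_pair (smul_ne_zero (inv_ne_zero hs) hp0) (by
      rw [Submodule.span_singleton_smul_eq (inv_ne_zero hs).isUnit,
        Submodule.smul_mem_iff _ (inv_ne_zero hs)]
      exact hw0'))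
    (by
      have h1 : polar Q w p = 0 := by rw [polar_comm, hw]
      have h2 : polar Q w' p = 0 := by rw [polar_comm, hw']
      simp only [Fin.forall_fin_two, Matrix.cons_val_zero, Matrix.cons_val_one, polar_self', hQ',
        quad_smul _ _ p, hp]
      simp [hw, hw', h1, h2])
    (by simp only [Fin.forall_fin_two, Matrix.cons_val_zero, Matrix.cons_val_one, hQ',
        quad_smul _ _ p, hp]; simp)
  refine ⟨g.1.1.trans (LinearEquiv.smulOfNeZero F V s hs), ⟨g, s⁻¹, inv_ne_zero hs, hg 0, fun x => ?_⟩, ?_⟩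
  · simp [hs]
  · have : g.1.1 w = s⁻¹ • w' := hg 1
    simp [this, hs]

theorem cnt_eq (hn : (ofQuad Q).Nondeg) (h7 : 7 ≤ finrank F V) {p w w' : V} (hp0 : p ≠ 0)
    (hp : Q p = 0) (hw : polar Q p w = 0) (hw0 : w ∉ F ∙ p) (hw' : polar Q p w' = 0)
    (hw0' : w' ∉ F ∙ p) {s : F} (hs : s ≠ 0) (hQ : Q w' = s ^ 2 * Q w) (A : AddSubgroup V) :
    cnt Q p A w' = cnt Q p A w := by
  obtain ⟨φ, hφ, rfl⟩ := exists_Gam hn h7 hp0 hp hw hw0 hw' hw0' hs hQ
  exact cnt_map A hφ w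

omit [Finite F] [FiniteDimensional F V] in
variable (Q) in
/-- Images of `A` under Eichler maps fixing `p` and `w`. -/
def Img (p w x : V) (A : AddSubgroup V) : Set (AddSubgroup V) :=
  Set.range fun y : pf (ofQuad Q) ![x, p, w] => (E Q x y).1.1 • A

omit [Finite F] [FiniteDimensional F V] in
theorem Img_sub {p w x : V} (hx : Q x = 0) (hxp : polar Q x p = 0) (hxw : polar Q x w = 0)
    {A : AddSubgroup V} (hw : w ∈ A) : Img Q p w x A ⊆ {A' ∈ Orb Q p A | w ∈ A'} := by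
  rintro _ ⟨⟨y, hy⟩, rfl⟩
  obtain ⟨h1, h2, h3⟩ := mem_pf3.1 hy
  refine ⟨⟨_, mem_Gam_of_fix _ (E_apply_fix hx h1 hxp (by rwa [polar_comm])), rfl⟩, ?_⟩
  have := E_apply_fix hx h1 hxw (by rwa [polar_comm])
  show w ∈ (E Q x y).1.1 • A
  rw [← this]
  exact mem_smul_iff.2 hw

omit [Finite F] [FiniteDimensional F V] in
variable (Q) in
/-- The stabiliser of `A` among the Eichler maps of `Img`. -/
def ImgS (p w x : V) (A : AddSubgroup V) : AddSubgroup (pf (ofQuad Q) ![x, p, w]) where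
  carrier := {y | (E Q x y).1.1 • A = A}
  zero_mem' := by simp [E_zero]
  add_mem' := fun {a b} ha hb => by
    have ha : (E Q x a).1.1 • A = A := ha
    have hb : (E Q x b).1.1 • A = A := hb
    show (E Q x (a + b)).1.1 • A = A
    rw [E_add (mem_pf3.1 a.2).1 (mem_pf3.1 b.2).1, Subgroup.coe_mul, Subgroup.coe_mul, mul_smul, hb, ha]
  neg_mem' := fun {a} ha => by
    have ha : (E Q x a).1.1 • A = A := ha
    show (E Q x (-a)).1.1 • A = A
    rw [E_neg (mem_pf3.1 a.2).1, Subgroup.coe_inv, Subgroup.coe_inv, inv_smul_eq_iff, ha]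

theorem card_Img [Finite V] (p w x : V) (A : AddSubgroup V) :
    Nat.card (pf (ofQuad Q) ![x, p, w]) = Nat.card (ImgS Q p w x A) * (Img Q p w x A).ncard := by
  refine card_eq_mul_range _ _ fun a b => ?_
  show _ ↔ (E Q x (a - b)).1.1 • A = A
  rw [E_sub (mem_pf3.1 a.2).1 (mem_pf3.1 b.2).1, Subgroup.coe_mul, Subgroup.coe_mul, mul_smul,
    Subgroup.coe_inv, Subgroup.coe_inv, inv_smul_eq_iff]

theorem char_le_Img [Finite V] {p w x : V} {A : AddSubgroup V} (h : ImgS Q p w x A ≠ ⊤) :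
    ringChar F ≤ (Img Q p w x A).ncard := by
  have h1 := card_Img (Q := Q) p w x A
  have := Fintype.ofFinite F
  obtain ⟨k, hp, hk⟩ := FiniteField.card F (ringChar F)
  have h2 : (Img Q p w x A).ncard ∣ ringChar F ^ (k * finrank F (pf (ofQuad Q) ![x, p, w])) := by
    rw [pow_mul, ← hk, ← Nat.card_eq_fintype_card, ← Module.natCard_eq_pow_finrank, h1]
    exact Dvd.intro_left _ rfl
  obtain ⟨j, -, hj⟩ := (Nat.dvd_prime_pow hp).1 h2
  rcases Nat.eq_zero_or_pos j with rfl | hj0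
  · rw [hj, pow_zero, mul_one] at h1
    exact absurd (AddSubgroup.eq_top_of_card_eq _ h1.symm) h
  · rw [hj]; exact Nat.le_self_pow hj0.ne' _

theorem inv_sub (hn : (ofQuad Q).Nondeg) (h7 : 7 ≤ finrank F V) {p w a : V} (hp0 : p ≠ 0)
    (hp : Q p = 0) (hw : polar Q p w = 0) (hw0 : w ∉ F ∙ p) {A : AddSubgroup V}
    (hpA : ∀ t : F, t • p ∈ A) (ha : a ∈ A) (hpa : polar Q p a = 0)
    (ha0 : a ∉ Submodule.span F {p, w})
    (hA : ∀ x y, Q x = 0 → polar Q x p = 0 → polar Q x w = 0 → polar Q x y = 0 → polar Q p y = 0 →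
      polar Q w y = 0 → ∀ b ∈ A, (E Q x y).1.1 b ∈ A) :
    ∀ v, polar Q p v = 0 → polar Q w v = 0 → v ∈ A := by
  have hwne : w ≠ 0 := by rintro rfl; exact hw0 (Submodule.zero_mem _)
  obtain ⟨r, hr, h1, h2, h3⟩ := hn.exists_hyperbolic_partner (H := F ∙ w) (p := p) (fun h => by
    obtain ⟨c, rfl⟩ := Submodule.mem_span_singleton.1 h
    have hc : c ≠ 0 := by rintro rfl; simp at hp0
    exact hw0 (Submodule.mem_span_singleton.2 ⟨c⁻¹, inv_smul_smul₀ hc w⟩))
    (mem_pp.2 (by rwa [polar_comm])) hp (polar_self_of_sing hp)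
  have hpr : (ofQuad Q).IsPair p r := ⟨sing_ofQuad.2 hp, ⟨h1, h2⟩, h3⟩
  have hwr : polar Q w r = 0 := mem_pp.1 hr
  have hrw : polar Q r w = 0 := by rwa [polar_comm]
  have hwE : w ∈ (ofQuad Q).pairPerp p r := mem_pairPerp_quad.2 ⟨hw, hrw⟩
  obtain ⟨z0, hz0, hz0'⟩ := hpr.exists_polar_eq hn hwE hwne 1
  have hd := hpr.finrank_pairPerp hn
  obtain ⟨z, hz, hzs, hz'⟩ := room hn (hpr.nondeg_pairPerp hn) ![w] (by omega) hz0
  have hwz : polar Q w z = 1 := by
    have := hz' 0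
    simp only [Matrix.cons_val_zero, ofQuad_B_apply] at this
    rw [this, polar_comm, hz0']
  have hzw : polar Q z w = 1 := by rwa [polar_comm]
  have hzz : polar Q z z = 0 := hzs.2
  obtain ⟨hpz, hrz⟩ := mem_pairPerp_quad.1 hz
  have hpp := polar_self_of_sing hp
  have hpr1 := hpr.polar_eq
  have hrp1 := hpr.polar_eq'
  have hrr : polar Q r r = 0 := h2
  have hwp : polar Q w p = 0 := by rwa [polar_comm]
  have hzp : polar Q z p = 0 := by rwa [polar_comm]
  have hzr : polar Q z r = 0 := by rwa [polar_comm]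
  set U := pf (ofQuad Q) ![p, r, w, z] with hU
  set w' := w - polar Q w w • z with hw'
  have hdec : ∀ v, v - polar Q r v • p - polar Q p v • r - polar Q z v • w - polar Q w' v • z ∈ U := by
    intro v
    rw [hU, mem_pf4]
    simp only [polar_sub_right, polar_smul_right, hpp, hpr1, hrp1, hrr, hw, hrw, hpz, hrz, hwp, hwr,
      hzp, hzr, hwz, hzw, hzz, hw', polar_sub_left, polar_smul_left, smul_eq_mul]
    refine ⟨?_, ?_, ?_, ?_⟩ <;> ring
  have hUn : ((ofQuad Q).restrict U).Nondeg := (ofQuad Q).restrict_nondeg_iff'.2 fun u hu h => by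
    obtain ⟨e1, e2, e3, e4⟩ := mem_pf4.1 hu
    refine hn _ fun v => ?_
    have := h _ (hdec v)
    simp only [ofQuad_B_apply, polar_sub_right, polar_smul_right, polar_comm Q u p, polar_comm Q u r,
      polar_comm Q u w, polar_comm Q u z, e1, e2, e3, e4, smul_zero, sub_zero] at this
    exact this
  have hU3 : 3 ≤ finrank F U := by have := finrank_pf_top (Q := Q) ![p, r, w, z]; rw [hU]; omega
  have hUA' : ∀ x ∈ U, ∀ y ∈ U, ∀ d g, AutCl.IsE (ofQuad Q) x y d g → ∀ a ∈ A, g a ∈ A := by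
    intro x hx y hy d g hg b hb
    obtain ⟨e1, e2, e3, e4⟩ := mem_pf4.1 hx
    obtain ⟨f1, f2, f3, f4⟩ := mem_pf4.1 hy
    rw [IsE_eq_eich hg]
    exact hA x y hg.sp.1 (by rwa [polar_comm]) (by rwa [polar_comm]) hg.pa f1 f3 b hb
  obtain ⟨x, hx, y, hy, hxy⟩ := exists_pair hn hUn hU3
  obtain ⟨x1, x2, x3, x4⟩ := mem_pf4.1 hx
  obtain ⟨y1, y2, y3, y4⟩ := mem_pf4.1 hy
  have hxw' : ∀ t : F, polar Q x (t • w') = 0 := fun t => by
    simp [hw', polar_comm Q x w, polar_comm Q x z, x3, x4]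
  have hE : ∀ t : F, ∀ b ∈ A, (E Q x (t • w')).1.1 b ∈ A := fun t =>
    hA x _ hxy.Q_left (by rwa [polar_comm]) (by rwa [polar_comm]) (hxw' t)
      (by simp [hw', hw, hpz]) (by simp [hw', hwz])
  have hUA : ∀ u ∈ U, u ∈ A := by
    by_cases h : ∃ u ∈ U, polar Q u a ≠ 0
    · exact le_of_inv hn hUn hU3 A hUA' ha h
    push Not at h
    have h0 : a - polar Q r a • p - polar Q p a • r - polar Q z a • w - polar Q w' a • z = 0 := by
      refine (ofQuad Q).restrict_nondeg_iff'.1 hUn _ (hdec a) fun u hu => ?_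
      obtain ⟨e1, e2, e3, e4⟩ := mem_pf4.1 hu
      simp only [ofQuad_B_apply, polar_sub_left, polar_smul_left, e1, e2, e3, e4, smul_zero, sub_zero]
      rw [polar_comm, h u hu]
    have hγ : polar Q w' a ≠ 0 := fun e => ha0 (Submodule.mem_span_pair.2
      ⟨polar Q r a, polar Q z a, by
        rw [e, hpa, zero_smul, zero_smul, sub_zero, sub_zero, sub_sub, sub_eq_zero] at h0
        exact h0.symm⟩)
    have h4 := A.sub_mem (hE 1 a ha) ha
    rw [E_apply_perp hxy.Q_left (hxw' 1) (h x hx), add_sub_cancel_left, one_smul] at h4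
    refine le_of_inv hn hUn hU3 A hUA' h4 ⟨y, hy, ?_⟩
    rw [ofQuad_B_apply, polar_smul_right, hxy.polar_eq', smul_eq_mul, mul_one]
    exact hγ
  have hw'A : ∀ t : F, t • w' ∈ A := fun t => by
    have h4 := hE t y (hUA y hy)
    rw [E_apply hxy.Q_left (hxw' t), hxy.polar_eq, one_smul] at h4
    have := A.sub_mem (A.add_mem (hUA y hy) (hUA _ (U.smul_mem
      (polar Q (t • w') y - Q (t • w') * 1) hx))) h4
    rwa [sub_sub_cancel] at this
  intro v hv1 hv2
  have := A.add_mem (A.add_mem (hUA _ (hdec v)) (hpA (polar Q r v))) (hw'A (polar Q z v))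
  convert this using 1
  simp only [hw', hv1, hv2, polar_sub_left, polar_smul_left, smul_eq_mul]
  module

theorem char_le_cnt [Finite V] (hn : (ofQuad Q).Nondeg) (h7 : 7 ≤ finrank F V) {p w a v : V}
    (hp0 : p ≠ 0) (hp : Q p = 0) (hw0 : w ∉ F ∙ p) {A : AddSubgroup V}
    (hpA : ∀ t : F, t • p ∈ A) (hAp : ∀ b ∈ A, polar Q p b = 0) (hwA : w ∈ A) (ha : a ∈ A)
    (ha0 : a ∉ Submodule.span F {p, w}) (hv : polar Q p v = 0) (hvA : v ∉ A) :
    ringChar F ≤ cnt Q p A w := by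
  by_contra! hc
  have key : ∀ w, w ∈ A → cnt Q p A w < ringChar F → ∀ x y, Q x = 0 → polar Q x p = 0 →
      polar Q x w = 0 → polar Q x y = 0 → polar Q p y = 0 → polar Q w y = 0 →
      ∀ b ∈ A, (E Q x y).1.1 b ∈ A := by
    intro w hw hc x y h1 h2 h3 h4 h5 h6 b hb
    by_cases h : ImgS Q p w x A = ⊤
    · have : (⟨y, mem_pf3.2 ⟨h4, h5, h6⟩⟩ : pf (ofQuad Q) ![x, p, w]) ∈ ImgS Q p w x A := by
        rw [h]; trivial
      have : (E Q x y).1.1 • A = A := this
      rw [← this]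
      exact mem_smul_iff.2 hb
    · exact absurd ((char_le_Img h).trans (Set.ncard_le_ncard (Img_sub h1 h2 h3 hw))) hc.not_ge
  have hw := hAp w hwA
  have h1 := inv_sub hn h7 hp0 hp hw hw0 hpA ha (hAp a ha) ha0 (key w hwA hc)
  have := finrank_span_pair (F := F) p w
  obtain ⟨x, y, hxy, hx, hy⟩ := exists_pair_perp hn (Submodule.span F {p, w}) (by omega)
  rw [mem_perp_span] at hx hy
  have x1 : polar Q p x = 0 := hx p (by simp)
  have x2 : polar Q w x = 0 := hx w (by simp)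
  have y1 : polar Q p y = 0 := hy p (by simp)
  have y2 : polar Q w y = 0 := hy w (by simp)
  set w2 := x + Q w • y with hw2
  have e1 : polar Q p w2 = 0 := by simp [hw2, x1, y1]
  have e2 : polar Q w w2 = 0 := by simp [hw2, x2, y2]
  have e3 : polar Q y w2 = 1 := by simp [hw2, hxy.polar_eq', polar_self_of_sing hxy.Q_right]
  have e4 : w2 ∉ F ∙ p := fun h => by
    obtain ⟨c, hc⟩ := Submodule.mem_span_singleton.1 h
    rw [← hc, polar_smul_right, polar_comm, y1, smul_zero] at e3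
    exact zero_ne_one e3
  have e5 : w ∉ Submodule.span F {p, w2} := fun h => by
    obtain ⟨c, d, hc⟩ := Submodule.mem_span_pair.1 h
    have : polar Q y w = d := by
      rw [← hc, polar_add_right, polar_smul_right, polar_smul_right, e3, polar_comm, y1]; simp
    rw [polar_comm, y2] at this
    subst this
    exact hw0 (Submodule.mem_span_singleton.2 ⟨c, by simpa using hc⟩)
  have hw2A := h1 w2 e1 e2
  have h2 := inv_sub hn h7 hp0 hp e1 e4 hpA hwA hw e5 (key w2 hw2A (by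
    rwa [cnt_eq hn h7 hp0 hp hw hw0 e1 e4 one_ne_zero (by rw [hw2, hxy.quad_add_smul]; ring)]))
  obtain ⟨z, hz, hz1⟩ := hn.exists_perp_eq_one' e5
  rw [mem_perp_span] at hz
  have z1 : polar Q p z = 0 := hz p (by simp)
  have z2 : polar Q w2 z = 0 := hz w2 (by simp)
  have z3 : polar Q w z = 1 := hz1
  refine hvA ?_
  have := A.add_mem (h1 (v - polar Q w v • z) (by simp [hv, z1]) (by simp [z3]))
    (h2 (polar Q w v • z) (by simp [z1]) (by simp [z2]))
  rwa [sub_add_cancel] at this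

end Cfsg.Agent.MinD
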